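import Mathlib
import Cfsg.Agent.Helper48.CoprimeGen
import Cfsg.Agent.Helper22.Coprime

set_option autoImplicit false

namespace Cfsg.Agent.Helper32

open Subgroup

/-- centralizer of a cyclic subgroup -/
theorem centralizer_zpowers_eq {S : Type*} [Group S] (a : S) :
    centralizer ((zpowers a : Subgroup S) : Set S) = centralizer {a} := by
  rw [zpowers_eq_closure, centralizer_closure]

/-- a nontrivial element of a cyclic group of prime order generates it -/
theorem zpowers_eq_of_mem_of_prime {S : Type*} [Group S] [Finite S] {q : ℕ} (hq : q.Prime) {a c : S}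
    (ha : a ^ q = 1) (hc : c ∈ zpowers a) (hc1 : c ≠ 1) : zpowers c = zpowers a := by
  have hcq : c ^ q = 1 := by
    obtain ⟨k, rfl⟩ := mem_zpowers_iff.mp hc
    rw [← zpow_natCast, ← zpow_mul, mul_comm, zpow_mul, zpow_natCast, ha, one_zpow]
  have hoc : orderOf c = q := by
    rcases (Nat.dvd_prime hq).mp (orderOf_dvd_of_pow_eq_one hcq) with h | h
    · exact absurd (orderOf_eq_one_iff.mp h) hc1
    · exact h
  have ha1 : a ≠ 1 := by
    rintro rfl
    rw [zpowers_one_eq_bot, mem_bot] at hc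
    exact hc1 hc
  have hoa : orderOf a = q := by
    rcases (Nat.dvd_prime hq).mp (orderOf_dvd_of_pow_eq_one ha) with h | h
    · exact absurd (orderOf_eq_one_iff.mp h) ha1
    · exact h
  apply eq_of_le_of_card_ge (zpowers_le.mpr hc)
  rw [Nat.card_zpowers, Nat.card_zpowers, hoc, hoa]

/-- a subgroup of prime order is generated by any of its nontrivial elements -/
theorem eq_zpowers_of_card_prime {S : Type*} [Group S] [Finite S] {q : ℕ} (hq : q.Prime) {X : Subgroup S}
    (hX : Nat.card X = q) {a : S} (ha : a ∈ X) (ha1 : a ≠ 1) : X = zpowers a := by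
  have hle : zpowers a ≤ X := zpowers_le.mpr ha
  have hdvd : orderOf a ∣ q := by
    rw [← hX, ← Nat.card_zpowers]; exact card_dvd_of_le hle
  have hoa : orderOf a = q := by
    rcases (Nat.dvd_prime hq).mp hdvd with h | h
    · exact absurd (orderOf_eq_one_iff.mp h) ha1
    · exact h
  symm
  apply eq_of_le_of_card_ge hle
  rw [Nat.card_zpowers, hoa, hX]

/-- Final step: if `a` centralizes `P₁`, normalizes `P₂` and acts fixed point freely on `P₂`, and `a` centralizes
`⁅P₁, P₂⁆`, then `⁅P₁, P₂⁆ = ⊥` (three subgroups lemma). -/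
theorem commutator_eq_bot_of_fpf {S : Type*} [Group S] [Finite S] (P₁ P₂ : Subgroup S) (a : S)
    (h1 : ∀ x ∈ P₁, a * x = x * a) (h2 : ∀ y ∈ P₂, a * y * a⁻¹ ∈ P₂)
    (h3 : ∀ y ∈ P₂, a * y = y * a → y = 1) (h4 : ∀ d ∈ ⁅P₁, P₂⁆, a * d = d * a) : ⁅P₁, P₂⁆ = ⊥ := by
  have hA : ⁅⁅zpowers a, P₁⁆, P₂⁆ = ⊥ := by
    have : ⁅zpowers a, P₁⁆ = ⊥ := by
      rw [commutator_eq_bot_iff_le_centralizer, zpowers_le, mem_centralizer_iff]
      intro x hx
      exact (h1 x hx).symm
    rw [this, commutator_bot_left]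
  have hB : ⁅⁅P₁, P₂⁆, zpowers a⁆ = ⊥ := by
    rw [commutator_eq_bot_iff_le_centralizer, centralizer_zpowers_eq]
    intro d hd
    rw [mem_centralizer_singleton_iff]
    exact (h4 d hd).symm
  have hC : ⁅⁅P₂, zpowers a⁆, P₁⁆ = ⊥ := commutator_commutator_eq_bot_of_rotate hA hB
  have hD : P₂ ≤ ⁅P₂, zpowers a⁆ := by
    have hmem : ∀ y : P₂, (y : S) * a * (y : S)⁻¹ * a⁻¹ ∈ P₂ := by
      intro y
      have := P₂.mul_mem y.2 (h2 _ (P₂.inv_mem y.2))
      have e : (y : S) * (a * (y : S)⁻¹ * a⁻¹) = (y : S) * a * (y : S)⁻¹ * a⁻¹ := by group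
      rwa [e] at this
    let f : P₂ → P₂ := fun y => ⟨(y : S) * a * (y : S)⁻¹ * a⁻¹, hmem y⟩
    have hinj : Function.Injective f := by
      intro y₁ y₂ h
      have h' : (y₁ : S) * a * (y₁ : S)⁻¹ * a⁻¹ = (y₂ : S) * a * (y₂ : S)⁻¹ * a⁻¹ := congrArg Subtype.val h
      have h'' : (y₁ : S) * a * (y₁ : S)⁻¹ = (y₂ : S) * a * (y₂ : S)⁻¹ := mul_right_cancel h'
      have hc : a * ((y₂ : S)⁻¹ * y₁) = ((y₂ : S)⁻¹ * y₁) * a := by
        calc a * ((y₂ : S)⁻¹ * y₁) = (y₂ : S)⁻¹ * ((y₂ : S) * a * (y₂ : S)⁻¹) * y₁ := by group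
          _ = (y₂ : S)⁻¹ * ((y₁ : S) * a * (y₁ : S)⁻¹) * y₁ := by rw [h'']
          _ = ((y₂ : S)⁻¹ * y₁) * a := by group
      have := h3 _ (P₂.mul_mem (P₂.inv_mem y₂.2) y₁.2) hc
      apply Subtype.ext
      rw [inv_mul_eq_one] at this
      exact this.symm
    have hsurj : Function.Surjective f := Finite.injective_iff_surjective.mp hinj
    intro y hy
    obtain ⟨y₁, hy₁⟩ := hsurj ⟨y, hy⟩
    have : (y₁ : S) * a * (y₁ : S)⁻¹ * a⁻¹ = y := congrArg Subtype.val hy₁
    rw [← this]
    exact commutator_mem_commutator y₁.2 (mem_zpowers a)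
  rw [commutator_comm, eq_bot_iff, ← hC]
  exact commutator_mono hD le_rfl


open Cfsg.Agent.Helper48 in
/-- Main induction for the commutation of the two nontrivial fixed point subgroups. -/
theorem commutator_fixed_aux.{u} {p q : ℕ} [Fact p.Prime] [Fact q.Prime] (hpq : p ≠ q) : ∀ n : ℕ,
    ∀ (S : Type u) [Group S] [Finite S] (P Q : Subgroup S) (a b : S), Nat.card P = n → P.Normal → IsPGroup p P →
    IsEA2 q Q → P ⊔ Q = ⊤ → a ∈ Q → b ∈ Q → a ≠ 1 → b ≠ 1 →
    (∀ c ∈ Q, c ∉ zpowers a → c ∉ zpowers b → P ⊓ centralizer {c} = ⊥) →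
    P ⊓ centralizer {a} ⊓ centralizer {b} = ⊥ →
    ⁅P ⊓ centralizer {a}, P ⊓ centralizer {b}⁆ = ⊥ := by
  intro n
  induction n using Nat.strong_induction_on with
  | _ n ih =>
  intro S _ _ P Q a b hn hPn hPp hQ hS ha hb ha1 hb1 H1 H2
  have hp : p.Prime := Fact.out
  have hqp : q.Prime := Fact.out
  by_cases hPbot : P = ⊥
  · rw [hPbot, bot_inf_eq, commutator_bot_left]
  -- `q` does not divide the order of subgroups of `P`
  have hqP : ∀ N : Subgroup S, N ≤ P → ¬ q ∣ Nat.card N := by
    intro N hN hdvd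
    obtain ⟨k, hk⟩ := (hPp.to_le hN).exists_card_eq
    rw [hk] at hdvd
    exact hpq ((Nat.prime_dvd_prime_iff_eq hqp hp).mp (hqp.dvd_of_dvd_pow hdvd)).symm
  have hQN : ∀ N : Subgroup S, N ≤ P → Q ⊓ N = ⊥ := by
    intro N hN
    apply disjoint_iff.mp
    apply Subgroup.disjoint_of_coprime_natCard
    rw [hQ.2.2]
    apply Nat.Coprime.pow_left
    rw [hqp.coprime_iff_not_dvd]
    exact hqP N hN
  have hcomm : ∀ s ∈ Q, ∀ t ∈ Q, s * t = t * s := hQ.1
  -- the centre of `P`
  set Z : Subgroup S := P ⊓ centralizer (P : Set S) with hZ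
  have hZn : Z.Normal := inferInstance
  have hZP : Z ≤ P := inf_le_left
  have hZne : Z ≠ ⊥ := by
    have hPnt : Nontrivial P := by
      exact (Subgroup.nontrivial_iff_ne_bot P).mpr hPbot
    have hcnt := hPp.center_nontrivial
    obtain ⟨z, hz⟩ := exists_ne (1 : Subgroup.center P)
    intro hbot
    apply hz
    have hmem : ((z : P) : S) ∈ Z := by
      refine Subgroup.mem_inf.mpr ⟨(z : P).2, ?_⟩
      rw [Subgroup.mem_centralizer_iff]
      intro y hy
      have := (Subgroup.mem_center_iff.mp z.2) ⟨y, hy⟩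
      exact congrArg Subtype.val this
    rw [hbot, Subgroup.mem_bot] at hmem
    exact Subtype.ext (Subtype.ext hmem)
  -- generation for `Z`
  have hZgen : Z ≤ cgen Z Q := by
    apply le_cgen Z Q (hqP Z hZP) _ hQ
    rw [normalizer_eq_top_iff.mpr hZn]; exact le_top
  obtain ⟨c, hcQ, hc1, hNne⟩ : ∃ c ∈ Q, c ≠ 1 ∧ Z ⊓ centralizer {c} ≠ ⊥ := by
    by_contra hcon
    push_neg at hcon
    apply hZne
    rw [eq_bot_iff]
    refine hZgen.trans ?_
    unfold cgen
    apply iSup_le
    rintro ⟨c, hcQ, hc1⟩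
    rw [hcon c hcQ hc1]
  set N : Subgroup S := Z ⊓ centralizer {c} with hN
  have hNP : N ≤ P := inf_le_left.trans hZP
  have hNn : N.Normal := by
    rw [← normalizer_eq_top_iff, eq_top_iff, ← hS]
    apply sup_le
    · apply mem_normalizer_of_forall_conj_mem
      intro g hg x hx
      have hxc : x ∈ centralizer (P : Set S) := hx.1.2
      have : g * x = x * g := (mem_centralizer_iff.mp hxc) g hg
      have e : g * x * g⁻¹ = x := by rw [this]; group
      rw [e]; exact hx
    · apply mem_normalizer_of_forall_conj_mem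
      intro t ht x hx
      refine mem_inf.mpr ⟨hZn.conj_mem x hx.1 t, ?_⟩
      rw [mem_centralizer_singleton_iff]
      have h1 : Commute x c := mem_centralizer_singleton_iff.mp hx.2
      have h2 : Commute t c := hcomm t ht c hcQ
      exact ((h2.mul_left h1).mul_left h2.inv_left).eq
  have hqN : ¬ q ∣ Nat.card N := hqP N hNP
  -- pass to the quotient by `N`
  set π := QuotientGroup.mk' N with hπ
  have hker : π.ker = N := QuotientGroup.ker_mk' N
  have hπsurj : Function.Surjective π := QuotientGroup.mk'_surjective N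
  have hexp : ∀ s ∈ Q, s ^ q = 1 := hQ.2.1
  have hnotin : ∀ s ∈ Q, s ≠ 1 → π s ≠ 1 := by
    intro s hs hs1 h
    have hsN : s ∈ N := by rw [← hker]; exact h
    have : s ∈ Q ⊓ N := mem_inf.mpr ⟨hs, hsN⟩
    rw [hQN N hNP, mem_bot] at this
    exact hs1 this
  have hmapz : ∀ s t : S, s ∈ zpowers t → π s ∈ zpowers (π t) := by
    intro s t hst
    obtain ⟨k, rfl⟩ := mem_zpowers_iff.mp hst
    rw [map_zpow]; exact zpow_mem (mem_zpowers _) k
  have hcardlt : Nat.card (P.map π) < n := by
    rw [← hn]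
    apply card_map_lt
    rw [hker, inf_of_le_right hNP]
    exact hNne
  have hle : ⁅P ⊓ centralizer {a}, P ⊓ centralizer {b}⁆ ≤ N := by
    have hIH := ih _ hcardlt (S ⧸ N) (P.map π) (Q.map π) (π a) (π b) rfl (hPn.map π hπsurj) (hPp.map π)
      (hQ.map π (by rw [hker]; exact hQN N hNP))
      (by rw [← Subgroup.map_sup, hS, ← MonoidHom.range_eq_map, MonoidHom.range_eq_top.mpr hπsurj])
      (mem_map_of_mem π ha) (mem_map_of_mem π hb) (hnotin a ha ha1) (hnotin b hb hb1) ?_ ?_
    · rw [← hker, ← Subgroup.map_eq_bot_iff, map_commutator, eq_bot_iff, ← hIH]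
      apply commutator_mono
      · rintro _ ⟨x, hx, rfl⟩
        refine mem_inf.mpr ⟨mem_map_of_mem π hx.1, ?_⟩
        rw [mem_centralizer_singleton_iff, ← map_mul, ← map_mul, mem_centralizer_singleton_iff.mp hx.2]
      · rintro _ ⟨x, hx, rfl⟩
        refine mem_inf.mpr ⟨mem_map_of_mem π hx.1, ?_⟩
        rw [mem_centralizer_singleton_iff, ← map_mul, ← map_mul, mem_centralizer_singleton_iff.mp hx.2]
    · -- H1 in the quotient
      rintro _ ⟨c', hc'Q, rfl⟩ hc'a hc'b
      have h := H1 c' hc'Q (fun h => hc'a (hmapz _ _ h)) (fun h => hc'b (hmapz _ _ h))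
      rw [eq_bot_iff]
      intro y hy
      obtain ⟨hy1, hxc⟩ := mem_inf.mp hy
      obtain ⟨x, hxP, rfl⟩ := mem_map.mp hy1
      rw [mem_centralizer_singleton_iff] at hxc
      obtain ⟨z, hz, hfix⟩ := Helper48.exists_fixed_in_coset N hqN (hexp c' hc'Q) hxc
      have hmem : x * z ∈ P ⊓ centralizer {c'} := by
        refine mem_inf.mpr ⟨P.mul_mem hxP (hNP hz), ?_⟩
        rw [mem_centralizer_singleton_iff]
        calc x * z * c' = (c' * (x * z) * c'⁻¹) * c' := by rw [hfix]
          _ = c' * (x * z) := by group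
      rw [h, mem_bot] at hmem
      rw [mem_bot]
      have hxN : x ∈ N := by
        have : x = z⁻¹ := eq_inv_of_mul_eq_one_left hmem
        rw [this]; exact N.inv_mem hz
      rw [← hker] at hxN
      exact hxN
    · -- H2 in the quotient
      rw [eq_bot_iff]
      intro y hy
      obtain ⟨hy1, hxb⟩ := mem_inf.mp hy
      obtain ⟨hy2, hxa⟩ := mem_inf.mp hy1
      obtain ⟨x, hxP, rfl⟩ := mem_map.mp hy2
      rw [mem_centralizer_singleton_iff] at hxa hxb
      have hclQ : closure {a, b} ≤ Q := by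
        rw [closure_le]
        intro s hs
        rcases hs with rfl | rfl
        · exact ha
        · exact hb
      have hcl : closure {a, b} ≤ (centralizer {π x}).comap π := by
        rw [closure_le]
        intro s hs
        rcases hs with rfl | rfl
        · show π s ∈ centralizer {π x}
          rw [mem_centralizer_singleton_iff]; exact hxa.symm
        · show π s ∈ centralizer {π x}
          rw [mem_centralizer_singleton_iff]; exact hxb.symm
      obtain ⟨h, hhN, hfix⟩ := Helper22.exists_fixed_in_coset q (closure {a, b}) N (hQ.isPGroup.to_le hclQ) hqN x (by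
        intro z hz h hh
        rw [← hker, MonoidHom.mem_ker]
        have hz' : π z * π x = π x * π z := mem_centralizer_singleton_iff.mp (mem_comap.mp (hcl hz))
        have hh1 : π h = 1 := by rw [← MonoidHom.mem_ker, hker]; exact hh
        simp only [map_mul, map_inv, hh1, mul_one]
        rw [hz']; group)
      have hmem : x * h ∈ P ⊓ centralizer {a} ⊓ centralizer {b} := by
        refine mem_inf.mpr ⟨mem_inf.mpr ⟨P.mul_mem hxP (hNP hhN), ?_⟩, ?_⟩
        · rw [mem_centralizer_singleton_iff]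
          have := hfix a (subset_closure (by simp))
          calc x * h * a = (a * (x * h) * a⁻¹) * a := by rw [this]
            _ = a * (x * h) := by group
        · rw [mem_centralizer_singleton_iff]
          have := hfix b (subset_closure (by simp))
          calc x * h * b = (b * (x * h) * b⁻¹) * b := by rw [this]
            _ = b * (x * h) := by group
      rw [H2, mem_bot] at hmem
      rw [mem_bot]
      have hxN : x ∈ N := by
        have : x = h⁻¹ := eq_inv_of_mul_eq_one_left hmem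
        rw [this]; exact N.inv_mem hhN
      rw [← hker] at hxN
      exact hxN
  have hcab : c ∈ zpowers a ∨ c ∈ zpowers b := by
    by_contra hcon
    push_neg at hcon
    have := H1 c hcQ hcon.1 hcon.2
    apply hNne
    rw [eq_bot_iff, ← this]
    exact inf_le_inf_right _ hZP
  have hnorm : ∀ s ∈ Q, ∀ t ∈ Q, ∀ y ∈ P ⊓ centralizer {t}, s * y * s⁻¹ ∈ P ⊓ centralizer {t} := by
    intro s hs t ht y hy
    refine mem_inf.mpr ⟨hPn.conj_mem y hy.1 s, ?_⟩
    rw [mem_centralizer_singleton_iff]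
    have h1 : Commute y t := mem_centralizer_singleton_iff.mp hy.2
    have h2 : Commute s t := hcomm s hs t ht
    exact ((h2.mul_left h1).mul_left h2.inv_left).eq
  rcases hcab with hca | hcb
  · have hz := zpowers_eq_of_mem_of_prime hqp (hexp a ha) hca hc1
    apply commutator_eq_bot_of_fpf _ _ a
    · intro x hx
      exact (mem_centralizer_singleton_iff.mp hx.2).symm
    · exact hnorm a ha b hb
    · intro y hy hay
      have : y ∈ P ⊓ centralizer {a} ⊓ centralizer {b} :=
        mem_inf.mpr ⟨mem_inf.mpr ⟨hy.1, mem_centralizer_singleton_iff.mpr hay.symm⟩, hy.2⟩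
      rwa [H2, mem_bot] at this
    · intro d hd
      have hdc : d ∈ centralizer {c} := (hle hd).2
      rw [← centralizer_zpowers_eq, hz, centralizer_zpowers_eq, mem_centralizer_singleton_iff] at hdc
      exact hdc.symm
  · have hz := zpowers_eq_of_mem_of_prime hqp (hexp b hb) hcb hc1
    rw [commutator_comm]
    apply commutator_eq_bot_of_fpf _ _ b
    · intro x hx
      exact (mem_centralizer_singleton_iff.mp hx.2).symm
    · exact hnorm b hb a ha
    · intro y hy hby
      have : y ∈ P ⊓ centralizer {a} ⊓ centralizer {b} :=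
        mem_inf.mpr ⟨hy, mem_centralizer_singleton_iff.mpr hby.symm⟩
      rwa [H2, mem_bot] at this
    · intro d hd
      rw [commutator_comm] at hd
      have hdc : d ∈ centralizer {c} := (hle hd).2
      rw [← centralizer_zpowers_eq, hz, centralizer_zpowers_eq, mem_centralizer_singleton_iff] at hdc
      exact hdc.symm

open Cfsg.Agent.Helper48 in
/-- **Two fixed point subgroups.** Let `P` be a normal `p`-subgroup of `S = PQ` with `Q` elementary abelian of
order `q ^ 2`, `q ≠ p`. If `a, b ∈ Q` are nontrivial, `C_P(a) ∩ C_P(b) = 1` and every `c ∈ Q` outside `⟨a⟩ ∪ ⟨b⟩`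
acts fixed point freely on `P`, then `P = C_P(a) × C_P(b)`. -/
theorem two_fixed {p q : ℕ} [Fact p.Prime] [Fact q.Prime] (hpq : p ≠ q) {S : Type*} [Group S] [Finite S]
    (P Q : Subgroup S) (a b : S) (hPn : P.Normal) (hPp : IsPGroup p P) (hQ : IsEA2 q Q) (hS : P ⊔ Q = ⊤)
    (ha : a ∈ Q) (hb : b ∈ Q) (ha1 : a ≠ 1) (hb1 : b ≠ 1)
    (H1 : ∀ c ∈ Q, c ∉ zpowers a → c ∉ zpowers b → P ⊓ centralizer {c} = ⊥)
    (H2 : P ⊓ centralizer {a} ⊓ centralizer {b} = ⊥) :
    ⁅P ⊓ centralizer {a}, P ⊓ centralizer {b}⁆ = ⊥ ∧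
      (P ⊓ centralizer {a}) ⊓ (P ⊓ centralizer {b}) = ⊥ ∧
      (P ⊓ centralizer {a}) ⊔ (P ⊓ centralizer {b}) = P := by
  have hp : p.Prime := Fact.out
  have hqp : q.Prime := Fact.out
  refine ⟨commutator_fixed_aux hpq _ S P Q a b rfl hPn hPp hQ hS ha hb ha1 hb1 H1 H2, ?_, ?_⟩
  · rw [eq_bot_iff, ← H2]
    intro x hx
    exact mem_inf.mpr ⟨hx.1, hx.2.2⟩
  · apply le_antisymm (sup_le inf_le_left inf_le_left)
    have hqP : ¬ q ∣ Nat.card P := by
      intro hdvd
      obtain ⟨k, hk⟩ := hPp.exists_card_eq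
      rw [hk] at hdvd
      exact hpq ((Nat.prime_dvd_prime_iff_eq hqp hp).mp (hqp.dvd_of_dvd_pow hdvd)).symm
    have hgen : P ≤ cgen P Q := by
      apply le_cgen P Q hqP _ hQ
      rw [normalizer_eq_top_iff.mpr hPn]; exact le_top
    refine hgen.trans ?_
    unfold cgen
    apply iSup_le
    rintro ⟨c, hcQ, hc1⟩
    by_cases hca : c ∈ zpowers a
    · have hz := zpowers_eq_of_mem_of_prime hqp (hQ.2.1 a ha) hca hc1
      have : centralizer {c} = centralizer {a} := by
        rw [← centralizer_zpowers_eq, hz, centralizer_zpowers_eq]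
      show P ⊓ centralizer {c} ≤ _
      rw [this]; exact le_sup_left
    by_cases hcb : c ∈ zpowers b
    · have hz := zpowers_eq_of_mem_of_prime hqp (hQ.2.1 b hb) hcb hc1
      have : centralizer {c} = centralizer {b} := by
        rw [← centralizer_zpowers_eq, hz, centralizer_zpowers_eq]
      show P ⊓ centralizer {c} ≤ _
      rw [this]; exact le_sup_right
    · show P ⊓ centralizer {c} ≤ _
      rw [H1 c hcQ hca hcb]; exact bot_le

end Cfsg.Agent.Helper32
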