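import Mathlib
import Cfsg.Prelude.Def_Transfer
import Cfsg.Agent.S0055
import Cfsg.Agent.Helper32.CoprimeTwo

/-!
# B-G Theorem 3.6, endgame: common lemmas (helper32)

* `tr ρ v n`: the partial trace `∏_{i<n} ρ^i v ρ^{-i}`;
* `card_le_card_fixed`: if the conjugates `ρ^i W ρ^{-i}` (`0 < i < r`) of a subgroup `W` of an abelian
  `ρ`-invariant subgroup `V` all lie in a subgroup `U` with `W ⊓ U = ⊥` and `ρ ^ r = 1`, then
  `|W| ≤ |C_V(ρ)|`;
* `fix_le_commutator_of_sup_eq`: if `B₁ ⊔ B₂ = A` (abelian, coprime action on abelian `V`, `C_V(A) = 1`)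
  then `C_V(B₂) ≤ [V, B₁]`;
* `commutator_le_centralizer_of_isCyclic`: elements normalizing a cyclic subgroup have their
  commutators centralizing it.
-/

set_option autoImplicit false
open Subgroup
open scoped commutatorElement

namespace Cfsg.Agent.Helper32.BG36

variable {X : Type*} [Group X]

/-- the partial trace `∏_{i<n} ρ^i v ρ^{-i}` -/
def tr (ρ v : X) : ℕ → X
  | 0 => 1
  | n + 1 => tr ρ v n * (ρ ^ n * v * (ρ ^ n)⁻¹)

theorem tr_zero (ρ v : X) : tr ρ v 0 = 1 := rfl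

theorem tr_succ (ρ v : X) (n : ℕ) : tr ρ v (n + 1) = tr ρ v n * (ρ ^ n * v * (ρ ^ n)⁻¹) := rfl

theorem conj_pow_mem {V : Subgroup X} {ρ : X} (hρ : ρ ∈ normalizer (V : Set X)) (n : ℕ) {v : X}
    (hv : v ∈ V) : ρ ^ n * v * (ρ ^ n)⁻¹ ∈ V :=
  (mem_normalizer_iff.mp (pow_mem hρ n) v).mp hv

theorem tr_mem {V : Subgroup X} {ρ : X} (hρ : ρ ∈ normalizer (V : Set X)) {v : X} (hv : v ∈ V)
    (n : ℕ) : tr ρ v n ∈ V := by
  induction n with
  | zero => exact V.one_mem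
  | succ n ih => exact V.mul_mem ih (conj_pow_mem hρ n hv)

theorem tr_succ' (ρ v : X) (n : ℕ) : tr ρ v (n + 1) = v * (ρ * tr ρ v n * ρ⁻¹) := by
  induction n with
  | zero => simp [tr]
  | succ n ih =>
    have h : ρ * (tr ρ v n * (ρ ^ n * v * (ρ ^ n)⁻¹)) * ρ⁻¹ =
        ρ * tr ρ v n * ρ⁻¹ * (ρ ^ (n + 1) * v * (ρ ^ (n + 1))⁻¹) := by
      rw [pow_succ']; group
    calc tr ρ v (n + 1 + 1) = tr ρ v (n + 1) * (ρ ^ (n + 1) * v * (ρ ^ (n + 1))⁻¹) := rfl
      _ = v * (ρ * tr ρ v n * ρ⁻¹) * (ρ ^ (n + 1) * v * (ρ ^ (n + 1))⁻¹) := by rw [ih]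
      _ = v * (ρ * tr ρ v n * ρ⁻¹ * (ρ ^ (n + 1) * v * (ρ ^ (n + 1))⁻¹)) := by rw [mul_assoc]
      _ = v * (ρ * (tr ρ v n * (ρ ^ n * v * (ρ ^ n)⁻¹)) * ρ⁻¹) := by rw [h]
      _ = v * (ρ * tr ρ v (n + 1) * ρ⁻¹) := rfl

/-- the full trace is fixed by `ρ` -/
theorem tr_fixed {V : Subgroup X} (hVc : ∀ a ∈ V, ∀ b ∈ V, a * b = b * a) {ρ : X}
    (hρ : ρ ∈ normalizer (V : Set X)) {r : ℕ} (hρr : ρ ^ r = 1) {v : X} (hv : v ∈ V) :
    ρ * tr ρ v r * ρ⁻¹ = tr ρ v r := by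
  have h1 : tr ρ v (r + 1) = tr ρ v r * v := by
    rw [tr_succ, hρr]; simp
  have h2 := tr_succ' ρ v r
  rw [h1, hVc _ (tr_mem hρ hv r) _ hv] at h2
  exact (mul_left_cancel h2).symm

/-- the trace is multiplicative on `V` -/
theorem tr_mul {V : Subgroup X} (hVc : ∀ a ∈ V, ∀ b ∈ V, a * b = b * a) {ρ : X}
    (hρ : ρ ∈ normalizer (V : Set X)) {v w : X} (hv : v ∈ V) (hw : w ∈ V) (n : ℕ) :
    tr ρ (v * w) n = tr ρ v n * tr ρ w n := by
  induction n with
  | zero => simp [tr]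
  | succ n ih =>
    rw [tr_succ, tr_succ, tr_succ, ih]
    have hc : ρ ^ n * (v * w) * (ρ ^ n)⁻¹ = (ρ ^ n * v * (ρ ^ n)⁻¹) * (ρ ^ n * w * (ρ ^ n)⁻¹) := by
      group
    rw [hc]
    have h3 := hVc _ (tr_mem hρ hw n) _ (conj_pow_mem hρ n hv)
    calc tr ρ v n * tr ρ w n * (ρ ^ n * v * (ρ ^ n)⁻¹ * (ρ ^ n * w * (ρ ^ n)⁻¹))
        = tr ρ v n * (tr ρ w n * (ρ ^ n * v * (ρ ^ n)⁻¹)) * (ρ ^ n * w * (ρ ^ n)⁻¹) := by group
      _ = tr ρ v n * ((ρ ^ n * v * (ρ ^ n)⁻¹) * tr ρ w n) * (ρ ^ n * w * (ρ ^ n)⁻¹) := by rw [h3]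
      _ = tr ρ v n * (ρ ^ n * v * (ρ ^ n)⁻¹) * (tr ρ w n * (ρ ^ n * w * (ρ ^ n)⁻¹)) := by group

theorem tr_one (ρ : X) (n : ℕ) : tr ρ 1 n = 1 := by
  induction n with
  | zero => rfl
  | succ n ih => rw [tr_succ, ih]; simp

theorem tr_inv {V : Subgroup X} (hVc : ∀ a ∈ V, ∀ b ∈ V, a * b = b * a) {ρ : X}
    (hρ : ρ ∈ normalizer (V : Set X)) {v : X} (hv : v ∈ V) (n : ℕ) :
    tr ρ v⁻¹ n = (tr ρ v n)⁻¹ := by
  have h := tr_mul hVc hρ hv (V.inv_mem hv) n
  rw [mul_inv_cancel, tr_one] at h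
  exact (eq_inv_of_mul_eq_one_right h.symm)

/-- the shifted partial trace lies in `U` -/
theorem conj_tr_mem {U : Subgroup X} {ρ w : X} {r : ℕ}
    (hconj : ∀ i, 0 < i → i < r → ρ ^ i * w * (ρ ^ i)⁻¹ ∈ U) (n : ℕ) (hn : n < r) :
    ρ * tr ρ w n * ρ⁻¹ ∈ U := by
  induction n with
  | zero => simp [tr, U.one_mem]
  | succ n ih =>
    have h : ρ * tr ρ w (n + 1) * ρ⁻¹ =
        ρ * tr ρ w n * ρ⁻¹ * (ρ ^ (n + 1) * w * (ρ ^ (n + 1))⁻¹) := by
      rw [tr_succ, pow_succ']; group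
    rw [h]
    exact U.mul_mem (ih (Nat.lt_of_succ_lt hn)) (hconj (n + 1) (Nat.succ_pos n) hn)

/-- **Trace lemma.** -/
theorem card_le_card_fixed [Finite X] {V W U : Subgroup X}
    (hVc : ∀ a ∈ V, ∀ b ∈ V, a * b = b * a) {ρ : X} (hρ : ρ ∈ normalizer (V : Set X)) {r : ℕ}
    (hr : 0 < r) (hρr : ρ ^ r = 1) (hWV : W ≤ V) (hWU : W ⊓ U = ⊥)
    (hconj : ∀ i, 0 < i → i < r → ∀ w ∈ W, ρ ^ i * w * (ρ ^ i)⁻¹ ∈ U) :
    Nat.card W ≤ Nat.card ↥(V ⊓ centralizer ({ρ} : Set X)) := by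
  have hfix : ∀ w : W, tr ρ (w : X) r ∈ V ⊓ centralizer ({ρ} : Set X) := by
    intro w
    refine mem_inf.mpr ⟨tr_mem hρ (hWV w.2) r, ?_⟩
    rw [mem_centralizer_iff]
    intro y hy
    rw [Set.mem_singleton_iff] at hy
    subst hy
    have h := tr_fixed hVc hρ hρr (hWV w.2)
    calc y * tr y (w : X) r = (y * tr y (w : X) r * y⁻¹) * y := by group
      _ = tr y (w : X) r * y := by rw [h]
  refine Nat.card_le_card_of_injective (fun w : W => (⟨tr ρ (w : X) r, hfix w⟩ :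
    ↥(V ⊓ centralizer ({ρ} : Set X)))) ?_
  intro w w' hww
  have h1 : tr ρ (w : X) r = tr ρ (w' : X) r := congrArg Subtype.val hww
  -- the trace of `w * w'⁻¹` is trivial
  set c : X := (w : X) * (w' : X)⁻¹ with hc
  have hcW : c ∈ W := W.mul_mem w.2 (W.inv_mem w'.2)
  have h2 : tr ρ c r = 1 := by
    rw [hc, tr_mul hVc hρ (hWV w.2) (V.inv_mem (hWV w'.2)), tr_inv hVc hρ (hWV w'.2), h1,
      mul_inv_cancel]
  -- `tr ρ c r = c * u` with `u ∈ U`
  obtain ⟨k, rfl⟩ : ∃ k, r = k + 1 := ⟨r - 1, by omega⟩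
  have h3 := tr_succ' ρ c k
  have h4 : ρ * tr ρ c k * ρ⁻¹ ∈ U :=
    conj_tr_mem (fun i hi hi' => hconj i hi hi' c hcW) k (Nat.lt_succ_self k)
  rw [h2] at h3
  have h5 : c ∈ U := by
    have : c = (ρ * tr ρ c k * ρ⁻¹)⁻¹ := eq_inv_of_mul_eq_one_left h3.symm
    rw [this]
    exact U.inv_mem h4
  have h6 : c ∈ W ⊓ U := ⟨hcW, h5⟩
  rw [hWU, mem_bot] at h6
  have h7 : (w : X) = (w' : X) := by
    have := h6
    rw [hc] at this
    exact mul_inv_eq_one.mp this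
  exact Subtype.ext h7

/-- centralizer of a join -/
theorem centralizer_sup_eq (B₁ B₂ : Subgroup X) :
    centralizer ((B₁ ⊔ B₂ : Subgroup X) : Set X) =
      centralizer (B₁ : Set X) ⊓ centralizer (B₂ : Set X) := by
  apply le_antisymm
  · exact le_inf (centralizer_le (SetLike.coe_subset_coe.mpr le_sup_left))
      (centralizer_le (SetLike.coe_subset_coe.mpr le_sup_right))
  · intro c hc
    have h1 : B₁ ≤ centralizer ({c} : Set X) := by
      intro b hb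
      rw [mem_centralizer_iff]
      intro y hy
      rw [Set.mem_singleton_iff] at hy
      subst hy
      exact ((mem_centralizer_iff.mp hc.1) b hb).symm
    have h2 : B₂ ≤ centralizer ({c} : Set X) := by
      intro b hb
      rw [mem_centralizer_iff]
      intro y hy
      rw [Set.mem_singleton_iff] at hy
      subst hy
      exact ((mem_centralizer_iff.mp hc.2) b hb).symm
    rw [mem_centralizer_iff]
    intro b hb
    have := (mem_centralizer_iff.mp ((sup_le h1 h2) hb)) c (Set.mem_singleton c)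
    exact this.symm

/-- If `g` centralizes `B` and normalizes `V`, then `g` normalizes `C_V(B)`. More generally if `g`
normalizes both `B` and `V`. -/
theorem mem_normalizer_fix {V B : Subgroup X} {g : X} (hgV : g ∈ normalizer (V : Set X))
    (hgB : g ∈ normalizer (B : Set X)) :
    g ∈ normalizer ((V ⊓ centralizer (B : Set X) : Subgroup X) : Set X) := by
  have key : ∀ g : X, g ∈ normalizer (V : Set X) → g ∈ normalizer (B : Set X) →
      ∀ h, h ∈ V ⊓ centralizer (B : Set X) → g * h * g⁻¹ ∈ V ⊓ centralizer (B : Set X) := by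
    intro g hgV hgB h hh
    refine mem_inf.mpr ⟨(mem_normalizer_iff.mp hgV h).mp hh.1, ?_⟩
    rw [mem_centralizer_iff]
    intro b hb
    have hb' : g⁻¹ * b * g ∈ B := (mem_normalizer_iff''.mp hgB b).mp hb
    have := (mem_centralizer_iff.mp hh.2) _ hb'
    calc b * (g * h * g⁻¹) = g * ((g⁻¹ * b * g) * h) * g⁻¹ := by group
      _ = g * (h * (g⁻¹ * b * g)) * g⁻¹ := by rw [this]
      _ = g * h * g⁻¹ * b := by group
  rw [mem_normalizer_iff]
  intro h
  constructor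
  · exact key g hgV hgB h
  · intro hh
    have := key g⁻¹ (inv_mem hgV) (inv_mem hgB) _ hh
    simpa [mul_assoc] using this

/-- **Hyperplane independence.** -/
theorem fix_le_commutator_of_sup_eq [Finite X] {A V B₁ B₂ : Subgroup X}
    (hVc : ∀ a ∈ V, ∀ b ∈ V, a * b = b * a) (hAc : ∀ a ∈ A, ∀ b ∈ A, a * b = b * a)
    (hAV : A ≤ normalizer (V : Set X)) (hcop : (Nat.card A).Coprime (Nat.card V))
    (hB₁ : B₁ ≤ A) (hB₂ : B₂ ≤ A) (hsup : B₁ ⊔ B₂ = A)
    (hfix : V ⊓ centralizer (A : Set X) = ⊥) :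
    V ⊓ centralizer (B₂ : Set X) ≤ ⁅V, B₁⁆ := by
  set W : Subgroup X := V ⊓ centralizer (B₂ : Set X) with hW
  have : IsMulCommutative W := ⟨⟨fun a b => Subtype.ext (hVc a a.2.1 b b.2.1)⟩⟩
  have hB₁W : B₁ ≤ normalizer (W : Set X) := by
    intro g hg
    refine mem_normalizer_fix (hAV (hB₁ hg)) ?_
    -- `g` centralizes `B₂`, hence normalizes it
    rw [mem_normalizer_iff]
    intro b
    constructor
    · intro hb
      have : g * b = b * g := hAc g (hB₁ hg) b (hB₂ hb)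
      rw [this]; simpa using hb
    · intro hb
      by_contra hb'
      -- `g * b * g⁻¹ ∈ B₂ ⊆ A`, so `b ∈ A`, and then `g * b * g⁻¹ = b`
      have hbA : b ∈ A := by
        have h1 : g * b * g⁻¹ ∈ A := hB₂ hb
        have : b = g⁻¹ * (g * b * g⁻¹) * g := by group
        rw [this]
        exact A.mul_mem (A.mul_mem (A.inv_mem (hB₁ hg)) h1) (hB₁ hg)
      have : g * b = b * g := hAc g (hB₁ hg) b hbA
      rw [this] at hb
      exact hb' (by simpa using hb)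
  have hcop' : (Nat.card B₁).Coprime (Nat.card W) :=
    Nat.Coprime.coprime_dvd_left (card_dvd_of_le hB₁)
      (Nat.Coprime.coprime_dvd_right (card_dvd_of_le inf_le_left) hcop)
  have h := (Cfsg.Agent.S0055.result B₁ W hB₁W hcop').2
  have h0 : W ⊓ centralizer (B₁ : Set X) = ⊥ := by
    rw [eq_bot_iff, ← hfix, ← hsup, centralizer_sup_eq]
    intro x hx
    exact ⟨hx.1.1, hx.2, hx.1.2⟩
  rw [h0, bot_sup_eq] at h
  rw [← h]
  exact commutator_mono inf_le_left le_rfl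

/-- Elements normalizing a cyclic subgroup have commutators centralizing it. -/
theorem commutator_le_centralizer_of_isCyclic {W Q P : Subgroup X} (hW : IsCyclic W)
    (hQ : Q ≤ normalizer (W : Set X)) (hP : P ≤ normalizer (W : Set X)) :
    ⁅Q, P⁆ ≤ centralizer (W : Set X) := by
  -- the conjugation action `N(W) → Aut(W)` has commutative target
  let e := IsCyclic.mulAutMulEquiv W
  have hcomm : ∀ a b : MulAut W, a * b = b * a := by
    intro a b
    apply e.injective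
    rw [map_mul, map_mul, mul_comm]
  rw [commutator_le]
  intro g hg h hh
  have hgN := hQ hg
  have hhN := hP hh
  set a : normalizer (W : Set X) := ⟨g, hgN⟩ with ha
  set b : normalizer (W : Set X) := ⟨h, hhN⟩ with hb
  have hk : ⁅a, b⁆ ∈ W.normalizerMonoidHom.ker := by
    rw [MonoidHom.mem_ker, map_commutatorElement, commutatorElement_def,
      hcomm (W.normalizerMonoidHom a) (W.normalizerMonoidHom b), mul_inv_cancel_right,
      mul_inv_cancel]
  rw [normalizerMonoidHom_ker, mem_subgroupOf] at hk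
  have hcoe : ((⁅a, b⁆ : normalizer (W : Set X)) : X) = ⁅g, h⁆ := by
    simp [commutatorElement_def, ha, hb]
  rw [hcoe] at hk
  exact hk

end Cfsg.Agent.Helper32.BG36
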