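import Mathlib
import Cfsg.Prelude.Def_Transfer
import Cfsg.Agent.S0055
import Cfsg.Agent.Helper32.BG36A

/-!
# B-G Theorem 3.6, endgame: conjugate subgroups and hyperplanes (helper32)
-/

set_option autoImplicit false
open Subgroup
open scoped commutatorElement

namespace Cfsg.Agent.Helper32.BG36

variable {X : Type*} [Group X]

/-- the conjugate subgroup `g B g⁻¹` -/
def cj (g : X) (B : Subgroup X) : Subgroup X := B.map (MulAut.conj g).toMonoidHom

theorem mem_cj {g x : X} {B : Subgroup X} : x ∈ cj g B ↔ g⁻¹ * x * g ∈ B := by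
  unfold cj
  rw [mem_map]
  constructor
  · rintro ⟨b, hb, rfl⟩
    simpa [MulAut.conj_apply, mul_assoc] using hb
  · intro h
    exact ⟨g⁻¹ * x * g, h, by simp [MulAut.conj_apply, mul_assoc]⟩

theorem conj_mem_cj {g b : X} {B : Subgroup X} (hb : b ∈ B) : g * b * g⁻¹ ∈ cj g B := by
  rw [mem_cj]; simpa [mul_assoc] using hb

theorem cj_one (B : Subgroup X) : cj 1 B = B := by
  ext x; rw [mem_cj]; simp

theorem cj_mul (g h : X) (B : Subgroup X) : cj (g * h) B = cj g (cj h B) := by
  ext x; rw [mem_cj, mem_cj, mem_cj]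
  have : (g * h)⁻¹ * x * (g * h) = h⁻¹ * (g⁻¹ * x * g) * h := by group
  rw [this]

theorem cj_eq_self_iff {g : X} {B : Subgroup X} : cj g B = B ↔ g ∈ normalizer (B : Set X) := by
  rw [mem_normalizer_iff'']
  constructor
  · intro h x
    rw [← mem_cj, h]
  · intro h
    ext x
    rw [mem_cj]
    exact (h x).symm

theorem cj_mono {g : X} {B C : Subgroup X} (h : B ≤ C) : cj g B ≤ cj g C := map_mono h

theorem cj_le_of_mem_normalizer {g : X} {B Q : Subgroup X} (h : B ≤ Q)
    (hg : g ∈ normalizer (Q : Set X)) : cj g B ≤ Q := by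
  calc cj g B ≤ cj g Q := cj_mono h
    _ = Q := cj_eq_self_iff.mpr hg

theorem card_cj (g : X) (B : Subgroup X) : Nat.card (cj g B) = Nat.card B := by
  unfold cj
  exact (Nat.card_congr (B.equivMapOfInjective _ (MulAut.conj g).injective).toEquiv).symm

theorem cj_inv_cj (g : X) (B : Subgroup X) : cj g⁻¹ (cj g B) = B := by
  rw [← cj_mul, inv_mul_cancel, cj_one]

theorem cj_cj_inv (g : X) (B : Subgroup X) : cj g (cj g⁻¹ B) = B := by
  rw [← cj_mul, mul_inv_cancel, cj_one]

theorem cj_ne_bot {g : X} {B : Subgroup X} (h : B ≠ ⊥) : cj g B ≠ ⊥ := by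
  intro h'
  apply h
  have := cj_inv_cj g B
  rw [h'] at this
  rw [← this]
  unfold cj
  exact map_bot _

/-- conjugation and fixed points -/
theorem cj_fix (g : X) (V B : Subgroup X) (hg : g ∈ normalizer (V : Set X)) :
    cj g (V ⊓ centralizer (B : Set X)) = V ⊓ centralizer ((cj g B : Subgroup X) : Set X) := by
  ext x
  rw [mem_cj, mem_inf, mem_inf, mem_centralizer_iff, mem_centralizer_iff]
  constructor
  · rintro ⟨h1, h2⟩
    refine ⟨?_, ?_⟩
    · have := (mem_normalizer_iff.mp hg _).mp h1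
      simpa [mul_assoc] using this
    · intro b hb
      rw [SetLike.mem_coe, mem_cj] at hb
      have := h2 _ hb
      calc b * x = g * ((g⁻¹ * b * g) * (g⁻¹ * x * g)) * g⁻¹ := by group
        _ = g * ((g⁻¹ * x * g) * (g⁻¹ * b * g)) * g⁻¹ := by rw [this]
        _ = x * b := by group
  · rintro ⟨h1, h2⟩
    refine ⟨(mem_normalizer_iff''.mp hg _).mp h1, ?_⟩
    intro b hb
    have hb' : g * b * g⁻¹ ∈ ((cj g B : Subgroup X) : Set X) := conj_mem_cj hb
    have := h2 _ hb'
    calc b * (g⁻¹ * x * g) = g⁻¹ * ((g * b * g⁻¹) * x) * g := by group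
      _ = g⁻¹ * (x * (g * b * g⁻¹)) * g := by rw [this]
      _ = g⁻¹ * x * g * b := by group

/-- normalizer of a conjugate -/
theorem mem_normalizer_cj {g y : X} {B : Subgroup X} :
    g ∈ normalizer ((cj y B : Subgroup X) : Set X) ↔ y⁻¹ * g * y ∈ normalizer (B : Set X) := by
  rw [← cj_eq_self_iff, ← cj_eq_self_iff, ← cj_mul]
  constructor
  · intro h
    have : cj (y⁻¹ * g * y) B = cj y⁻¹ (cj (g * y) B) := by
      rw [← cj_mul]; congr 1; group
    rw [this, h, cj_inv_cj]
  · intro h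
    have : cj (g * y) B = cj y (cj (y⁻¹ * g * y) B) := by
      rw [← cj_mul]; congr 1; group
    rw [this, h]

theorem card_mul_relIndex_eq {B Q : Subgroup X} (h : B ≤ Q) :
    Nat.card B * B.relIndex Q = Nat.card Q := by
  have := relIndex_mul_relIndex ⊥ B Q bot_le h
  rwa [relIndex_bot_left, relIndex_bot_left] at this

/-- relIndex of conjugates in an invariant subgroup -/
theorem relIndex_cj {g : X} {B Q : Subgroup X} [Finite Q] (h : B ≤ Q)
    (hg : g ∈ normalizer (Q : Set X)) : (cj g B).relIndex Q = B.relIndex Q := by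
  have h1 := card_mul_relIndex_eq (cj_le_of_mem_normalizer h hg)
  have h2 := card_mul_relIndex_eq h
  rw [card_cj] at h1
  have : Finite B := Finite.of_injective (inclusion h) (inclusion_injective h)
  have hpos : 0 < Nat.card B := Nat.card_pos
  exact Nat.eq_of_mul_eq_mul_left hpos (h1.trans h2.symm)

/-- a subgroup of prime relative index is maximal -/
theorem eq_of_relIndex_prime {B K Q : Subgroup X} {q : ℕ} (hq : q.Prime) (hBK : B ≤ K) (hKQ : K ≤ Q)
    (hB : B.relIndex Q = q) (hne : B ≠ K) : K = Q := by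
  have h := relIndex_mul_relIndex B K Q hBK hKQ
  rw [hB] at h
  rcases (Nat.dvd_prime hq).mp (Dvd.intro_left _ h) with h1 | h1
  · exact le_antisymm hKQ (relIndex_eq_one.mp h1)
  · rw [h1] at h
    have h2 : B.relIndex K = 1 := by
      have := hq.pos
      nlinarith [Nat.eq_of_mul_eq_mul_right this (by rw [one_mul]; exact h : B.relIndex K * q = 1 * q)]
    exact absurd (le_antisymm hBK (relIndex_eq_one.mp h2)) hne

/-- two distinct hyperplanes generate -/
theorem sup_eq_of_relIndex_prime {B₁ B₂ Q : Subgroup X} {q : ℕ} (hq : q.Prime) (h₁ : B₁ ≤ Q)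
    (h₂ : B₂ ≤ Q) (hB₁ : B₁.relIndex Q = q) (hB₂ : B₂.relIndex Q = q) (hne : B₁ ≠ B₂) :
    B₁ ⊔ B₂ = Q := by
  by_cases h : B₁ = B₁ ⊔ B₂
  · -- then `B₂ ≤ B₁`, so `B₂ = B₁` or `B₁ = Q`
    have h21 : B₂ ≤ B₁ := by rw [h]; exact le_sup_right
    by_contra hne'
    have := eq_of_relIndex_prime hq h21 h₁ hB₂ (fun e => hne e.symm)
    rw [← h, this] at hne'
    exact hne' rfl
  · exact eq_of_relIndex_prime hq le_sup_left (sup_le h₁ h₂) hB₁ h

end Cfsg.Agent.Helper32.BG36
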