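import Mathlib
import Cfsg.Prelude.Def_Transfer
import Cfsg.Agent.S0055
import Cfsg.Agent.Helper32.BG36A
import Cfsg.Agent.Helper32.BG36B

/-!
# B-G Theorem 3.6, endgame: the abelian case, part 1 (helper32)

Context `AbCtx`: an abelian `q`-group `Q` acting coprimely on the abelian `p`-group `V` with
`C_V(Q) = 1`, normalized by a `p`-group `P` and by `R₀ = ⟨ρ⟩` of prime order `r`, `C_P(g) = 1` for
`1 ≠ g ∈ R₀`, `|C_V(ρ)| ≤ p`, everything inside a group of odd order.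
-/

set_option autoImplicit false
open Subgroup
open scoped commutatorElement

namespace Cfsg.Agent.Helper32.BG36

variable {X : Type*} [Group X]

/-- elements of a join of two elementwise commuting subgroups -/
theorem exists_mul_of_mem_sup {S T : Subgroup X} (hc : ∀ s ∈ S, ∀ t ∈ T, s * t = t * s) {x : X}
    (hx : x ∈ S ⊔ T) : ∃ s ∈ S, ∃ t ∈ T, x = s * t := by
  rw [sup_eq_closure] at hx
  induction hx using closure_induction with
  | mem x hx =>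
    rcases hx with hx | hx
    · exact ⟨x, hx, 1, T.one_mem, (mul_one x).symm⟩
    · exact ⟨1, S.one_mem, x, hx, (one_mul x).symm⟩
  | one => exact ⟨1, S.one_mem, 1, T.one_mem, (mul_one 1).symm⟩
  | mul x y _ _ hx hy =>
    obtain ⟨s, hs, t, ht, rfl⟩ := hx
    obtain ⟨s', hs', t', ht', rfl⟩ := hy
    refine ⟨s * s', S.mul_mem hs hs', t * t', T.mul_mem ht ht', ?_⟩
    have := hc s' hs' t ht
    calc s * t * (s' * t') = s * (t * s') * t' := by group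
      _ = s * (s' * t) * t' := by rw [this]
      _ = s * s' * (t * t') := by group
  | inv x _ hx =>
    obtain ⟨s, hs, t, ht, rfl⟩ := hx
    refine ⟨s⁻¹, S.inv_mem hs, t⁻¹, T.inv_mem ht, ?_⟩
    have := hc s hs t ht
    rw [mul_inv_rev]
    have h2 : t⁻¹ * s⁻¹ = (s * t)⁻¹ := by group
    have h3 : s⁻¹ * t⁻¹ = (t * s)⁻¹ := by group
    rw [h2, h3, this]

/-- In a finite group, an element `g` normalizing `P` and acting fixed-point-freely on it: every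
element of the coset `g P` is a `P`-conjugate of `g`. -/
theorem exists_conj_eq_mul [Finite X] {P : Subgroup X} {g : X} (hgP : g ∈ normalizer (P : Set X))
    (hfpf : ∀ y ∈ P, g * y = y * g → y = 1) {x : X} (hx : x ∈ P) :
    ∃ y ∈ P, y⁻¹ * g * y = g * x := by
  have hmem : ∀ y : P, g⁻¹ * (y : X)⁻¹ * g * (y : X) ∈ P := by
    intro y
    have h1 : g⁻¹ * (y : X)⁻¹ * g ∈ P := (mem_normalizer_iff''.mp hgP _).mp (P.inv_mem y.2)
    exact P.mul_mem h1 y.2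
  let f : P → P := fun y => ⟨g⁻¹ * (y : X)⁻¹ * g * (y : X), hmem y⟩
  have hinj : Function.Injective f := by
    intro y z hyz
    have h1 : g⁻¹ * (y : X)⁻¹ * g * (y : X) = g⁻¹ * (z : X)⁻¹ * g * (z : X) :=
      congrArg Subtype.val hyz
    have h2 : g * ((y : X) * (z : X)⁻¹) = ((y : X) * (z : X)⁻¹) * g := by
      have h3 : (y : X)⁻¹ * g * (y : X) = (z : X)⁻¹ * g * (z : X) := by
        have := congrArg (fun t => g * t) h1
        simpa [mul_assoc] using this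
      calc g * ((y : X) * (z : X)⁻¹) = (y : X) * ((y : X)⁻¹ * g * (y : X)) * (z : X)⁻¹ := by group
        _ = (y : X) * ((z : X)⁻¹ * g * (z : X)) * (z : X)⁻¹ := by rw [h3]
        _ = ((y : X) * (z : X)⁻¹) * g := by group
    have h4 := hfpf _ (P.mul_mem y.2 (P.inv_mem z.2)) h2
    exact Subtype.ext (mul_inv_eq_one.mp h4)
  have hsurj : Function.Surjective f := Finite.surjective_of_injective hinj
  obtain ⟨y, hy⟩ := hsurj ⟨x, hx⟩
  refine ⟨y, y.2, ?_⟩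
  have h1 : g⁻¹ * (y : X)⁻¹ * g * (y : X) = x := congrArg Subtype.val hy
  rw [← h1]; group

/-- the abelian context -/
structure AbCtx (p q r : ℕ) (V Q P R₀ : Subgroup X) (ρ : X) : Prop where
  hVc : ∀ a ∈ V, ∀ b ∈ V, a * b = b * a
  hVp : IsPGroup p V
  hQc : ∀ a ∈ Q, ∀ b ∈ Q, a * b = b * a
  hQq : IsPGroup q Q
  hPp : IsPGroup p P
  hQV : Q ≤ normalizer (V : Set X)
  hPV : P ≤ normalizer (V : Set X)
  hRV : R₀ ≤ normalizer (V : Set X)
  hPQ : P ≤ normalizer (Q : Set X)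
  hRQ : R₀ ≤ normalizer (Q : Set X)
  hRP : R₀ ≤ normalizer (P : Set X)
  hfix : V ⊓ centralizer (Q : Set X) = ⊥
  hρ : ρ ∈ R₀
  hρ1 : ρ ≠ 1
  hρr : ρ ^ r = 1
  hgen : ∀ g ∈ R₀, g ≠ 1 → ρ ∈ zpowers g
  hfpf : ∀ g ∈ R₀, g ≠ 1 → ∀ y ∈ P, g * y = y * g → y = 1
  hCV : Nat.card ↥(V ⊓ centralizer ({ρ} : Set X)) ≤ p
  hoddX : Odd (Nat.card X)

namespace AbCtx

variable {p q r : ℕ} [hp : Fact p.Prime] [hq : Fact q.Prime] [hr : Fact r.Prime]
variable {V Q P R₀ : Subgroup X} {ρ : X}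

theorem pow_ne_one (c : AbCtx p q r V Q P R₀ ρ) {i : ℕ} (h0 : 0 < i) (hi : i < r) : ρ ^ i ≠ 1 := by
  have ho : orderOf ρ = r := orderOf_eq_prime c.hρr c.hρ1
  intro h
  have := orderOf_dvd_of_pow_eq_one h
  rw [ho] at this
  exact absurd (Nat.le_of_dvd h0 this) (not_le.mpr hi)

/-- if some nontrivial element of `R₀` normalizes `B`, so does `ρ` -/
theorem rho_mem_normalizer (c : AbCtx p q r V Q P R₀ ρ) {B : Subgroup X} {g : X} (hg : g ∈ R₀)
    (hg1 : g ≠ 1) (hgB : g ∈ normalizer (B : Set X)) : ρ ∈ normalizer (B : Set X) :=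
  (zpowers_le.mpr hgB) (c.hgen g hg hg1)

theorem pow_not_mem_normalizer (c : AbCtx p q r V Q P R₀ ρ) {B : Subgroup X}
    (hB : ρ ∉ normalizer (B : Set X)) {i : ℕ} (h0 : 0 < i) (hi : i < r) :
    ρ ^ i ∉ normalizer (B : Set X) := fun h =>
  hB (c.rho_mem_normalizer (pow_mem c.hρ i) (c.pow_ne_one h0 hi) h)

theorem coprimeQV [Finite X] (c : AbCtx p q r V Q P R₀ ρ) (hpq : p ≠ q) :
    (Nat.card Q).Coprime (Nat.card V) := by
  obtain ⟨a, ha⟩ := c.hQq.exists_card_eq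
  obtain ⟨b, hb⟩ := c.hVp.exists_card_eq
  rw [ha, hb]
  exact Nat.Coprime.pow _ _ ((Nat.coprime_primes hq.out hp.out).mpr (Ne.symm hpq))

/-- hyperplanes of `Q` -/
def IsHyp (Q : Subgroup X) (q : ℕ) (B : Subgroup X) : Prop := B ≤ Q ∧ B.relIndex Q = q

theorem isHyp_cj [Finite X] {B : Subgroup X} (hB : IsHyp Q q B) {g : X}
    (hg : g ∈ normalizer (Q : Set X)) : IsHyp Q q (cj g B) :=
  ⟨cj_le_of_mem_normalizer hB.1 hg, (relIndex_cj hB.1 hg).trans hB.2⟩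

theorem fix_le_comm [Finite X] (c : AbCtx p q r V Q P R₀ ρ) (hpq : p ≠ q) {B₁ B₂ : Subgroup X}
    (h₁ : IsHyp Q q B₁) (h₂ : IsHyp Q q B₂) (hne : B₁ ≠ B₂) :
    V ⊓ centralizer (B₂ : Set X) ≤ ⁅V, B₁⁆ :=
  fix_le_commutator_of_sup_eq c.hVc c.hQc c.hQV (c.coprimeQV hpq) h₁.1 h₂.1
    (sup_eq_of_relIndex_prime hq.out h₁.1 h₂.1 h₁.2 h₂.2 hne) c.hfix

theorem fix_inf_comm [Finite X] (c : AbCtx p q r V Q P R₀ ρ) (hpq : p ≠ q) {B : Subgroup X}
    (hB : IsHyp Q q B) : (V ⊓ centralizer (B : Set X)) ⊓ ⁅V, B⁆ = ⊥ := by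
  have : IsMulCommutative V := ⟨⟨fun a b => Subtype.ext (c.hVc a a.2 b b.2)⟩⟩
  have hcop : (Nat.card B).Coprime (Nat.card V) :=
    Nat.Coprime.coprime_dvd_left (card_dvd_of_le hB.1) (c.coprimeQV hpq)
  exact (Cfsg.Agent.S0055.result B V (hB.1.trans c.hQV) hcop).1

theorem conj_fix_mem [Finite X] (c : AbCtx p q r V Q P R₀ ρ) {B : Subgroup X} {g w : X}
    (hg : g ∈ normalizer (V : Set X)) (hw : w ∈ V ⊓ centralizer (B : Set X)) :
    g * w * g⁻¹ ∈ V ⊓ centralizer ((cj g B : Subgroup X) : Set X) := by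
  have h1 : g * w * g⁻¹ ∈ cj g (V ⊓ centralizer (B : Set X)) := conj_mem_cj hw
  rwa [cj_fix _ _ _ hg] at h1

/-- a hyperplane moved by `ρ` has few fixed points -/
theorem card_fix_le [Finite X] (c : AbCtx p q r V Q P R₀ ρ) (hpq : p ≠ q) {B : Subgroup X}
    (hB : IsHyp Q q B) (hm : ρ ∉ normalizer (B : Set X)) :
    Nat.card ↥(V ⊓ centralizer (B : Set X)) ≤ Nat.card ↥(V ⊓ centralizer ({ρ} : Set X)) := by
  refine card_le_card_fixed c.hVc (c.hRV c.hρ) hr.out.pos c.hρr inf_le_left (c.fix_inf_comm hpq hB) ?_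
  intro i h0 hi w hw
  have hgV : ρ ^ i ∈ normalizer (V : Set X) := pow_mem (c.hRV c.hρ) i
  have hgQ : ρ ^ i ∈ normalizer (Q : Set X) := pow_mem (c.hRQ c.hρ) i
  have hne : B ≠ cj (ρ ^ i) B := fun h =>
    c.pow_not_mem_normalizer hm h0 hi (cj_eq_self_iff.mp h.symm)
  exact c.fix_le_comm hpq hB (isHyp_cj hB hgQ) hne (c.conj_fix_mem hgV hw)

theorem card_ge_of_ne_bot [Finite X] (c : AbCtx p q r V Q P R₀ ρ) {W : Subgroup X} (hWV : W ≤ V)
    (hW : W ≠ ⊥) : p ≤ Nat.card W := by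
  have hWp : IsPGroup p W := c.hVp.to_le hWV
  obtain ⟨k, hk⟩ := hWp.exists_card_eq
  rcases Nat.eq_zero_or_pos k with h0 | h0
  · rw [h0, pow_zero] at hk
    exact absurd ((card_eq_one).mp hk) hW
  · rw [hk]
    exact Nat.le_self_pow (Nat.pos_iff_ne_zero.mp h0) p

/-- two moved hyperplanes in different `R₀`-orbits cannot both have fixed points -/
theorem two_moved_false [Finite X] (c : AbCtx p q r V Q P R₀ ρ) (hpq : p ≠ q) {B B' : Subgroup X}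
    (hB : IsHyp Q q B) (hB' : IsHyp Q q B') (hm : ρ ∉ normalizer (B : Set X))
    (hm' : ρ ∉ normalizer (B' : Set X)) (hne : ∀ i, i < r → B' ≠ cj (ρ ^ i) B)
    (hW : V ⊓ centralizer (B : Set X) ≠ ⊥) (hW' : V ⊓ centralizer (B' : Set X) ≠ ⊥) : False := by
  set W₁ : Subgroup X := V ⊓ centralizer (B : Set X) with hW₁
  set W₂ : Subgroup X := V ⊓ centralizer (B' : Set X) with hW₂
  have hBB' : B ≠ B' := by
    intro h
    have := hne 0 hr.out.pos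
    rw [pow_zero, cj_one] at this
    exact this h.symm
  have h12 : W₂ ≤ ⁅V, B⁆ := c.fix_le_comm hpq hB hB' hBB'
  have h21 : W₁ ≤ ⁅V, B'⁆ := c.fix_le_comm hpq hB' hB hBB'.symm
  have h11 : W₁ ⊓ ⁅V, B⁆ = ⊥ := c.fix_inf_comm hpq hB
  have h22 : W₂ ⊓ ⁅V, B'⁆ = ⊥ := c.fix_inf_comm hpq hB'
  have hcomm : ∀ s ∈ W₁, ∀ t ∈ W₂, s * t = t * s := fun s hs t ht => c.hVc s hs.1 t ht.1
  have hWU : (W₁ ⊔ W₂) ⊓ (⁅V, B⁆ ⊓ ⁅V, B'⁆) = ⊥ := by
    rw [eq_bot_iff]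
    rintro x ⟨hx, hxU⟩
    obtain ⟨s, hs, t, ht, rfl⟩ := exists_mul_of_mem_sup hcomm hx
    have hs1 : s = 1 := by
      have hsU : s ∈ ⁅V, B⁆ := by
        have : s = (s * t) * t⁻¹ := by group
        rw [this]
        exact mul_mem hxU.1 (inv_mem (h12 ht))
      have : s ∈ W₁ ⊓ ⁅V, B⁆ := ⟨hs, hsU⟩
      rwa [h11, mem_bot] at this
    have ht1 : t = 1 := by
      have htU : t ∈ ⁅V, B'⁆ := by
        have := hxU.2
        rwa [hs1, one_mul] at this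
      have : t ∈ W₂ ⊓ ⁅V, B'⁆ := ⟨ht, htU⟩
      rwa [h22, mem_bot] at this
    rw [hs1, ht1, mul_one, mem_bot]
  have hconj : ∀ i, 0 < i → i < r → ∀ w ∈ W₁ ⊔ W₂, ρ ^ i * w * (ρ ^ i)⁻¹ ∈ ⁅V, B⁆ ⊓ ⁅V, B'⁆ := by
    intro i h0 hi w hw
    obtain ⟨s, hs, t, ht, rfl⟩ := exists_mul_of_mem_sup hcomm hw
    have hgV : ρ ^ i ∈ normalizer (V : Set X) := pow_mem (c.hRV c.hρ) i
    have hgQ : ρ ^ i ∈ normalizer (Q : Set X) := pow_mem (c.hRQ c.hρ) i
    have hsplit : ρ ^ i * (s * t) * (ρ ^ i)⁻¹ = (ρ ^ i * s * (ρ ^ i)⁻¹) * (ρ ^ i * t * (ρ ^ i)⁻¹) := by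
      group
    rw [hsplit]
    have hs' := c.conj_fix_mem hgV hs
    have ht' := c.conj_fix_mem hgV ht
    have hne1 : B ≠ cj (ρ ^ i) B := fun h =>
      c.pow_not_mem_normalizer hm h0 hi (cj_eq_self_iff.mp h.symm)
    have hne2 : B' ≠ cj (ρ ^ i) B' := fun h =>
      c.pow_not_mem_normalizer hm' h0 hi (cj_eq_self_iff.mp h.symm)
    have hne3 : B' ≠ cj (ρ ^ i) B := hne i hi
    have hne4 : B ≠ cj (ρ ^ i) B' := by
      intro h
      -- then `B' = cj (ρ^(r-i)) B`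
      have h5 : ρ ^ (r - i) * ρ ^ i = 1 := by
        rw [← pow_add, Nat.sub_add_cancel hi.le, c.hρr]
      have h6 : cj (ρ ^ (r - i)) B = B' := by
        rw [h, ← cj_mul, h5, cj_one]
      exact hne (r - i) (Nat.sub_lt hr.out.pos h0) h6.symm
    refine mul_mem (mem_inf.mpr ⟨?_, ?_⟩) (mem_inf.mpr ⟨?_, ?_⟩)
    · exact c.fix_le_comm hpq hB (isHyp_cj hB hgQ) hne1 hs'
    · exact c.fix_le_comm hpq hB' (isHyp_cj hB hgQ) hne3 hs'
    · exact c.fix_le_comm hpq hB (isHyp_cj hB' hgQ) hne4 ht'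
    · exact c.fix_le_comm hpq hB' (isHyp_cj hB' hgQ) hne2 ht'
  have hle : W₁ ⊔ W₂ ≤ V := sup_le inf_le_left inf_le_left
  have hcard := card_le_card_fixed c.hVc (c.hRV c.hρ) hr.out.pos c.hρr hle hWU hconj
  have hcard' : Nat.card ↥(W₁ ⊔ W₂) ≤ p := hcard.trans c.hCV
  have hge : p ≤ Nat.card W₁ := c.card_ge_of_ne_bot inf_le_left hW
  have heq : W₁ = W₁ ⊔ W₂ :=
    eq_of_le_of_card_ge le_sup_left (hcard'.trans hge)
  have hW₂le : W₂ ≤ W₁ := by rw [heq]; exact le_sup_right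
  apply hW'
  rw [eq_bot_iff, ← h22]
  exact le_inf le_rfl (hW₂le.trans h21)

end AbCtx

end Cfsg.Agent.Helper32.BG36
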