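import Mathlib
import Cfsg.Prelude.Def_Transfer
import Cfsg.Agent.Helper32.BG36A
import Cfsg.Agent.Helper32.BG36B
import Cfsg.Agent.Helper32.BG36C
import Cfsg.Agent.Helper48.WielandtOrder

/-!
# B-G Theorem 3.6, endgame: the abelian case, part 2 (helper32)

In the context `AbCtx`, `P` normalizes every hyperplane `B` of `Q` with `C_V(B) ≠ 1`.
-/

set_option autoImplicit false
open Subgroup
open scoped commutatorElement

namespace Cfsg.Agent.Helper32.BG36

variable {X : Type*} [Group X]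

theorem mem_normalizer_inf {A B : Subgroup X} {g : X} (hA : g ∈ normalizer (A : Set X))
    (hB : g ∈ normalizer (B : Set X)) : g ∈ normalizer ((A ⊓ B : Subgroup X) : Set X) := by
  rw [mem_normalizer_iff]
  intro h
  rw [mem_inf, mem_inf, ← mem_normalizer_iff.mp hA h, ← mem_normalizer_iff.mp hB h]

namespace AbCtx

variable {p q r : ℕ} [hp : Fact p.Prime] [hq : Fact q.Prime] [hr : Fact r.Prime]
variable {V Q P R₀ : Subgroup X} {ρ : X}

/-- if `g ≠ 1` in `R₀` normalizes `B` and `y B y⁻¹` with `y ∈ P₀`, then `y` normalizes `B` -/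
theorem mem_normalizer_of_fixed [Finite X] (c : AbCtx p q r V Q P R₀ ρ) {P₀ B : Subgroup X}
    (hP₀ : P₀ ≤ P) (hRP₀ : R₀ ≤ normalizer (P₀ : Set X)) {g : X} (hg : g ∈ R₀) (hg1 : g ≠ 1)
    (hgB : g ∈ normalizer (B : Set X)) {y : X} (hy : y ∈ P₀)
    (hgy : g ∈ normalizer ((cj y B : Subgroup X) : Set X)) : y ∈ normalizer (B : Set X) := by
  set D : Subgroup X := P₀ ⊓ normalizer (B : Set X) with hD
  have hgD : g ∈ normalizer (D : Set X) :=
    mem_normalizer_inf (hRP₀ hg) (le_normalizer hgB)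
  have h1 : y⁻¹ * g * y ∈ normalizer (B : Set X) := mem_normalizer_cj.mp hgy
  have h2 : g⁻¹ * y⁻¹ * g * y ∈ D := by
    refine mem_inf.mpr ⟨?_, ?_⟩
    · have : g⁻¹ * y⁻¹ * g ∈ P₀ := (mem_normalizer_iff''.mp (hRP₀ hg) _).mp (P₀.inv_mem hy)
      exact P₀.mul_mem this hy
    · have : g⁻¹ * y⁻¹ * g * y = g⁻¹ * (y⁻¹ * g * y) := by group
      rw [this]
      exact mul_mem (inv_mem hgB) h1
  have hfpfD : ∀ z ∈ D, g * z = z * g → z = 1 := fun z hz => c.hfpf g hg hg1 z (hP₀ hz.1)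
  obtain ⟨b, hb, hbe⟩ := exists_conj_eq_mul hgD hfpfD h2
  -- `b⁻¹ g b = y⁻¹ g y`
  have h3 : b⁻¹ * g * b = y⁻¹ * g * y := by rw [hbe]; group
  have h4 : g * (y * b⁻¹) = (y * b⁻¹) * g := by
    calc g * (y * b⁻¹) = y * (y⁻¹ * g * y) * b⁻¹ := by group
      _ = y * (b⁻¹ * g * b) * b⁻¹ := by rw [h3]
      _ = (y * b⁻¹) * g := by group
  have h5 := c.hfpf g hg hg1 (y * b⁻¹) (P.mul_mem (hP₀ hy) (P.inv_mem (hP₀ hb.1))) h4
  have h6 : y = b := mul_inv_eq_one.mp h5
  rw [h6]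
  exact hb.2

theorem odd_r [Finite X] (c : AbCtx p q r V Q P R₀ ρ) : Odd r := by
  have ho : orderOf ρ = r := orderOf_eq_prime c.hρr c.hρ1
  have : r ∣ Nat.card X := ho ▸ orderOf_dvd_natCard ρ
  exact c.hoddX.of_dvd_nat this

theorem mem_of_sq_mem [Finite X] (c : AbCtx p q r V Q P R₀ ρ) {D : Subgroup X} {x : X}
    (hx : x * x ∈ D) : x ∈ D := by
  have hodd : Odd (orderOf x) := c.hoddX.of_dvd_nat (orderOf_dvd_natCard x)
  obtain ⟨k, hk⟩ := hodd
  have : x = (x * x) ^ (k + 1) := by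
    rw [← pow_two, ← pow_mul]
    have : 2 * (k + 1) = orderOf x + 1 := by omega
    rw [this, pow_succ, pow_orderOf_eq_one, one_mul]
  rw [this]
  exact pow_mem hx _

/-- descending the derived series to a subgroup whose derived subgroup normalizes `B` -/
theorem exists_derived_le [Finite X] (c : AbCtx p q r V Q P R₀ ρ) (B : Subgroup X) :
    ∀ n : ℕ, ∀ P₁ : Subgroup X, Nat.card P₁ = n → P₁ ≤ P → R₀ ≤ normalizer (P₁ : Set X) →
      ¬ P₁ ≤ normalizer (B : Set X) →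
      ∃ P₀ : Subgroup X, P₀ ≤ P ∧ R₀ ≤ normalizer (P₀ : Set X) ∧ ¬ P₀ ≤ normalizer (B : Set X) ∧
        ⁅P₀, P₀⁆ ≤ normalizer (B : Set X) := by
  intro n
  induction n using Nat.strong_induction_on with
  | _ n ih =>
  intro P₁ hn hP₁ hR hnot
  by_cases hd : ⁅P₁, P₁⁆ ≤ normalizer (B : Set X)
  · exact ⟨P₁, hP₁, hR, hnot, hd⟩
  · have hne : P₁ ≠ ⊥ := by
      rintro rfl
      exact hnot bot_le
    have hnil : Group.IsNilpotent P₁ := (c.hPp.to_le hP₁).isNilpotent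
    have hsolv : Group.IsSolvable P₁ := inferInstance
    have hlt := Cfsg.Agent.Helper48.commutator_self_lt_of_isSolvable hsolv hne
    have hcard : Nat.card ↥(⁅P₁, P₁⁆ : Subgroup X) < n := by
      rw [← hn]
      exact lt_of_le_of_ne (card_le_of_le hlt.le)
        (fun e => hlt.ne (eq_of_le_of_card_ge hlt.le e.ge))
    exact ih _ hcard ⁅P₁, P₁⁆ rfl (hlt.le.trans hP₁)
      (hR.trans (Cfsg.Agent.Helper48.normalizer_le_normalizer_commutator_self P₁)) hd

/-- the case of an `R₀`-invariant hyperplane not normalized by `P` -/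
theorem fixed_case_false [Finite X] (c : AbCtx p q r V Q P R₀ ρ) (hpq : p ≠ q) {B : Subgroup X}
    (hB : IsHyp Q q B) (hW : V ⊓ centralizer (B : Set X) ≠ ⊥) (hρB : ρ ∈ normalizer (B : Set X))
    (hnot : ¬ P ≤ normalizer (B : Set X)) : False := by
  obtain ⟨P₀, hP₀, hRP₀, hnot₀, hder⟩ := c.exists_derived_le B _ P rfl le_rfl c.hRP hnot
  obtain ⟨x, hx, hxB⟩ := SetLike.not_le_iff_exists.mp hnot₀
  set D : Subgroup X := P₀ ⊓ normalizer (B : Set X) with hD
  -- `D` is normal in `P₀`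
  have hDn : ∀ z ∈ P₀, ∀ d ∈ D, z * d * z⁻¹ ∈ D := by
    intro z hz d hd
    refine mem_inf.mpr ⟨P₀.mul_mem (P₀.mul_mem hz hd.1) (P₀.inv_mem hz), ?_⟩
    have : z * d * z⁻¹ = ⁅z, d⁆ * d := by simp [commutatorElement_def]
    rw [this]
    exact mul_mem (hder (commutator_mem_commutator hz hd.1)) hd.2
  have hx' : x⁻¹ ∈ P₀ := P₀.inv_mem hx
  have hxB' : x⁻¹ ∉ normalizer (B : Set X) := fun h => hxB (by simpa using inv_mem h)
  have hxV : x ∈ normalizer (V : Set X) := c.hPV (hP₀ hx)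
  have hxQ : x ∈ normalizer (Q : Set X) := c.hPQ (hP₀ hx)
  have hBp : IsHyp Q q (cj x B) := isHyp_cj hB hxQ
  have hBm : IsHyp Q q (cj x⁻¹ B) := isHyp_cj hB (inv_mem hxQ)
  have hWp : V ⊓ centralizer ((cj x B : Subgroup X) : Set X) ≠ ⊥ := by
    rw [← cj_fix _ _ _ hxV]; exact cj_ne_bot hW
  have hWm : V ⊓ centralizer ((cj x⁻¹ B : Subgroup X) : Set X) ≠ ⊥ := by
    rw [← cj_fix _ _ _ (inv_mem hxV)]; exact cj_ne_bot hW
  have hmp : ρ ∉ normalizer ((cj x B : Subgroup X) : Set X) := fun h =>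
    hxB (c.mem_normalizer_of_fixed hP₀ hRP₀ c.hρ c.hρ1 hρB hx h)
  have hmm : ρ ∉ normalizer ((cj x⁻¹ B : Subgroup X) : Set X) := fun h =>
    hxB' (c.mem_normalizer_of_fixed hP₀ hRP₀ c.hρ c.hρ1 hρB hx' h)
  refine c.two_moved_false hpq hBp hBm hmp hmm ?_ hWp hWm
  intro i hi heq
  set g : X := ρ ^ i with hg
  have hgR : g ∈ R₀ := pow_mem c.hρ i
  have hgB : g ∈ normalizer (B : Set X) := pow_mem hρB i
  have h1 : x * g * x ∈ normalizer (B : Set X) := by
    rw [← cj_eq_self_iff]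
    have : cj (x * g * x) B = cj x (cj g (cj x B)) := by
      rw [← cj_mul, ← cj_mul, mul_assoc]
    rw [this, ← heq, cj_cj_inv]
  have hx'' : g⁻¹ * x * g ∈ P₀ := (mem_normalizer_iff''.mp (hRP₀ hgR) x).mp hx
  have hu : g⁻¹ * x * g * x ∈ D := by
    refine mem_inf.mpr ⟨P₀.mul_mem hx'' hx, ?_⟩
    have : g⁻¹ * x * g * x = g⁻¹ * (x * g * x) := by group
    rw [this]; exact mul_mem (inv_mem hgB) h1
  rcases Nat.eq_zero_or_pos i with hi0 | hi0
  · have hg1 : g = 1 := by rw [hg, hi0, pow_zero]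
    rw [hg1] at hu
    have hu2 : x * x ∈ D := by simpa using hu
    exact hxB (c.mem_of_sq_mem hu2).2
  · set u : X := g⁻¹ * x * g * x with hu_def
    have hgD : g ∈ normalizer (D : Set X) := mem_normalizer_inf (hRP₀ hgR) (le_normalizer hgB)
    have hu' : g⁻¹ * u * g ∈ D := (mem_normalizer_iff''.mp hgD u).mp hu
    have hu'' : x * u⁻¹ * x⁻¹ ∈ D := hDn x hx u⁻¹ (D.inv_mem hu)
    have h2 : g⁻¹ * g⁻¹ * x * g * g = (g⁻¹ * u * g) * (x * u⁻¹ * x⁻¹) * x := by
      rw [hu_def]; group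
    have h3 : x⁻¹ * (g⁻¹ * g⁻¹ * x * g * g) ∈ D := by
      rw [h2]
      have : x⁻¹ * ((g⁻¹ * u * g) * (x * u⁻¹ * x⁻¹) * x) =
          x⁻¹ * ((g⁻¹ * u * g) * (x * u⁻¹ * x⁻¹)) * x⁻¹⁻¹ := by group
      rw [this]
      exact hDn x⁻¹ hx' _ (D.mul_mem hu' hu'')
    have h4 : x⁻¹ * (g⁻¹ * g⁻¹) * x ∈ normalizer (B : Set X) := by
      have : x⁻¹ * (g⁻¹ * g⁻¹) * x = (x⁻¹ * (g⁻¹ * g⁻¹ * x * g * g)) * (g⁻¹ * g⁻¹) := by group
      rw [this]
      exact mul_mem h3.2 (mul_mem (inv_mem hgB) (inv_mem hgB))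
    have h5 : g⁻¹ * g⁻¹ ∈ normalizer ((cj x B : Subgroup X) : Set X) := mem_normalizer_cj.mpr h4
    have h6 : g⁻¹ * g⁻¹ ≠ 1 := by
      intro h
      have hgg : g * g = 1 := by
        have h' : (g * g)⁻¹ = 1 := by rw [mul_inv_rev]; exact h
        exact inv_eq_one.mp h'
      have h7 : ρ ^ (2 * i) = 1 := by
        rw [two_mul, pow_add]; exact hgg
      have ho : orderOf ρ = r := orderOf_eq_prime c.hρr c.hρ1
      have hdvd : r ∣ 2 * i := ho ▸ orderOf_dvd_of_pow_eq_one h7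
      have hr2 : r ≠ 2 := by
        intro h2
        have := c.odd_r
        rw [h2] at this
        exact absurd this (by decide)
      have hcop : Nat.Coprime r 2 := (Nat.coprime_primes hr.out Nat.prime_two).mpr hr2
      have := hcop.dvd_of_dvd_mul_left hdvd
      exact absurd (Nat.le_of_dvd hi0 this) (not_le.mpr hi)
    exact hxB (c.mem_normalizer_of_fixed hP₀ hRP₀ (mul_mem (inv_mem hgR) (inv_mem hgR)) h6
      (mul_mem (inv_mem hgB) (inv_mem hgB)) hx h5)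

/-- **`P` normalizes every hyperplane with nontrivial fixed points.** -/
theorem le_normalizer_of_fix_ne_bot [Finite X] (c : AbCtx p q r V Q P R₀ ρ) (hpq : p ≠ q)
    {B : Subgroup X} (hB : IsHyp Q q B) (hW : V ⊓ centralizer (B : Set X) ≠ ⊥) :
    P ≤ normalizer (B : Set X) := by
  by_contra hnot
  by_cases hα : ∃ y ∈ P, ρ ∈ normalizer ((cj y B : Subgroup X) : Set X)
  · obtain ⟨y, hy, hρy⟩ := hα
    have hyV := c.hPV hy
    have hyQ := c.hPQ hy
    refine c.fixed_case_false hpq (isHyp_cj hB hyQ) ?_ hρy ?_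
    · rw [← cj_fix _ _ _ hyV]; exact cj_ne_bot hW
    · intro hle
      apply hnot
      intro z hz
      have h1 : y * z * y⁻¹ ∈ normalizer ((cj y B : Subgroup X) : Set X) :=
        hle (P.mul_mem (P.mul_mem hy hz) (P.inv_mem hy))
      have h2 := mem_normalizer_cj.mp h1
      have h3 : y⁻¹ * (y * z * y⁻¹) * y = z := by group
      rwa [h3] at h2
  · push_neg at hα
    obtain ⟨x, hx, hxB⟩ := SetLike.not_le_iff_exists.mp hnot
    have hm : ρ ∉ normalizer (B : Set X) := by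
      have := hα 1 P.one_mem
      rwa [cj_one] at this
    have hm' := hα x hx
    refine c.two_moved_false hpq hB (isHyp_cj hB (c.hPQ hx)) hm hm' ?_ hW ?_
    · intro i hi heq
      set g : X := (ρ ^ i)⁻¹ with hg
      have h1 : g * x ∈ normalizer (B : Set X) := by
        rw [← cj_eq_self_iff, cj_mul, heq, hg, cj_inv_cj]
      rcases Nat.eq_zero_or_pos i with hi0 | hi0
      · have hg1 : g = 1 := by rw [hg, hi0, pow_zero, inv_one]
        rw [hg1, one_mul] at h1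
        exact hxB h1
      · have hgR : g ∈ R₀ := inv_mem (pow_mem c.hρ i)
        have hg1 : g ≠ 1 := fun h => c.pow_ne_one hi0 hi (inv_eq_one.mp h)
        have hfpf : ∀ y ∈ P, g * y = y * g → y = 1 := c.hfpf g hgR hg1
        obtain ⟨y, hy, hye⟩ := exists_conj_eq_mul (c.hRP hgR) hfpf hx
        have h2 : g ∈ normalizer ((cj y B : Subgroup X) : Set X) :=
          mem_normalizer_cj.mpr (by rw [hye]; exact h1)
        exact hα y hy (c.rho_mem_normalizer hgR hg1 h2)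
    · rw [← cj_fix _ _ _ (c.hPV hx)]; exact cj_ne_bot hW

end AbCtx

end Cfsg.Agent.Helper32.BG36
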