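import Mathlib
import Cfsg.Prelude.Def_Transfer

/-!
# B-G Theorem 3.6: the final configuration (helper32)

`FinalConfig p q r V Q P R₀` packages the hypotheses on the minimal configuration reached in the
proof of B-G Theorem 3.6 (statement S1444): `V` elementary abelian `p`-group acted on faithfully by the
`q`-group `Q = [Q, P]`, `P` a `p`-group, `R₀` of prime order `r` acting fixed-point-freely on `P`, with
`|C_V(R₀)| ≤ p`, `C_Q(R₀)` cyclic, `Q` minimal and `V` irreducible. The theorem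
`Cfsg.Agent.Helper32.BG36.final_config_false` (file `BG36D`) shows that no such configuration exists in a
solvable group of odd order.
-/

set_option autoImplicit false
open Subgroup

namespace Cfsg.Agent.Helper32.BG36

/-- hypotheses of the final configuration of B-G Theorem 3.6 -/
structure FinalConfig {X : Type*} [Group X] (p q r : ℕ) (V Q P R₀ : Subgroup X) : Prop where
  hV : Cfsg.IsElementaryAbelian p V
  hQ : IsPGroup q Q
  hP : IsPGroup p P
  hR₀ : Nat.card R₀ = r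
  hQV : Q ≤ normalizer (V : Set X)
  hPV : P ≤ normalizer (V : Set X)
  hRV : R₀ ≤ normalizer (V : Set X)
  hPQ : P ≤ normalizer (Q : Set X)
  hRQ : R₀ ≤ normalizer (Q : Set X)
  hRP : R₀ ≤ normalizer (P : Set X)
  hfaith : Q ⊓ centralizer (V : Set X) = ⊥
  hQP : ⁅Q, P⁆ = Q
  hQ1 : Q ≠ ⊥
  hCP : P ⊓ centralizer (R₀ : Set X) = ⊥
  hCV : Nat.card ↥(V ⊓ centralizer (R₀ : Set X)) ≤ p
  hCQ : IsCyclic ↥(Q ⊓ centralizer (R₀ : Set X))
  hminQ : ∀ Q₂ : Subgroup X, Q₂ ≤ Q → Q₂ ≠ Q → P ≤ normalizer (Q₂ : Set X) →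
    R₀ ≤ normalizer (Q₂ : Set X) → ⁅Q₂, P⁆ = ⊥
  hirrV : ∀ V₂ : Subgroup X, V₂ ≤ V → V₂ ≠ V → Q ≤ normalizer (V₂ : Set X) →
    P ≤ normalizer (V₂ : Set X) → R₀ ≤ normalizer (V₂ : Set X) → V₂ = ⊥

end Cfsg.Agent.Helper32.BG36
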