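import Mathlib
import Cfsg.Prelude.Def_Transfer
import Cfsg.Agent.S0026
import Cfsg.Agent.S0055
import Cfsg.Agent.S1324
import Cfsg.Agent.Helper32.CoprimeTwo
import Cfsg.Agent.Helper32.BG36Def
import Cfsg.Agent.Helper32.BG36A
import Cfsg.Agent.Helper32.BG36B
import Cfsg.Agent.Helper32.BG36C
import Cfsg.Agent.Helper32.BG36D

/-!
# B-G Theorem 3.6, endgame: the abelian case, assembly (helper32)
-/

set_option autoImplicit false
open Subgroup
open scoped commutatorElement

namespace Cfsg.Agent.Helper32.BG36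

variable {X : Type*} [Group X]

/-- an element of an abelian subgroup normalizes every subgroup of it -/
theorem mem_normalizer_of_comm {Q B : Subgroup X} (hQc : ∀ a ∈ Q, ∀ b ∈ Q, a * b = b * a)
    (hB : B ≤ Q) {g : X} (hg : g ∈ Q) : g ∈ normalizer (B : Set X) := by
  have key : ∀ g ∈ Q, ∀ b ∈ B, g * b * g⁻¹ ∈ B := by
    intro g hg b hb
    have : g * b * g⁻¹ = b := by rw [hQc g hg b (hB hb)]; group
    rw [this]; exact hb
  rw [mem_normalizer_iff]
  intro b
  constructor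
  · exact key g hg b
  · intro h
    have := key g⁻¹ (Q.inv_mem hg) _ h
    simpa [mul_assoc] using this

namespace FinalConfig

variable {p q r : ℕ} [hp : Fact p.Prime] [hq : Fact q.Prime] [hr : Fact r.Prime]
variable {V Q P R₀ : Subgroup X}

theorem hVc (h : FinalConfig p q r V Q P R₀) : ∀ a ∈ V, ∀ b ∈ V, a * b = b * a := by
  intro a ha b hb
  have := h.hV.1
  have h1 := mul_comm' (⟨a, ha⟩ : V) ⟨b, hb⟩
  exact congrArg Subtype.val h1

theorem hVp (h : FinalConfig p q r V Q P R₀) : IsPGroup p V := by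
  intro g
  refine ⟨1, ?_⟩
  rw [pow_one]
  exact Subtype.ext (h.hV.2 g g.2)

/-- a generator of `R₀` -/
theorem exists_gen [Finite X] (h : FinalConfig p q r V Q P R₀) :
    ∃ ρ ∈ R₀, ρ ≠ 1 ∧ ρ ^ r = 1 ∧ ∀ g ∈ R₀, g ≠ 1 → zpowers g = R₀ := by
  have hcard : Nat.card R₀ = r := h.hR₀
  have hgen : ∀ g ∈ R₀, g ≠ 1 → zpowers g = R₀ := by
    intro g hg hg1
    have hle : zpowers g ≤ R₀ := zpowers_le.mpr hg
    have hdvd : Nat.card (zpowers g) ∣ r := hcard ▸ card_dvd_of_le hle
    rcases (Nat.dvd_prime hr.out).mp hdvd with h1 | h1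
    · rw [Nat.card_zpowers, orderOf_eq_one_iff] at h1
      exact absurd h1 hg1
    · exact eq_of_le_of_card_ge hle (by rw [h1, hcard])
  have hne : R₀ ≠ ⊥ := by
    intro h0
    rw [h0, card_bot] at hcard
    exact hr.out.one_lt.ne hcard
  obtain ⟨a, ha⟩ : ∃ a : R₀, a ≠ 1 := by
    by_contra hcon
    push_neg at hcon
    apply hne
    rw [eq_bot_iff]
    intro x hx
    rw [mem_bot]
    exact congrArg Subtype.val (hcon ⟨x, hx⟩)
  have hρ1 : (a : X) ≠ 1 := fun h1 => ha (Subtype.ext h1)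
  refine ⟨(a : X), a.2, hρ1, ?_, hgen⟩
  have h2 : orderOf (a : X) = r := by
    rw [← Nat.card_zpowers, hgen (a : X) a.2 hρ1, hcard]
  rw [← h2, pow_orderOf_eq_one]

theorem coprimePQ [Finite X] (h : FinalConfig p q r V Q P R₀) (hpq : p ≠ q) :
    (Nat.card P).Coprime (Nat.card Q) := by
  obtain ⟨a, ha⟩ := h.hP.exists_card_eq
  obtain ⟨b, hb⟩ := h.hQ.exists_card_eq
  rw [ha, hb]
  exact Nat.Coprime.pow _ _ ((Nat.coprime_primes hp.out hq.out).mpr hpq)

theorem coprimeRP [Finite X] (h : FinalConfig p q r V Q P R₀) (hrp : r ≠ p) :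
    (Nat.card R₀).Coprime (Nat.card P) := by
  obtain ⟨a, ha⟩ := h.hP.exists_card_eq
  rw [ha, h.hR₀]
  exact Nat.Coprime.pow_right _ ((Nat.coprime_primes hr.out hp.out).mpr hrp)

/-- `C_V(Q) = 1` -/
theorem fixVQ (h : FinalConfig p q r V Q P R₀) : V ⊓ centralizer (Q : Set X) = ⊥ := by
  apply h.hirrV _ inf_le_left
  · intro heq
    have h1 : V ≤ centralizer (Q : Set X) := by rw [← heq]; exact inf_le_right
    have h2 : Q ≤ centralizer (V : Set X) := le_centralizer_iff.mp h1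
    have h3 : Q ≤ Q ⊓ centralizer (V : Set X) := le_inf le_rfl h2
    rw [h.hfaith] at h3
    exact h.hQ1 (eq_bot_iff.mpr h3)
  · intro g hg; exact mem_normalizer_fix (h.hQV hg) (le_normalizer hg)
  · intro g hg; exact mem_normalizer_fix (h.hPV hg) (h.hPQ hg)
  · intro g hg; exact mem_normalizer_fix (h.hRV hg) (h.hRQ hg)

/-- `P = [P, R₀]` -/
theorem commPR [Finite X] [Group.IsSolvable X] (h : FinalConfig p q r V Q P R₀) (hrp : r ≠ p) :
    ⁅P, R₀⁆ = P := by
  have := Cfsg.Agent.S0026.result R₀ P h.hRP (h.coprimeRP hrp) (Or.inl inferInstance)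
  rwa [h.hCP, sup_bot_eq] at this

theorem V_ne_bot (h : FinalConfig p q r V Q P R₀) : V ≠ ⊥ := by
  intro hV
  have h2 : Q ≤ centralizer (V : Set X) := by
    intro g _
    rw [mem_centralizer_iff]
    intro v hv
    rw [hV] at hv
    have : v = 1 := hv
    rw [this]; simp
  have h3 : Q ≤ Q ⊓ centralizer (V : Set X) := le_inf le_rfl h2
  rw [h.hfaith] at h3
  exact h.hQ1 (eq_bot_iff.mpr h3)

/-- the abelian context from a final configuration with abelian `Q` -/
theorem abCtx [Finite X] (h : FinalConfig p q r V Q P R₀) (hodd : Odd (Nat.card X))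
    (hab : ∀ a ∈ Q, ∀ b ∈ Q, a * b = b * a) {ρ : X} (hρ : ρ ∈ R₀) (hρ1 : ρ ≠ 1) (hρr : ρ ^ r = 1)
    (hgen : ∀ g ∈ R₀, g ≠ 1 → zpowers g = R₀) : AbCtx p q r V Q P R₀ ρ where
  hVc := h.hVc
  hVp := h.hVp
  hQc := hab
  hQq := h.hQ
  hPp := h.hP
  hQV := h.hQV
  hPV := h.hPV
  hRV := h.hRV
  hPQ := h.hPQ
  hRQ := h.hRQ
  hRP := h.hRP
  hfix := h.fixVQ
  hρ := hρ
  hρ1 := hρ1
  hρr := hρr
  hgen := fun g hg hg1 => by rw [hgen g hg hg1]; exact hρ
  hfpf := by
    intro g hg hg1 y hy hgy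
    have h1 : y ∈ centralizer ((zpowers g : Subgroup X) : Set X) := by
      rw [Cfsg.Agent.Helper32.centralizer_zpowers_eq, mem_centralizer_iff]
      intro z hz
      rw [Set.mem_singleton_iff] at hz
      rw [hz]; exact hgy
    rw [hgen g hg hg1] at h1
    have h2 : y ∈ P ⊓ centralizer (R₀ : Set X) := ⟨hy, h1⟩
    rwa [h.hCP, mem_bot] at h2
  hCV := by
    have : centralizer ({ρ} : Set X) = centralizer (R₀ : Set X) := by
      rw [← Cfsg.Agent.Helper32.centralizer_zpowers_eq, hgen ρ hρ hρ1]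
    rw [this]
    exact h.hCV
  hoddX := hodd

end FinalConfig

/-- **The abelian case of the final configuration is impossible.** -/
theorem abelian_false [Finite X] [Group.IsSolvable X] (hodd : Odd (Nat.card X)) {p q r : ℕ}
    [hp : Fact p.Prime] [hq : Fact q.Prime] [hr : Fact r.Prime] (hpq : p ≠ q) (hrp : r ≠ p)
    (hrq : r ≠ q) (V Q P R₀ : Subgroup X) (h : FinalConfig p q r V Q P R₀)
    (hab : ∀ a ∈ Q, ∀ b ∈ Q, a * b = b * a) : False := by
  obtain ⟨ρ, hρ, hρ1, hρr, hgen⟩ := h.exists_gen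
  have c : AbCtx p q r V Q P R₀ ρ := h.abCtx hodd hab hρ hρ1 hρr hgen
  have hR₀ρ : R₀ = zpowers ρ := (hgen ρ hρ hρ1).symm
  -- `C_Q(P) = 1`
  have hCQP : Q ⊓ centralizer (P : Set X) = ⊥ := by
    have : IsMulCommutative Q := ⟨⟨fun a b => Subtype.ext (hab a a.2 b b.2)⟩⟩
    have h1 := (Cfsg.Agent.S0055.result P Q h.hPQ (h.coprimePQ hpq)).1
    rwa [h.hQP, inf_eq_left.mpr (inf_le_left : Q ⊓ centralizer (P : Set X) ≤ Q)] at h1
  -- `Q` has exponent `q`
  have hexp : ∀ x ∈ Q, x ^ q = 1 := by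
    let Ω : Subgroup X :=
      { carrier := {x | x ∈ Q ∧ x ^ q = 1}
        one_mem' := ⟨Q.one_mem, one_pow q⟩
        mul_mem' := by
          rintro a b ⟨ha, ha'⟩ ⟨hb, hb'⟩
          refine ⟨Q.mul_mem ha hb, ?_⟩
          have hc : Commute a b := hab a ha b hb
          rw [hc.mul_pow, ha', hb', one_mul]
        inv_mem' := by
          rintro a ⟨ha, ha'⟩
          exact ⟨Q.inv_mem ha, by rw [inv_pow, ha', inv_one]⟩ }
    have hΩQ : Ω ≤ Q := fun x hx => hx.1
    have hΩn : ∀ g : X, g ∈ normalizer (Q : Set X) → g ∈ normalizer (Ω : Set X) := by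
      intro g hg
      have key : ∀ g : X, g ∈ normalizer (Q : Set X) → ∀ x ∈ Ω, g * x * g⁻¹ ∈ Ω := by
        intro g hg x hx
        refine ⟨(mem_normalizer_iff.mp hg x).mp hx.1, ?_⟩
        rw [conj_pow, hx.2]; simp
      rw [mem_normalizer_iff]
      intro x
      constructor
      · exact key g hg x
      · intro hx
        have := key g⁻¹ (inv_mem hg) _ hx
        simpa [mul_assoc] using this
    by_cases hΩ : Ω = Q
    · intro x hx
      have : x ∈ Ω := by rw [hΩ]; exact hx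
      exact this.2
    · exfalso
      have h1 := h.hminQ Ω hΩQ hΩ (fun g hg => hΩn g (h.hPQ hg)) (fun g hg => hΩn g (h.hRQ hg))
      have h2 : Ω ≤ centralizer (P : Set X) := commutator_eq_bot_iff_le_centralizer.mp h1
      have h3 : Ω ≤ Q ⊓ centralizer (P : Set X) := le_inf hΩQ h2
      rw [hCQP] at h3
      -- but `Ω ≠ ⊥` by Cauchy
      have hQnt : Nontrivial Q := (nontrivial_iff_ne_bot Q).mpr h.hQ1
      obtain ⟨k, hk⟩ := h.hQ.exists_card_eq
      have hk0 : k ≠ 0 := by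
        rintro rfl
        rw [pow_zero] at hk
        exact h.hQ1 (card_eq_one.mp hk)
      have hdvd : q ∣ Nat.card Q := by rw [hk]; exact dvd_pow_self q hk0
      obtain ⟨x, hx⟩ := exists_prime_orderOf_dvd_card' q hdvd
      have hxΩ : (x : X) ∈ Ω := by
        refine ⟨x.2, ?_⟩
        have : (x : X) ^ q = ((x ^ q : Q) : X) := by simp
        rw [this, ← hx, pow_orderOf_eq_one]; rfl
      have := h3 hxΩ
      rw [mem_bot] at this
      have hx1 : x = 1 := Subtype.ext this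
      rw [hx1, orderOf_one] at hx
      exact hq.out.one_lt.ne hx
  -- `q ^ 2 ≤ |Q|`
  have hQ2 : q ^ 2 ≤ Nat.card Q := by
    obtain ⟨k, hk⟩ := h.hQ.exists_card_eq
    rcases Nat.lt_or_ge k 2 with hk2 | hk2
    · exfalso
      interval_cases k
      · rw [pow_zero] at hk
        exact h.hQ1 (card_eq_one.mp hk)
      · rw [pow_one] at hk
        have : Fact (Nat.card Q).Prime := ⟨hk ▸ hq.out⟩
        have hcyc : IsCyclic Q := isCyclic_of_prime_card rfl
        have h1 := commutator_le_centralizer_of_isCyclic hcyc h.hPQ h.hRQ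
        rw [h.commPR hrp] at h1
        have h2 : ⁅Q, P⁆ = ⊥ := by
          rw [commutator_comm]
          exact commutator_eq_bot_iff_le_centralizer.mpr h1
        rw [h.hQP] at h2
        exact h.hQ1 h2
    · rw [hk]
      exact Nat.pow_le_pow_right hq.out.pos hk2
  -- the generation statement
  have hA : Cfsg.IsElementaryAbelian q Q :=
    ⟨⟨⟨fun a b => Subtype.ext (hab a a.2 b b.2)⟩⟩, hexp⟩
  have hXV : ¬ q ∣ Nat.card V := by
    obtain ⟨k, hk⟩ := h.hVp.exists_card_eq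
    rw [hk]
    intro hd
    exact hpq ((Nat.prime_dvd_prime_iff_eq hq.out hp.out).mp (hq.out.dvd_of_dvd_pow hd)).symm
  have hgenV := Cfsg.Agent.S1324.result q Q V hA hQ2 hXV h.hQV
  -- every term vanishes
  apply h.V_ne_bot
  rw [hgenV, eq_bot_iff]
  refine iSup_le ?_
  rintro ⟨B, hBQ, hBi⟩
  change V ⊓ centralizer (B : Set X) ≤ ⊥
  by_contra hne
  have hW : V ⊓ centralizer (B : Set X) ≠ ⊥ := fun e => hne (e ▸ le_rfl)
  by_cases hBeq : B = Q
  · rw [hBeq] at hW
    exact hW h.fixVQ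
  -- `B` is a hyperplane
  have hBhyp : AbCtx.IsHyp Q q B := by
    refine ⟨hBQ, ?_⟩
    obtain ⟨k, hk⟩ := h.hQ.exists_card_eq
    have hd : B.relIndex Q ∣ q ^ k := hk ▸ relIndex_dvd_card B Q
    obtain ⟨j, _, hj⟩ := (Nat.dvd_prime_pow hq.out).mp hd
    rcases Nat.lt_or_ge j 2 with hj2 | hj2
    · interval_cases j
      · rw [pow_zero] at hj
        exact absurd (le_antisymm hBQ (relIndex_eq_one.mp hj)) hBeq
      · rw [pow_one] at hj; exact hj
    · exfalso
      have h1 : q ^ 2 ≤ B.relIndex Q := hj ▸ Nat.pow_le_pow_right hq.out.pos hj2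
      have h2 : q < q ^ 2 := by
        have := hq.out.one_lt
        nlinarith
      omega
  have hPB : P ≤ normalizer (B : Set X) := c.le_normalizer_of_fix_ne_bot hpq hBhyp hW
  by_cases hρB : ρ ∈ normalizer (B : Set X)
  · -- `B` is invariant: `B = 1`, `|Q| = q`
    have hRB : R₀ ≤ normalizer (B : Set X) := by rw [hR₀ρ]; exact zpowers_le.mpr hρB
    have h1 := h.hminQ B hBQ hBeq hPB hRB
    have h2 : B ≤ Q ⊓ centralizer (P : Set X) :=
      le_inf hBQ (commutator_eq_bot_iff_le_centralizer.mp h1)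
    rw [hCQP] at h2
    have hB0 : B = ⊥ := eq_bot_iff.mpr h2
    have h3 := card_mul_relIndex_eq hBQ
    rw [hBhyp.2, hB0, card_bot, one_mul] at h3
    have h4 : q < q ^ 2 := by
      have := hq.out.one_lt
      nlinarith
    omega
  · -- `B` is moved: `|C_V(B)| = p`
    have h1 : Nat.card ↥(V ⊓ centralizer (B : Set X)) ≤ p := (c.card_fix_le hpq hBhyp hρB).trans c.hCV
    have h2 : p ≤ Nat.card ↥(V ⊓ centralizer (B : Set X)) := c.card_ge_of_ne_bot inf_le_left hW
    have h3 : Nat.card ↥(V ⊓ centralizer (B : Set X)) = p := le_antisymm h1 h2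
    have : Fact (Nat.card ↥(V ⊓ centralizer (B : Set X))).Prime := ⟨h3 ▸ hp.out⟩
    have hcyc : IsCyclic ↥(V ⊓ centralizer (B : Set X)) := isCyclic_of_prime_card rfl
    have hQW : Q ≤ normalizer ((V ⊓ centralizer (B : Set X) : Subgroup X) : Set X) := fun g hg =>
      mem_normalizer_fix (h.hQV hg) (mem_normalizer_of_comm hab hBQ hg)
    have hPW : P ≤ normalizer ((V ⊓ centralizer (B : Set X) : Subgroup X) : Set X) := fun g hg =>
      mem_normalizer_fix (h.hPV hg) (hPB hg)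
    have h4 := commutator_le_centralizer_of_isCyclic hcyc hQW hPW
    rw [h.hQP] at h4
    have h5 : V ⊓ centralizer (B : Set X) ≤ centralizer (Q : Set X) := le_centralizer_iff.mp h4
    have h6 : V ⊓ centralizer (B : Set X) ≤ V ⊓ centralizer (Q : Set X) := le_inf inf_le_left h5
    rw [h.fixVQ] at h6
    exact hW (eq_bot_iff.mpr h6)

end Cfsg.Agent.Helper32.BG36
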