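import Mathlib
import Cfsg.Prelude.Def_Transfer
import Cfsg.Agent.Helper32.BG36Def
import Cfsg.Agent.Helper32.BG36E
import Cfsg.Agent.Helper60.BG36N

/-!
# B-G Theorem 3.6, endgame: the final configuration does not exist (helper32 + helper60)

`final_config_false`: no `FinalConfig p q r V Q P R₀` exists inside a finite solvable group of odd
order (`p`, `q`, `r` pairwise distinct primes). Abelian `Q`: `abelian_false` (helper32, `BG36B`-`BG36E`);
nonabelian `Q`: `Cfsg.Agent.Helper60.BG36N.nonabelian_false` (helper60).
-/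

set_option autoImplicit false
open Subgroup

namespace Cfsg.Agent.Helper32.BG36

/-- **The final configuration of B-G Theorem 3.6 is impossible.** -/
theorem final_config_false {X : Type*} [Group X] [Finite X] [Group.IsSolvable X]
    (hodd : Odd (Nat.card X)) {p q r : ℕ} [Fact p.Prime] [Fact q.Prime] [Fact r.Prime]
    (hpq : p ≠ q) (hrp : r ≠ p) (hrq : r ≠ q) (V Q P R₀ : Subgroup X)
    (h : FinalConfig p q r V Q P R₀) : False := by
  by_cases hab : ∀ a ∈ Q, ∀ b ∈ Q, a * b = b * a
  · exact abelian_false hodd hpq hrp hrq V Q P R₀ h hab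
  · exact Cfsg.Agent.Helper60.BG36N.nonabelian_false hodd hpq hrp hrq V Q P R₀ h hab

end Cfsg.Agent.Helper32.BG36
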