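import Mathlib
import Cfsg.Prelude.Def_Transfer
import Cfsg.Agent.S0026
import Cfsg.Agent.S0027
import Cfsg.Agent.S0055
import Cfsg.Agent.S3769
import Cfsg.Agent.Helper1.CoprimeSylow
import Cfsg.Agent.Helper21.Fitting
import Cfsg.Agent.Helper22.Sup
import Cfsg.Agent.Helper48.WielandtOrder
import Cfsg.Agent.Helper71.ShultHall
import Cfsg.Agent.Helper32.BG36A

/-!
# B-G Theorem 3.6, the middle part: helper lemmas (helper32)
-/

set_option autoImplicit false
open Subgroup
open scoped commutatorElement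

namespace Cfsg.Agent.Helper32.BG36

variable {G : Type*} [Group G]

theorem commutator_le_right_of_le_normalizer {A B : Subgroup G} (h : A ≤ normalizer (B : Set G)) :
    ⁅A, B⁆ ≤ B := by
  rw [commutator_le]
  intro a ha b hb
  rw [commutatorElement_def]
  exact B.mul_mem ((mem_normalizer_iff.mp (h ha) b).mp hb) (B.inv_mem hb)

theorem commutator_le_left_of_le_normalizer {A B : Subgroup G} (h : B ≤ normalizer (A : Set G)) :
    ⁅A, B⁆ ≤ A := by
  rw [commutator_comm]; exact commutator_le_right_of_le_normalizer h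

theorem mem_normalizer_commutator {A B : Subgroup G} {g : G} (hA : g ∈ normalizer (A : Set G))
    (hB : g ∈ normalizer (B : Set G)) : g ∈ normalizer ((⁅A, B⁆ : Subgroup G) : Set G) := by
  rw [mem_normalizer_iff_map_conj_eq] at hA hB ⊢
  rw [map_commutator, hA, hB]

/-- ambient form of an invariant Sylow subgroup -/
theorem exists_invariant_sylow_ambient [Finite G] (A K : Subgroup G)
    (hAK : A ≤ normalizer (K : Set G)) (hcop : (Nat.card A).Coprime (Nat.card K))
    (hsolv : Group.IsSolvable A ∨ Group.IsSolvable K) (s : ℕ) [Fact s.Prime] :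
    ∃ P : Sylow s K, A ≤ normalizer (((P : Subgroup K).map K.subtype : Subgroup G) : Set G) :=
  Cfsg.Agent.Helper1.exists_invariant_sylow A K hAK hcop hsolv s

theorem sylow_map_le {K : Subgroup G} {s : ℕ} (P : Sylow s K) :
    (P : Subgroup K).map K.subtype ≤ K := by
  rintro _ ⟨x, _, rfl⟩
  exact x.2

theorem sylow_map_isPGroup {K : Subgroup G} {s : ℕ} (P : Sylow s K) :
    IsPGroup s ((P : Subgroup K).map K.subtype) := P.isPGroup'.map _

theorem sylow_map_ne_bot [Finite G] {K : Subgroup G} {s : ℕ} [Fact s.Prime] (P : Sylow s K)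
    (hs : s ∣ Nat.card K) : (P : Subgroup K).map K.subtype ≠ ⊥ := by
  intro h
  have h1 : (P : Subgroup K) = ⊥ := by
    rw [eq_bot_iff]
    intro x hx
    have : (x : G) ∈ (P : Subgroup K).map K.subtype := ⟨x, hx, rfl⟩
    rw [h, mem_bot] at this
    rw [mem_bot]
    exact Subtype.ext this
  have h2 := P.not_dvd_index
  rw [h1, index_bot] at h2
  exact h2 hs

/-- S3769 packaged: a fixed-point-free `R₀` centralizes, modulo `C(V)`, every invariant `p'`-subgroup. -/
theorem commutator_le_centralizer_of_fpf [Finite G] [Group.IsSolvable G] (hodd : Odd (Nat.card G))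
    {p : ℕ} [hp : Fact p.Prime] (V K₁ R₀ : Subgroup G) (hV : Cfsg.IsElementaryAbelian p V)
    (hKV : K₁ ≤ normalizer (V : Set G)) (hRV : R₀ ≤ normalizer (V : Set G))
    (hRK : R₀ ≤ normalizer (K₁ : Set G)) (hR₀p : (Nat.card R₀).Prime) (hKp : ¬ p ∣ Nat.card K₁)
    (hrp : Nat.card R₀ ≠ p) (hcop : (Nat.card K₁).Coprime (Nat.card R₀))
    (hCV : V ⊓ centralizer (R₀ : Set G) = ⊥) : ⁅R₀, K₁⁆ ≤ centralizer (V : Set G) := by
  have hKR : K₁ ⊓ R₀ = ⊥ := (disjoint_of_coprime_natCard hcop).eq_bot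
  have hpR : ¬ p ∣ Nat.card R₀ := by
    intro h
    exact hrp ((Nat.prime_dvd_prime_iff_eq hp.out hR₀p).mp h).symm
  have hℓG : ¬ p ∣ Nat.card ↥(K₁ ⊔ R₀) := by
    rw [sup_comm]
    exact Cfsg.Agent.Helper22.not_dvd_card_sup_of_le_normalizer p hp.out R₀ K₁ hRK hpR hKp
  have hoddS : Odd (Nat.card ↥(K₁ ⊔ R₀)) := hodd.of_dvd_nat (card_subgroup_dvd_card _)
  have hHall : (Nat.card K₁).Coprime (K₁.relIndex (K₁ ⊔ R₀)) := by
    rw [Cfsg.Agent.Helper71.Shult.relIndex_sup_eq_card hRK hKR]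
    exact hcop
  exact Cfsg.Agent.S3769.result (K₁ ⊔ R₀) inferInstance hoddS V hp.out hV hℓG (sup_le hKV hRV) K₁ R₀
    le_sup_left (sup_le le_normalizer hRK) hHall le_sup_right hR₀p hKR rfl hCV

/-- a `p`-subgroup of a Z-group ambient subgroup is cyclic -/
theorem isCyclic_of_le_isZGroup [Finite G] {p : ℕ} [Fact p.Prime] {Z W : Subgroup G}
    (hZ : IsZGroup Z) (hWZ : W ≤ Z) (hW : IsPGroup p W) : IsCyclic W := by
  have h1 : IsPGroup p (W.subgroupOf Z) := hW.of_equiv (subgroupOfEquivOfLe hWZ).symm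
  have h2 : IsCyclic (W.subgroupOf Z) := h1.isCyclic_of_isZGroup
  exact isCyclic_of_surjective (subgroupOfEquivOfLe hWZ).toMonoidHom (subgroupOfEquivOfLe hWZ).surjective

/-- a cyclic group of exponent `p` has at most `p` elements -/
theorem card_le_of_isCyclic_of_pow_eq_one {W : Type*} [Group W] [Finite W] (hW : IsCyclic W) {p : ℕ}
    (hp : 0 < p) (hexp : ∀ w : W, w ^ p = 1) : Nat.card W ≤ p := by
  obtain ⟨g, hg⟩ := hW.exists_generator
  have h1 : Nat.card W = orderOf g := by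
    rw [← Nat.card_zpowers]
    have : zpowers g = ⊤ := by
      rw [eq_top_iff]; intro x _; exact hg x
    rw [this, card_top]
  rw [h1]
  exact Nat.le_of_dvd hp (orderOf_dvd_of_pow_eq_one (hexp g))

/-- **Case A of the middle part**: `C_V(R₀) = 1` is impossible when `p ∣ |N|`. -/
theorem middle_caseA [Finite G] [Group.IsSolvable G] (hodd : Odd (Nat.card G)) {p : ℕ}
    [hp : Fact p.Prime] (V N R R₀ K : Subgroup G) (hV : Cfsg.IsElementaryAbelian p V)
    (hNV : N ≤ normalizer (V : Set G)) (hRV : R ≤ normalizer (V : Set G))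
    (hRN : R ≤ normalizer (N : Set G)) (hR₀ : R₀ ≤ R) (hR₀p : (Nat.card R₀).Prime)
    (hcopN : (Nat.card N).Coprime (Nat.card R)) (hfaith : N ⊓ centralizer (V : Set G) = ⊥)
    (hNR : ⁅N, R⁆ = N) (hKN : K ≤ N) (hKp : ¬ p ∣ Nat.card K)
    (hNK : N ≤ normalizer (K : Set G)) (hRK : R ≤ normalizer (K : Set G))
    (hCK : N ⊓ centralizer (K : Set G) ≤ K)
    (hZ : IsZGroup ↥((V ⊔ N) ⊓ centralizer (R₀ : Set G)))
    (hCV : V ⊓ centralizer (R₀ : Set G) = ⊥) : ¬ p ∣ Nat.card N := by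
  intro hpN
  have hrR : Nat.card R₀ ∣ Nat.card R := card_dvd_of_le hR₀
  have hcopNr : (Nat.card N).Coprime (Nat.card R₀) := hcopN.coprime_dvd_right hrR
  have hrp : Nat.card R₀ ≠ p := by
    intro h
    have h1 : p ∣ Nat.gcd (Nat.card N) (Nat.card R₀) := Nat.dvd_gcd hpN (h ▸ dvd_rfl)
    rw [hcopNr] at h1
    exact hp.out.one_lt.ne' (Nat.dvd_one.mp h1)
  have hRK₀ : R₀ ≤ normalizer (K : Set G) := hR₀.trans hRK
  -- Step 1
  have key1 : ∀ K₁ : Subgroup G, K₁ ≤ N → ¬ p ∣ Nat.card K₁ → R₀ ≤ normalizer (K₁ : Set G) →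
      K₁ ≤ centralizer (R₀ : Set G) := by
    intro K₁ hK₁N hK₁p hRK₁
    have hc : (Nat.card K₁).Coprime (Nat.card R₀) :=
      hcopNr.coprime_dvd_left (card_dvd_of_le hK₁N)
    have h1 := commutator_le_centralizer_of_fpf hodd V K₁ R₀ hV (hK₁N.trans hNV) (hR₀.trans hRV)
      hRK₁ hR₀p hK₁p hrp hc hCV
    have h2 : ⁅R₀, K₁⁆ ≤ K₁ := commutator_le_right_of_le_normalizer hRK₁
    have h3 : ⁅R₀, K₁⁆ ≤ N ⊓ centralizer (V : Set G) := le_inf (h2.trans hK₁N) h1
    rw [hfaith] at h3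
    have h4 : R₀ ≤ centralizer (K₁ : Set G) :=
      commutator_eq_bot_iff_le_centralizer.mp (eq_bot_iff.mpr h3)
    exact le_centralizer_iff.mp h4
  have hKc : K ≤ centralizer (R₀ : Set G) := key1 K hKN hKp hRK₀
  -- Step 2
  have key2 : ∀ P₁ : Subgroup G, P₁ ≤ N → IsPGroup p P₁ → R₀ ≤ normalizer (P₁ : Set G) →
      P₁ ≤ centralizer (R₀ : Set G) := by
    intro P₁ hP₁N hP₁ hRP₁
    have hKR : ⁅K, R₀⁆ = ⊥ := commutator_eq_bot_iff_le_centralizer.mpr hKc
    have h1 : ⁅⁅P₁, K⁆, R₀⁆ = ⊥ := by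
      have : ⁅P₁, K⁆ ≤ K := commutator_le_right_of_le_normalizer (hP₁N.trans hNK)
      exact eq_bot_iff.mpr ((commutator_mono this le_rfl).trans hKR.le)
    have h2 : ⁅⁅K, R₀⁆, P₁⁆ = ⊥ := by rw [hKR]; exact commutator_bot_left _
    have h3 : ⁅⁅R₀, P₁⁆, K⁆ = ⊥ := commutator_commutator_eq_bot_of_rotate h1 h2
    have h4 : ⁅R₀, P₁⁆ ≤ P₁ := commutator_le_right_of_le_normalizer hRP₁
    have h5 : ⁅R₀, P₁⁆ ≤ K :=
      (le_inf (h4.trans hP₁N) (commutator_eq_bot_iff_le_centralizer.mp h3)).trans hCK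
    have h6 : P₁ ⊓ K = ⊥ := by
      obtain ⟨k, hk⟩ := hP₁.exists_card_eq
      have : (Nat.card P₁).Coprime (Nat.card K) := by
        rw [hk]
        exact Nat.Coprime.pow_left _ ((Nat.Prime.coprime_iff_not_dvd hp.out).mpr hKp)
      exact (disjoint_of_coprime_natCard this).eq_bot
    have h7 : ⁅R₀, P₁⁆ = ⊥ := eq_bot_iff.mpr (h6 ▸ le_inf h4 h5)
    exact le_centralizer_iff.mp (commutator_eq_bot_iff_le_centralizer.mp h7)
  -- Step 3
  have hNc : N ≤ centralizer (R₀ : Set G) := by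
    have h1 : N ⊓ centralizer (R₀ : Set G) = N := by
      refine Cfsg.Agent.Helper71.Shult.eq_of_contains_sylows inf_le_left (fun s hs => ?_)
      have : Fact s.Prime := ⟨hs⟩
      obtain ⟨S, hS⟩ := exists_invariant_sylow_ambient R₀ N (hR₀.trans hRN) hcopNr.symm
        (Or.inl inferInstance) s
      refine ⟨S, le_inf (sylow_map_le S) ?_⟩
      by_cases hsp : s = p
      · subst hsp
        exact key2 _ (sylow_map_le S) (sylow_map_isPGroup S) hS
      · refine key1 _ (sylow_map_le S) ?_ hS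
        obtain ⟨k, hk⟩ := (sylow_map_isPGroup S).exists_card_eq
        rw [hk]
        intro hd
        exact hsp ((Nat.prime_dvd_prime_iff_eq hp.out hs).mp (hp.out.dvd_of_dvd_pow hd)).symm
    rw [← h1]; exact inf_le_right
  -- Step 4
  have hle : N ≤ (V ⊔ N) ⊓ centralizer (R₀ : Set G) := le_inf le_sup_right hNc
  have hNZ : IsZGroup N := IsZGroup.of_injective (f := inclusion hle) (inclusion_injective hle)
  have hcyc : IsCyclic ↥(⁅N, N⁆ : Subgroup G) := by
    have h1 : IsCyclic (commutator ↥N) := IsZGroup.isCyclic_commutator ↥N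
    have h2 : (commutator ↥N).map N.subtype = ⁅N, N⁆ := map_subtype_commutator N
    rw [← h2]
    exact isCyclic_of_surjective (N.subtype.subgroupMap (commutator ↥N))
      (N.subtype.subgroupMap_surjective (commutator ↥N))
  have hNn : N ≤ normalizer ((⁅N, N⁆ : Subgroup G) : Set G) :=
    le_normalizer.trans (Cfsg.Agent.Helper48.normalizer_le_normalizer_commutator_self N)
  have hRn : R ≤ normalizer ((⁅N, N⁆ : Subgroup G) : Set G) :=
    hRN.trans (Cfsg.Agent.Helper48.normalizer_le_normalizer_commutator_self N)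
  have h7 := commutator_le_centralizer_of_isCyclic hcyc hNn hRn
  rw [hNR] at h7
  have h8 : ⁅⁅N, N⁆, N⁆ = ⊥ :=
    commutator_eq_bot_iff_le_centralizer.mpr (le_centralizer_iff.mp h7)
  have hnil : Group.IsNilpotent N :=
    Cfsg.Agent.Helper21.isNilpotent_of_commutator_commutator_eq_bot h8
  have hNcyc : IsCyclic N := inferInstance
  -- a Sylow `p`-subgroup of `N` is nontrivial but lies in `K`
  let P' : Sylow p N := default
  set P : Subgroup G := (P' : Subgroup N).map N.subtype with hP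
  have hPN : P ≤ N := sylow_map_le P'
  have hPK : P ≤ K := by
    refine (le_inf hPN ?_).trans hCK
    intro x hx
    rw [mem_centralizer_iff]
    intro k hk
    have hcomm := hNcyc.commGroup.mul_comm (⟨k, hKN hk⟩ : N) ⟨x, hPN hx⟩
    exact congrArg Subtype.val hcomm
  have hPK0 : P ⊓ K = ⊥ := by
    obtain ⟨k, hk⟩ := (sylow_map_isPGroup P').exists_card_eq
    have : (Nat.card P).Coprime (Nat.card K) := by
      rw [hk]
      exact Nat.Coprime.pow_left _ ((Nat.Prime.coprime_iff_not_dvd hp.out).mpr hKp)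
    exact (disjoint_of_coprime_natCard this).eq_bot
  have : P = ⊥ := eq_bot_iff.mpr (hPK0 ▸ le_inf le_rfl hPK)
  exact sylow_map_ne_bot P' hpN this

end Cfsg.Agent.Helper32.BG36
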