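import Mathlib
import Cfsg.Prelude.Def_Transfer
import Cfsg.Agent.S0027
import Cfsg.Agent.S0055
import Cfsg.Agent.Helper22.Sup
import Cfsg.Agent.Helper71.ShultHall
import Cfsg.Agent.Helper32.BG36Def
import Cfsg.Agent.Helper32.BG36B
import Cfsg.Agent.Helper32.BG36D
import Cfsg.Agent.Helper32.BG36F
import Cfsg.Agent.Helper32.BG36M

/-!
# B-G Theorem 3.6, the middle part (helper32)

`middle`: steps (3) and (4) of the proof of B-G Theorem 3.6: in the split situation `H = V ⋊ N` with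
`N` faithful on the elementary abelian `p`-group `V`, `K = O_{p'}(N)` self-centralizing in `N`,
`N = [N, R]`, `C_H(R₀)` a Z-group, and the induction hypothesis in the form `hsmall`, the group `N` is
a `p'`-group.
-/

set_option autoImplicit false
open Subgroup
open scoped commutatorElement

namespace Cfsg.Agent.Helper32.BG36

variable {G : Type*} [Group G]

/-- in a cyclic group, elements of order dividing `p` lie in the subgroup generated by any
nontrivial one -/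
theorem mem_zpowers_of_isCyclic_of_pow_eq_one {W : Type*} [Group W] [Finite W] (hW : IsCyclic W)
    {p : ℕ} (hp : p.Prime) {v b : W} (hv1 : v ≠ 1) (hv : v ^ p = 1) (hb : b ^ p = 1) :
    b ∈ zpowers v := by
  letI := hW.commGroup
  haveI : Fact p.Prime := ⟨hp⟩
  have hvΩ : v ∈ (powMonoidHom p : W →* W).ker := MonoidHom.mem_ker.mpr hv
  have hbΩ : b ∈ (powMonoidHom p : W →* W).ker := MonoidHom.mem_ker.mpr hb
  have hΩcyc : IsCyclic ↥(powMonoidHom p : W →* W).ker := Subgroup.isCyclic _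
  have hcard : Nat.card ↥(powMonoidHom p : W →* W).ker ≤ p := by
    refine card_le_of_isCyclic_of_pow_eq_one hΩcyc hp.pos ?_
    intro w
    have h2 : ((w : W)) ^ p = 1 := MonoidHom.mem_ker.mp w.2
    exact Subtype.ext h2
  have hle : zpowers v ≤ (powMonoidHom p : W →* W).ker := zpowers_le.mpr hvΩ
  have hcv : Nat.card (zpowers v) = p := by
    rw [Nat.card_zpowers]; exact orderOf_eq_prime hv hv1
  have heq : zpowers v = (powMonoidHom p : W →* W).ker :=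
    eq_of_le_of_card_ge hle (by rw [hcv]; exact hcard)
  rw [heq]; exact hbΩ

/-- **cyclic-Sylow trick** -/
theorem fix_eq_bot_of_isZGroup [Finite G] {p : ℕ} [hp : Fact p.Prime] (V N P₁ R₀ : Subgroup G)
    (hV : Cfsg.IsElementaryAbelian p V) (hNV : N ≤ normalizer (V : Set G)) (hVN : V ⊓ N = ⊥)
    (hP₁N : P₁ ≤ N) (hP₁ : IsPGroup p P₁)
    (hZ : IsZGroup ↥((V ⊔ N) ⊓ centralizer (R₀ : Set G)))
    (hCV : V ⊓ centralizer (R₀ : Set G) ≠ ⊥) : P₁ ⊓ centralizer (R₀ : Set G) = ⊥ := by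
  by_contra hne
  set A : Subgroup G := V ⊓ centralizer (R₀ : Set G) with hA
  set B : Subgroup G := P₁ ⊓ centralizer (R₀ : Set G) with hB
  have hVp : IsPGroup p V := by
    intro g
    exact ⟨1, by rw [pow_one]; exact Subtype.ext (hV.2 g g.2)⟩
  have hAp : IsPGroup p A := hVp.to_le inf_le_left
  have hBp : IsPGroup p B := hP₁.to_le inf_le_left
  have hBA : B ≤ normalizer (A : Set G) := by
    intro b hb
    exact mem_normalizer_inf (hNV (hP₁N hb.1)) (le_normalizer hb.2)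
  have hWp : IsPGroup p (B ⊔ A : Subgroup G) := hBp.to_sup_of_normal_right' hAp hBA
  have hWZ : B ⊔ A ≤ (V ⊔ N) ⊓ centralizer (R₀ : Set G) :=
    sup_le (le_inf (inf_le_left.trans (hP₁N.trans le_sup_right)) inf_le_right)
      (le_inf (inf_le_left.trans le_sup_left) inf_le_right)
  have hWcyc : IsCyclic ↥(B ⊔ A : Subgroup G) := isCyclic_of_le_isZGroup hZ hWZ hWp
  -- elements
  obtain ⟨v, hvA, hv1⟩ := (ne_bot_iff_exists_ne_one.mp hCV : ∃ a : A, a ≠ 1) |> fun ⟨a, ha⟩ =>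
    (⟨(a : G), a.2, fun h => ha (Subtype.ext h)⟩ : ∃ v : G, v ∈ A ∧ v ≠ 1)
  obtain ⟨b, hbB, hb1⟩ := (ne_bot_iff_exists_ne_one.mp hne : ∃ a : B, a ≠ 1) |> fun ⟨a, ha⟩ =>
    (⟨(a : G), a.2, fun h => ha (Subtype.ext h)⟩ : ∃ v : G, v ∈ B ∧ v ≠ 1)
  -- an element of order `p` in `zpowers b`
  obtain ⟨k, hk⟩ := (IsPGroup.iff_orderOf.mp hBp) ⟨b, hbB⟩
  have hk' : orderOf b = p ^ k := by
    rw [← hk]; exact (Subgroup.orderOf_mk b hbB).symm
  have hk0 : k ≠ 0 := by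
    rintro rfl
    rw [pow_zero, orderOf_eq_one_iff] at hk'
    exact hb1 hk'
  obtain ⟨j, rfl⟩ : ∃ j, k = j + 1 := ⟨k - 1, by omega⟩
  set b' : G := b ^ (p ^ j) with hb'
  have hb'B : b' ∈ B := pow_mem hbB _
  have hb'p : b' ^ p = 1 := by
    rw [hb', ← pow_mul, ← pow_succ, ← hk', pow_orderOf_eq_one]
  have hb'1 : b' ≠ 1 := by
    rw [hb']
    apply pow_ne_one_of_lt_orderOf (pow_pos hp.out.pos j).ne'
    rw [hk']
    exact Nat.pow_lt_pow_right hp.out.one_lt (Nat.lt_succ_self j)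
  have hvp : v ^ p = 1 := hV.2 v hvA.1
  -- apply the cyclic lemma inside `B ⊔ A`
  have hvW : v ∈ B ⊔ A := (le_sup_right : A ≤ B ⊔ A) hvA
  have hbW : b' ∈ B ⊔ A := (le_sup_left : B ≤ B ⊔ A) hb'B
  have hmem := mem_zpowers_of_isCyclic_of_pow_eq_one hWcyc hp.out
    (v := (⟨v, hvW⟩ : ↥(B ⊔ A : Subgroup G))) (b := ⟨b', hbW⟩)
    (fun h => hv1 (congrArg Subtype.val h)) (Subtype.ext (by simpa using hvp))
    (Subtype.ext (by simpa using hb'p))
  obtain ⟨n, hn⟩ := mem_zpowers_iff.mp hmem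
  have hn' : v ^ n = b' := by
    have := congrArg Subtype.val hn
    simpa using this
  have hb'V : b' ∈ V := by rw [← hn']; exact V.zpow_mem (mem_inf.mp hvA).1 n
  have : b' ∈ V ⊓ N := ⟨hb'V, hP₁N hb'B.1⟩
  rw [hVN, mem_bot] at this
  exact hb'1 this

/-- `|C_V(R₀)| ≤ p` -/
theorem card_fix_le_of_isZGroup [Finite G] {p : ℕ} [hp : Fact p.Prime] (V N R₀ : Subgroup G)
    (hV : Cfsg.IsElementaryAbelian p V) (hZ : IsZGroup ↥((V ⊔ N) ⊓ centralizer (R₀ : Set G))) :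
    Nat.card ↥(V ⊓ centralizer (R₀ : Set G)) ≤ p := by
  have hVp : IsPGroup p V := by
    intro g
    exact ⟨1, by rw [pow_one]; exact Subtype.ext (hV.2 g g.2)⟩
  have hAp : IsPGroup p ↥(V ⊓ centralizer (R₀ : Set G)) := hVp.to_le inf_le_left
  have hle : V ⊓ centralizer (R₀ : Set G) ≤ (V ⊔ N) ⊓ centralizer (R₀ : Set G) :=
    le_inf (inf_le_left.trans le_sup_left) inf_le_right
  have hcyc := isCyclic_of_le_isZGroup hZ hle hAp
  refine card_le_of_isCyclic_of_pow_eq_one hcyc hp.out.pos ?_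
  intro w
  exact Subtype.ext (hV.2 w w.2.1)

/-- **Case B of the middle part**: `C_V(R₀) ≠ 1` is impossible when `p ∣ |N|`. -/
theorem middle_caseB [Finite G] [Group.IsSolvable G] (hodd : Odd (Nat.card G)) {p : ℕ}
    [hp : Fact p.Prime] (V N R R₀ K : Subgroup G) (hV : Cfsg.IsElementaryAbelian p V)
    (hNV : N ≤ normalizer (V : Set G)) (hRV : R ≤ normalizer (V : Set G))
    (hRN : R ≤ normalizer (N : Set G)) (hR₀ : R₀ ≤ R) (hR₀p : (Nat.card R₀).Prime)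
    (hcop : (Nat.card V * Nat.card N).Coprime (Nat.card R))
    (hVN : V ⊓ N = ⊥) (hfaith : N ⊓ centralizer (V : Set G) = ⊥)
    (hKN : K ≤ N) (hKp : ¬ p ∣ Nat.card K)
    (hNK : N ≤ normalizer (K : Set G)) (hRK : R ≤ normalizer (K : Set G))
    (hCK : N ⊓ centralizer (K : Set G) ≤ K)
    (hZ : IsZGroup ↥((V ⊔ N) ⊓ centralizer (R₀ : Set G)))
    (hsmall : ∀ V₁ Q₁ P₁ : Subgroup G, V₁ ≤ V → Q₁ ≤ N → P₁ ≤ N → IsPGroup p P₁ →
      ¬ p ∣ Nat.card Q₁ →
      Q₁ ≤ normalizer (V₁ : Set G) → P₁ ≤ normalizer (V₁ : Set G) → R₀ ≤ normalizer (V₁ : Set G) →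
      P₁ ≤ normalizer (Q₁ : Set G) → R₀ ≤ normalizer (Q₁ : Set G) → R₀ ≤ normalizer (P₁ : Set G) →
      P₁ ⊓ centralizer (R₀ : Set G) = ⊥ →
      Nat.card V₁ * Nat.card Q₁ * Nat.card P₁ * Nat.card R₀ < Nat.card G →
      ⁅V₁, ⁅Q₁, P₁⁆⁆ = ⊥)
    (hG : Nat.card G = Nat.card V * Nat.card N * Nat.card R)
    (hCV : V ⊓ centralizer (R₀ : Set G) ≠ ⊥) : ¬ p ∣ Nat.card N := by
  intro hpN
  haveI : Fact (Nat.card R₀).Prime := ⟨hR₀p⟩
  have hcopN : (Nat.card N).Coprime (Nat.card R) :=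
    Nat.Coprime.coprime_dvd_left (dvd_mul_left _ _) hcop
  have hrR : Nat.card R₀ ∣ Nat.card R := card_dvd_of_le hR₀
  have hcopNr : (Nat.card N).Coprime (Nat.card R₀) := hcopN.coprime_dvd_right hrR
  have hr_ne : ∀ s : ℕ, s ∣ Nat.card N → s ≠ 1 → Nat.card R₀ ≠ s := by
    intro s hs hs1 h
    have h1 : s ∣ Nat.gcd (Nat.card N) (Nat.card R₀) := Nat.dvd_gcd hs (h ▸ dvd_rfl)
    rw [hcopNr] at h1
    exact hs1 (Nat.dvd_one.mp h1)
  have hrp : Nat.card R₀ ≠ p := hr_ne p hpN hp.out.one_lt.ne'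
  -- the `R`-invariant Sylow `p`-subgroup `P` of `N`
  obtain ⟨SP, hRP⟩ := exists_invariant_sylow_ambient R N hRN hcopN.symm (Or.inr inferInstance) p
  set P : Subgroup G := (SP : Subgroup N).map N.subtype with hPdef
  have hPN : P ≤ N := sylow_map_le SP
  have hPp : IsPGroup p P := sylow_map_isPGroup SP
  have hP1 : P ≠ ⊥ := sylow_map_ne_bot SP hpN
  have hR₀P : R₀ ≤ normalizer (P : Set G) := hR₀.trans hRP
  have hCP : P ⊓ centralizer (R₀ : Set G) = ⊥ :=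
    fix_eq_bot_of_isZGroup V N P R₀ hV hNV hVN hPN hPp hZ hCV
  have hpP : p ∣ Nat.card P := by
    rcases hPp.card_eq_or_dvd with h | h
    · exact absurd (Subgroup.card_eq_one.mp h) hP1
    · exact h
  -- `K` is not centralized by `P`
  have hKP : ¬ K ≤ centralizer (P : Set G) := by
    intro h
    have h1 : P ≤ centralizer (K : Set G) := le_centralizer_iff.mp h
    have h2 : P ≤ K := (le_inf hPN h1).trans hCK
    exact hKp (dvd_trans hpP (card_dvd_of_le h2))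
  have hD : K ⊓ centralizer (P : Set G) ≠ K := fun h => hKP (inf_eq_left.mp h)
  -- the prime `q`
  have hex : ∃ q : ℕ, q.Prime ∧ ∀ S : Sylow q ↥K,
      ¬ (S : Subgroup ↥K).map K.subtype ≤ K ⊓ centralizer (P : Set G) := by
    by_contra hcon
    push_neg at hcon
    exact hD (Cfsg.Agent.Helper71.Shult.eq_of_contains_sylows inf_le_left hcon)
  obtain ⟨q, hq, hqS⟩ := hex
  haveI : Fact q.Prime := ⟨hq⟩
  have hPK : P ≤ normalizer (K : Set G) := hPN.trans hNK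
  have hR₀K : R₀ ≤ normalizer (K : Set G) := hR₀.trans hRK
  have hcopK : (Nat.card ↥(R₀ ⊔ P)).Coprime (Nat.card K) := by
    have h1 := Cfsg.Agent.Helper22.card_sup_dvd_of_le_normalizer R₀ P hR₀P
    refine Nat.Coprime.coprime_dvd_left h1 ?_
    refine Nat.Coprime.mul_left ?_ ?_
    · exact (hcopNr.coprime_dvd_left (card_dvd_of_le hKN)).symm
    · obtain ⟨n, hn⟩ := hPp.exists_card_eq
      rw [hn]
      exact Nat.Coprime.pow_left _ ((Nat.Prime.coprime_iff_not_dvd hp.out).mpr hKp)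
  obtain ⟨SQ, hSQ⟩ := exists_invariant_sylow_ambient (R₀ ⊔ P) K (sup_le hR₀K hPK) hcopK
    (Or.inr inferInstance) q
  set Qs : Subgroup G := (SQ : Subgroup K).map K.subtype with hQsdef
  have hQsK : Qs ≤ K := sylow_map_le SQ
  have hQsq : IsPGroup q Qs := sylow_map_isPGroup SQ
  have hQsP : ⁅Qs, P⁆ ≠ ⊥ := by
    intro h
    exact hqS SQ (le_inf hQsK (commutator_eq_bot_iff_le_centralizer.mp h))
  -- minimal `Q`
  let S : Set (Subgroup G) := {Q₁ | Q₁ ≤ Qs ∧ P ≤ normalizer (Q₁ : Set G) ∧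
    R₀ ≤ normalizer (Q₁ : Set G) ∧ ⁅Q₁, P⁆ ≠ ⊥}
  have hSne : S.Nonempty :=
    ⟨Qs, le_rfl, le_sup_right.trans hSQ, le_sup_left.trans hSQ, hQsP⟩
  obtain ⟨Q, hQS, hQmin⟩ := wellFounded_lt.has_min S hSne
  obtain ⟨hQQs, hPQ, hR₀Q, hQP0⟩ := hQS
  have hQK : Q ≤ K := hQQs.trans hQsK
  have hQN : Q ≤ N := hQK.trans hKN
  have hQq : IsPGroup q Q := hQsq.to_le hQQs
  have hQ1 : Q ≠ ⊥ := by
    intro h
    apply hQP0
    rw [h]
    exact commutator_bot_left P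
  have hqQ : q ∣ Nat.card Q := by
    rcases hQq.card_eq_or_dvd with h | h
    · exact absurd (Subgroup.card_eq_one.mp h) hQ1
    · exact h
  have hqK : q ∣ Nat.card K := dvd_trans hqQ (card_dvd_of_le hQK)
  have hpq : p ≠ q := by
    intro h
    exact hKp (h ▸ hqK)
  have hrq : Nat.card R₀ ≠ q := hr_ne q (dvd_trans hqK (card_dvd_of_le hKN)) hq.one_lt.ne'
  have hpQ : ¬ p ∣ Nat.card Q := fun h => hKp (dvd_trans h (card_dvd_of_le hQK))
  have hcopPQ : (Nat.card P).Coprime (Nat.card Q) := by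
    obtain ⟨n, hn⟩ := hPp.exists_card_eq
    rw [hn]
    exact Nat.Coprime.pow_left _ ((Nat.Prime.coprime_iff_not_dvd hp.out).mpr hpQ)
  -- `Q = [Q, P]`
  have hQP : ⁅Q, P⁆ = Q := by
    have h1 : ⁅Q, P⁆ ≤ Q := commutator_le_left_of_le_normalizer hPQ
    have h2 : ⁅⁅Q, P⁆, P⁆ = ⁅Q, P⁆ :=
      Cfsg.Agent.S0027.result P Q hPQ hcopPQ (Or.inr inferInstance)
    have h3 : ⁅Q, P⁆ ∈ S := by
      refine ⟨h1.trans hQQs, ?_, ?_, ?_⟩
      · intro x hx; exact mem_normalizer_commutator (hPQ hx) (le_normalizer hx)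
      · intro x hx; exact mem_normalizer_commutator (hR₀Q hx) (hR₀P hx)
      · rw [h2]; exact hQP0
    by_contra hne
    exact hQmin _ h3 (lt_of_le_of_ne h1 hne)
  have hminQ : ∀ Q₂ : Subgroup G, Q₂ ≤ Q → Q₂ ≠ Q → P ≤ normalizer (Q₂ : Set G) →
      R₀ ≤ normalizer (Q₂ : Set G) → ⁅Q₂, P⁆ = ⊥ := by
    intro Q₂ h1 h2 h3 h4
    by_contra hne
    exact hQmin Q₂ ⟨h1.trans hQQs, h3, h4, hne⟩ (lt_of_le_of_ne h1 h2)
  have hQV : Q ≤ normalizer (V : Set G) := hQN.trans hNV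
  have hPV : P ≤ normalizer (V : Set G) := hPN.trans hNV
  have hR₀V : R₀ ≤ normalizer (V : Set G) := hR₀.trans hRV
  have hfaithQ : Q ⊓ centralizer (V : Set G) = ⊥ := by
    rw [eq_bot_iff, ← hfaith]
    exact inf_le_inf_right _ hQN
  -- the induction hypothesis for proper invariant subgroups of `V`
  have hsm : ∀ V₂ : Subgroup G, V₂ ≤ V → V₂ ≠ V → Q ≤ normalizer (V₂ : Set G) →
      P ≤ normalizer (V₂ : Set G) → R₀ ≤ normalizer (V₂ : Set G) → ⁅V₂, Q⁆ = ⊥ := by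
    intro V₂ h1 h2 h3 h4 h5
    have hlt : Nat.card V₂ < Nat.card V :=
      lt_of_le_of_ne (card_le_of_le h1) (fun heq => h2 (eq_of_le_of_card_ge h1 heq.ge))
    have hQPle : Nat.card Q * Nat.card P ≤ Nat.card N := by
      apply Nat.le_of_dvd Nat.card_pos
      exact Nat.Coprime.mul_dvd_of_dvd_of_dvd hcopPQ.symm (card_dvd_of_le hQN) (card_dvd_of_le hPN)
    have hRle : Nat.card R₀ ≤ Nat.card R := card_le_of_le hR₀
    have hbound : Nat.card V₂ * Nat.card Q * Nat.card P * Nat.card R₀ < Nat.card G := by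
      rw [hG, mul_assoc (Nat.card V₂)]
      have h6 : Nat.card V₂ * (Nat.card Q * Nat.card P) < Nat.card V * Nat.card N :=
        Nat.mul_lt_mul_of_lt_of_le hlt hQPle Nat.card_pos
      exact Nat.mul_lt_mul_of_lt_of_le h6 hRle Nat.card_pos
    have h7 := hsmall V₂ Q P h1 hQN hPN hPp hpQ h3 h4 h5 hPQ hR₀Q hR₀P hCP hbound
    rwa [hQP] at h7
  -- `C_V(Q) = 1`
  haveI : IsMulCommutative V := hV.1
  have hVp : IsPGroup p V := by
    intro g
    exact ⟨1, by rw [pow_one]; exact Subtype.ext (hV.2 g g.2)⟩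
  have hcopQV : (Nat.card Q).Coprime (Nat.card V) := by
    obtain ⟨n, hn⟩ := hVp.exists_card_eq
    rw [hn]
    exact Nat.Coprime.pow_right _ ((Nat.Prime.coprime_iff_not_dvd hp.out).mpr hpQ).symm
  have hVQ : ⁅V, Q⁆ = V := by
    by_contra hne
    have h1 : ⁅V, Q⁆ ≤ V := commutator_le_left_of_le_normalizer hQV
    have h2 := hsm ⁅V, Q⁆ h1 hne
      (fun x hx => mem_normalizer_commutator (hQV hx) (le_normalizer hx))
      (fun x hx => mem_normalizer_commutator (hPV hx) (hPQ hx))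
      (fun x hx => mem_normalizer_commutator (hR₀V hx) (hR₀Q hx))
    rw [Cfsg.Agent.S0027.result Q V hQV hcopQV (Or.inl inferInstance)] at h2
    have h3 : Q ≤ centralizer (V : Set G) := by
      rw [← commutator_eq_bot_iff_le_centralizer, commutator_comm]; exact h2
    apply hQ1
    rw [eq_bot_iff, ← hfaithQ]
    exact le_inf le_rfl h3
  have hCVQ : V ⊓ centralizer (Q : Set G) = ⊥ := by
    have h := (Cfsg.Agent.S0055.result Q V hQV hcopQV).1
    rw [hVQ] at h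
    rw [← h]
    exact (inf_eq_left.mpr inf_le_left).symm
  have hirrV : ∀ V₂ : Subgroup G, V₂ ≤ V → V₂ ≠ V → Q ≤ normalizer (V₂ : Set G) →
      P ≤ normalizer (V₂ : Set G) → R₀ ≤ normalizer (V₂ : Set G) → V₂ = ⊥ := by
    intro V₂ h1 h2 h3 h4 h5
    have h6 := hsm V₂ h1 h2 h3 h4 h5
    rw [eq_bot_iff, ← hCVQ]
    exact le_inf h1 (commutator_eq_bot_iff_le_centralizer.mp h6)
  have hCQ : IsCyclic ↥(Q ⊓ centralizer (R₀ : Set G)) :=
    isCyclic_of_le_isZGroup hZ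
      (le_inf (inf_le_left.trans (hQN.trans le_sup_right)) inf_le_right) (hQq.to_le inf_le_left)
  exact final_config_false hodd hpq hrp hrq V Q P R₀
    { hV := hV, hQ := hQq, hP := hPp, hR₀ := rfl, hQV := hQV, hPV := hPV, hRV := hR₀V,
      hPQ := hPQ, hRQ := hR₀Q, hRP := hR₀P, hfaith := hfaithQ, hQP := hQP, hQ1 := hQ1,
      hCP := hCP, hCV := card_fix_le_of_isZGroup V N R₀ hV hZ, hCQ := hCQ, hminQ := hminQ,
      hirrV := hirrV }

/-- **The middle part of B-G Theorem 3.6** (steps (3) and (4)): `N` is a `p'`-group. -/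
theorem middle [Finite G] [Group.IsSolvable G] (hodd : Odd (Nat.card G)) {p : ℕ}
    [Fact p.Prime] (V N R R₀ K : Subgroup G) (hV : Cfsg.IsElementaryAbelian p V)
    (hNV : N ≤ normalizer (V : Set G)) (hRV : R ≤ normalizer (V : Set G))
    (hRN : R ≤ normalizer (N : Set G)) (hR₀ : R₀ ≤ R) (hR₀p : (Nat.card R₀).Prime)
    (hcop : (Nat.card V * Nat.card N).Coprime (Nat.card R))
    (hVN : V ⊓ N = ⊥) (hfaith : N ⊓ centralizer (V : Set G) = ⊥) (hNR : ⁅N, R⁆ = N)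
    (hKN : K ≤ N) (hKp : ¬ p ∣ Nat.card K)
    (hNK : N ≤ normalizer (K : Set G)) (hRK : R ≤ normalizer (K : Set G))
    (hCK : N ⊓ centralizer (K : Set G) ≤ K)
    (hZ : IsZGroup ↥((V ⊔ N) ⊓ centralizer (R₀ : Set G)))
    (hsmall : ∀ V₁ Q₁ P₁ : Subgroup G, V₁ ≤ V → Q₁ ≤ N → P₁ ≤ N → IsPGroup p P₁ →
      ¬ p ∣ Nat.card Q₁ →
      Q₁ ≤ normalizer (V₁ : Set G) → P₁ ≤ normalizer (V₁ : Set G) → R₀ ≤ normalizer (V₁ : Set G) →
      P₁ ≤ normalizer (Q₁ : Set G) → R₀ ≤ normalizer (Q₁ : Set G) → R₀ ≤ normalizer (P₁ : Set G) →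
      P₁ ⊓ centralizer (R₀ : Set G) = ⊥ →
      Nat.card V₁ * Nat.card Q₁ * Nat.card P₁ * Nat.card R₀ < Nat.card G →
      ⁅V₁, ⁅Q₁, P₁⁆⁆ = ⊥)
    (hG : Nat.card G = Nat.card V * Nat.card N * Nat.card R) : ¬ p ∣ Nat.card N := by
  by_cases hCV : V ⊓ centralizer (R₀ : Set G) = ⊥
  · exact middle_caseA hodd V N R R₀ K hV hNV hRV hRN hR₀ hR₀p
      (Nat.Coprime.coprime_dvd_left (dvd_mul_left _ _) hcop) hfaith hNR hKN hKp hNK hRK hCK hZ hCV
  · exact middle_caseB hodd V N R R₀ K hV hNV hRV hRN hR₀ hR₀p hcop hVN hfaith hKN hKp hNK hRK hCK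
      hZ hsmall hG hCV


end Cfsg.Agent.Helper32.BG36
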