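-- Narrow p-groups (Bender–Glauberman §5): automorphisms of a p-group of rank ≥ 3 with a maximal
-- elementary abelian subgroup of order p² (helper32).
import Mathlib
import Cfsg.Prelude.Def_CaseTheorems
import Cfsg.Prelude.Def_Transfer
import Cfsg.Agent.Helper52.PGroupLemmas
import Cfsg.Agent.Helper23.Basic
import Cfsg.Agent.S1453
import Cfsg.Agent.S1949

set_option autoImplicit false
open Cfsg

namespace Cfsg.Agent.Helper32.Narrow

open scoped commutatorElement

/-- Counting lemma: if all `x e x⁻¹ e⁻¹`, `x ∈ X`, lie in a subgroup `Y`, then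
`|X| ≤ |Y| * |C_X(e)|` (no centrality assumption). -/
theorem card_le_card_mul_card_inf_centralizer {G : Type*} [Group G] [Finite G]
    (X Y : Subgroup G) (e : G) (h : ∀ x ∈ X, x * e * x⁻¹ * e⁻¹ ∈ Y) :
    Nat.card X ≤ Nat.card Y *
      Nat.card (X ⊓ Subgroup.centralizer ({e} : Set G) : Subgroup G) := by
  classical
  set K : Subgroup X := (Subgroup.centralizer ({e} : Set G)).subgroupOf X with hK
  have hKmem : ∀ a : X, a ∈ K ↔ (a : G) * e = e * (a : G) := by
    intro a
    rw [hK, Subgroup.mem_subgroupOf, Subgroup.mem_centralizer_singleton_iff]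
  let f : X ⧸ K → Y := Quotient.lift
    (fun x : X => (⟨(x : G) * e * (x : G)⁻¹ * e⁻¹, h x x.2⟩ : Y)) (by
      intro a b hab
      have hab' : a⁻¹ * b ∈ K := QuotientGroup.leftRel_apply.mp hab
      have hc := (hKmem _).mp hab'
      apply Subtype.ext
      show (a : G) * e * (a : G)⁻¹ * e⁻¹ = (b : G) * e * (b : G)⁻¹ * e⁻¹
      have hc' : (a : G)⁻¹ * (b : G) * e = e * ((a : G)⁻¹ * (b : G)) := by
        simpa using hc
      have hb : (b : G) * e * (b : G)⁻¹ = (a : G) * e * (a : G)⁻¹ := by
        calc (b : G) * e * (b : G)⁻¹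
            = (a : G) * ((a : G)⁻¹ * (b : G) * e) * (b : G)⁻¹ := by group
          _ = (a : G) * (e * ((a : G)⁻¹ * (b : G))) * (b : G)⁻¹ := by rw [hc']
          _ = (a : G) * e * (a : G)⁻¹ := by group
      rw [hb])
  have hf : Function.Injective f := by
    intro u v
    induction u using QuotientGroup.induction_on with
    | H a =>
      induction v using QuotientGroup.induction_on with
      | H b =>
        intro hab
        have h1 : (a : G) * e * (a : G)⁻¹ * e⁻¹ = (b : G) * e * (b : G)⁻¹ * e⁻¹ :=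
          congrArg Subtype.val hab
        have h2 : (a : G) * e * (a : G)⁻¹ = (b : G) * e * (b : G)⁻¹ := mul_right_cancel h1
        apply QuotientGroup.eq.mpr
        rw [hKmem]
        have : ((a⁻¹ * b : X) : G) = (a : G)⁻¹ * (b : G) := by simp
        rw [this]
        calc (a : G)⁻¹ * (b : G) * e
            = (a : G)⁻¹ * ((b : G) * e * (b : G)⁻¹) * (b : G) := by group
          _ = (a : G)⁻¹ * ((a : G) * e * (a : G)⁻¹) * (b : G) := by rw [h2]
          _ = e * ((a : G)⁻¹ * (b : G)) := by group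
  have hrel : (Subgroup.centralizer ({e} : Set G)).relIndex X ≤ Nat.card Y := by
    rw [Subgroup.relIndex, Subgroup.index]
    exact Nat.card_le_card_of_injective f hf
  have hmul := Cfsg.Agent.Helper52.relIndex_mul_card_of_le
    (inf_le_left : X ⊓ Subgroup.centralizer ({e} : Set G) ≤ X)
  rw [Subgroup.inf_relIndex_left] at hmul
  rw [← hmul]
  exact Nat.mul_le_mul_right _ hrel

/-- An automorphism of order prime to `p` fixing the `p`-subgroup `M` elementwise and acting
trivially on `M' / M` fixes `M'` elementwise. -/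
theorem fix_of_coprime_section {R : Type*} [Group R] [Finite R] {p : ℕ} [Fact p.Prime]
    (γ : MulAut R) (hγ : (orderOf γ).Coprime p) (M M' : Subgroup R) (hM : IsPGroup p M)
    (hfix : ∀ m ∈ M, γ m = m) (hsec : ∀ x ∈ M', x⁻¹ * γ x ∈ M) :
    ∀ x ∈ M', γ x = x := by
  intro x hx
  set m := x⁻¹ * γ x with hm
  have hmM : m ∈ M := hsec x hx
  have hγx : γ x = x * m := by rw [hm]; group
  have hpow : ∀ k : ℕ, (γ ^ k) x = x * m ^ k := by
    intro k
    induction k with
    | zero => simp
    | succ k ih =>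
      rw [pow_succ', MulAut.mul_apply, ih, map_mul, map_pow, hfix m hmM, hγx, pow_succ']
      group
  have h1 := hpow (orderOf γ)
  rw [pow_orderOf_eq_one, MulAut.one_apply] at h1
  have h2 : m ^ orderOf γ = 1 := by
    have : x * m ^ orderOf γ = x * 1 := by rw [mul_one]; exact h1.symm
    exact mul_left_cancel this
  obtain ⟨j, hj⟩ := hM ⟨m, hmM⟩
  have hj' : m ^ p ^ j = 1 := by simpa using congrArg Subtype.val hj
  have hcop : (orderOf γ).Coprime (p ^ j) := Nat.Coprime.pow_right j hγ
  have hm1 : m = 1 := by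
    have hd1 : orderOf m ∣ orderOf γ := orderOf_dvd_of_pow_eq_one h2
    have hd2 : orderOf m ∣ p ^ j := orderOf_dvd_of_pow_eq_one hj'
    have : orderOf m = 1 := Nat.eq_one_of_dvd_coprimes hcop hd1 hd2
    exact orderOf_eq_one_iff.mp this
  rw [hγx, hm1, mul_one]

/-- Automorphisms in the commutator subgroup of `Aut R` act trivially on a characteristic section
of order `1` or `p` of the `p`-group `R`. -/
theorem commutator_aut_section {R : Type*} [Group R] [Finite R] {p : ℕ} [hp : Fact p.Prime]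
    (hR : IsPGroup p R) (M M' : Subgroup R) [hMc : M.Characteristic] [hM'c : M'.Characteristic]
    (hMM' : M ≤ M') (hcard : Nat.card M' ≤ p * Nat.card M) :
    ∀ γ ∈ commutator (MulAut R), ∀ x ∈ M', x⁻¹ * γ x ∈ M := by
  classical
  have hpp : p.Prime := hp.out
  set N : Subgroup M' := M.subgroupOf M' with hN
  haveI : N.Normal := Subgroup.normal_subgroupOf
  set ρ : MulAut R →* MulAut M' := MulAut.characteristic M' with hρ
  have hρapp : ∀ (α : MulAut R) (y : M'), ((ρ α y : M') : R) = α (y : R) := fun α y => rfl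
  have hρsymm : ∀ (α : MulAut R) (y : M'), (((ρ α).symm y : M') : R) = α.symm (y : R) :=
    fun α y => rfl
  have hNmap : ∀ α : MulAut R, N.map (ρ α).toMonoidHom = N := by
    intro α
    ext y
    rw [Subgroup.mem_map]
    constructor
    · rintro ⟨z, hz, rfl⟩
      have hz' : (z : R) ∈ M := Subgroup.mem_subgroupOf.mp hz
      exact Subgroup.mem_subgroupOf.mpr ((Subgroup.characteristic_iff_le_comap.mp hMc α) hz')
    · intro hy
      have hy' : (y : R) ∈ M := Subgroup.mem_subgroupOf.mp hy
      refine ⟨(ρ α).symm y, Subgroup.mem_subgroupOf.mpr ?_, by simp⟩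
      rw [hρsymm]
      exact (Subgroup.characteristic_iff_le_comap.mp hMc α.symm) hy'
  let Ψ : MulAut R →* MulAut (M' ⧸ N) :=
    { toFun := fun α => QuotientGroup.congr N N (ρ α) (hNmap α)
      map_one' := by
        ext u
        induction u using QuotientGroup.induction_on with
        | H u => rfl
      map_mul' := fun α β => by
        ext u
        induction u using QuotientGroup.induction_on with
        | H u => rfl }
  have hΨapp : ∀ (α : MulAut R) (y : M'),
      Ψ α (QuotientGroup.mk y) = QuotientGroup.mk (ρ α y) := fun α y => rfl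
  -- the quotient is cyclic
  have hcardQ : Nat.card (M' ⧸ N) ≤ p := by
    have h1 := Cfsg.Agent.Helper52.relIndex_mul_card_of_le hMM'
    have h2 : Nat.card (M' ⧸ N) = M.relIndex M' := rfl
    rw [h2]
    have hpos : 0 < Nat.card M := Nat.card_pos
    rw [← h1] at hcard
    exact Nat.le_of_mul_le_mul_right hcard hpos
  have hQp : IsPGroup p (M' ⧸ N) := (hR.to_subgroup M').to_quotient N
  have hcyc : IsCyclic (M' ⧸ N) := by
    obtain ⟨k, hk⟩ := IsPGroup.iff_card.mp hQp
    have hk1 : k ≤ 1 := by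
      by_contra hcon
      have hcon' : 2 ≤ k := by omega
      have : p ^ 2 ≤ p ^ k := Nat.pow_le_pow_right hpp.pos hcon'
      have h3 : p ^ 2 ≤ p := by rw [hk] at hcardQ; exact this.trans hcardQ
      have : p * p ≤ p * 1 := by rw [mul_one, ← pow_two]; exact h3
      have := Nat.le_of_mul_le_mul_left this hpp.pos
      exact absurd hpp.one_lt (not_lt.mpr this)
    interval_cases k
    · have : Subsingleton (M' ⧸ N) := (Nat.card_eq_one_iff_unique.mp (by simpa using hk)).1
      exact isCyclic_of_subsingleton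
    · exact isCyclic_of_prime_card (p := p) (by simpa using hk)
  have hab : ∀ a b : MulAut (M' ⧸ N), a * b = b * a := by
    intro a b
    apply (IsCyclic.mulAutMulEquiv (M' ⧸ N)).injective
    rw [map_mul, map_mul, mul_comm]
  have hker : commutator (MulAut R) ≤ Ψ.ker := by
    rw [commutator_def, Subgroup.commutator_le]
    intro a _ b _
    rw [MonoidHom.mem_ker, map_commutatorElement, commutatorElement_eq_one_iff_mul_comm]
    exact hab _ _
  intro γ hγ x hx
  have h1 : Ψ γ = 1 := MonoidHom.mem_ker.mp (hker hγ)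
  have h2 : Ψ γ (QuotientGroup.mk ⟨x, hx⟩) = QuotientGroup.mk ⟨x, hx⟩ := by
    rw [h1]; rfl
  rw [hΨapp] at h2
  have h3 : (⟨x, hx⟩ : M')⁻¹ * ρ γ ⟨x, hx⟩ ∈ N := QuotientGroup.eq.mp h2.symm
  rw [hN, Subgroup.mem_subgroupOf] at h3
  simpa [hρapp] using h3

/-- A subgroup of `E₁` (of order `p²`) containing the subgroup `Z` of order `p` and an element
outside `Z` is all of `E₁`. -/
theorem eq_of_card_sq {R : Type*} [Group R] [Finite R] {p : ℕ} [hp : Fact p.Prime]
    (hR : IsPGroup p R) (E₁ Z H : Subgroup R) (hE₁ : Nat.card E₁ = p ^ 2) (hZ : Nat.card Z = p)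
    (hZH : Z ≤ H) (hHE : H ≤ E₁) (e : R) (heH : e ∈ H) (heZ : e ∉ Z) : H = E₁ := by
  have hpp : p.Prime := hp.out
  have hlt : Z < H := lt_of_le_of_ne hZH (fun h => heZ (h ▸ heH))
  have h1 : Nat.card Z < Nat.card H := Cfsg.Agent.S1453.card_lt_card_of_lt' hlt
  obtain ⟨k, hk⟩ := IsPGroup.iff_card.mp (hR.to_subgroup H)
  have hk2 : 2 ≤ k := by
    by_contra hcon
    have hk1 : k ≤ 1 := by omega
    have h3 : p ^ k ≤ p := by
      calc p ^ k ≤ p ^ 1 := Nat.pow_le_pow_right hpp.pos hk1
        _ = p := pow_one p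
    rw [hZ, hk] at h1
    exact absurd h1 (not_lt.mpr h3)
  have h2 : Nat.card E₁ ≤ Nat.card H := by
    rw [hE₁, hk]
    exact Nat.pow_le_pow_right hpp.pos hk2
  exact Subgroup.eq_of_le_of_card_ge hHE h2

/-- **Narrow `p`-groups**: if the `p`-group `R` (`p` odd) has rank at least `3` and an elementary
abelian subgroup `E` whose centralizer has rank at most `2`, then the commutator subgroup of
`Aut R` is a `p`-group. -/
theorem narrow_commutator_aut {R : Type*} [Group R] [Finite R] (p : ℕ) [hp : Fact p.Prime]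
    (hp2 : p ≠ 2) (hR : IsPGroup p R) (hr : ¬ Cfsg.PRankLE p 2 R)
    (E : Subgroup R) (hE : Cfsg.IsElementaryAbelian p E)
    (hCE : Cfsg.PRankLE p 2 ↥(Subgroup.centralizer (E : Set R))) :
    ∀ γ ∈ commutator (MulAut R), ∃ i : ℕ, γ ^ p ^ i = 1 := by
  classical
  have hpp : p.Prime := hp.out
  -- Step 1: a maximal elementary abelian subgroup containing `E`
  obtain ⟨E₁, hE₁, hEE₁, hmax⟩ : ∃ E₁ : Subgroup R, Cfsg.IsElementaryAbelian p E₁ ∧ E ≤ E₁ ∧
      ∀ B : Subgroup R, Cfsg.IsElementaryAbelian p B → E₁ ≤ B → B = E₁ := by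
    let S := {B : Subgroup R // Cfsg.IsElementaryAbelian p B ∧ E ≤ B}
    haveI : Nonempty S := ⟨⟨E, hE, le_rfl⟩⟩
    obtain ⟨B₀, hB₀⟩ := Finite.exists_max (fun B : S => Nat.card (B : Subgroup R))
    refine ⟨B₀.1, B₀.2.1, B₀.2.2, ?_⟩
    intro B hB hle
    have h1 := hB₀ ⟨B, hB, B₀.2.2.trans hle⟩
    exact (Subgroup.eq_of_le_of_card_ge hle h1).symm
  obtain ⟨hE₁c, hE₁e⟩ := hE₁
  have hCE₁ : Cfsg.PRankLE p 2 ↥(Subgroup.centralizer (E₁ : Set R)) :=
    Cfsg.Agent.Helper23.pRankLE_of_injective p 2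
      (Subgroup.inclusion (Subgroup.centralizer_le hEE₁))
      (Subgroup.inclusion_injective _) hCE
  have hE₁C : E₁ ≤ Subgroup.centralizer (E₁ : Set R) :=
    Subgroup.le_centralizer_iff_isMulCommutative.mpr hE₁c
  have hcardE₁le : Nat.card E₁ ≤ p ^ 2 := by
    have hrk : Cfsg.PRankLE p 2 ↥E₁ :=
      Cfsg.Agent.Helper23.pRankLE_of_injective p 2 (Subgroup.inclusion hE₁C)
        (Subgroup.inclusion_injective _) hCE₁
    have h1 := hrk ⊤ (by
      rw [Cfsg.Agent.Helper23.isMulCommutative_subgroup_iff]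
      intro a _ b _
      exact hE₁c.is_comm.comm a b) (by
      intro a _
      apply Subtype.ext
      rw [SubgroupClass.coe_pow]
      exact hE₁e a a.2)
    rwa [Subgroup.card_top] at h1
  -- every element of order `p` centralizing `E₁` lies in `E₁`
  have hΩ : ∀ x : R, x ^ p = 1 → (∀ a ∈ E₁, a * x = x * a) → x ∈ E₁ := by
    intro x hxp hxE
    set B' := Subgroup.closure ((E₁ : Set R) ∪ {x}) with hB'
    have hcomm : ∀ a ∈ (E₁ : Set R) ∪ {x}, ∀ b ∈ (E₁ : Set R) ∪ {x}, a * b = b * a := by
      rintro a (ha | ha) b (hb | hb)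
      · exact congrArg Subtype.val (hE₁c.is_comm.comm ⟨a, ha⟩ ⟨b, hb⟩)
      · rw [Set.mem_singleton_iff] at hb; subst hb; exact hxE a ha
      · rw [Set.mem_singleton_iff] at ha; subst ha; exact (hxE b hb).symm
      · rw [Set.mem_singleton_iff] at ha hb; subst ha; subst hb; rfl
    have hB'c : IsMulCommutative B' := Subgroup.isMulCommutative_closure hcomm
    have hB'e : ∀ b ∈ B', b ^ p = 1 := by
      intro b hb
      induction hb using Subgroup.closure_induction with
      | mem y hy =>
        rcases hy with hy | hy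
        · exact hE₁e y hy
        · rw [Set.mem_singleton_iff] at hy; rw [hy]; exact hxp
      | one => exact one_pow _
      | mul a b ha hb iha ihb =>
        have hc : Commute a b :=
          congrArg Subtype.val (hB'c.is_comm.comm ⟨a, ha⟩ ⟨b, hb⟩)
        rw [hc.mul_pow, iha, ihb, one_mul]
      | inv a ha iha => rw [inv_pow, iha, inv_one]
    have hEB' : E₁ ≤ B' := fun a ha => Subgroup.subset_closure (Or.inl ha)
    have := hmax B' ⟨hB'c, hB'e⟩ hEB'
    rw [← this]
    exact Subgroup.subset_closure (Or.inr rfl)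
  -- `R` is nontrivial, with a central element of order `p`
  haveI hnt : Nontrivial R := by
    by_contra hcon
    rw [not_nontrivial_iff_subsingleton] at hcon
    apply hr
    intro A _ _
    have : Nat.card A = 1 := Nat.card_eq_one_iff_unique.mpr ⟨inferInstance, ⟨1⟩⟩
    rw [this]
    exact Nat.one_le_pow _ _ hpp.pos
  obtain ⟨z, hzc, hzo⟩ : ∃ z : R, z ∈ Subgroup.center R ∧ orderOf z = p := by
    haveI := hR.center_nontrivial
    have hZp : IsPGroup p (Subgroup.center R) := hR.to_subgroup _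
    have hdvd : p ∣ Nat.card (Subgroup.center R) := by
      obtain ⟨k, hk⟩ := IsPGroup.iff_card.mp hZp
      have hk0 : k ≠ 0 := by
        intro h0
        rw [h0, pow_zero] at hk
        have := (Nat.card_eq_one_iff_unique.mp hk).1
        exact not_nontrivial_iff_subsingleton.mpr this ‹Nontrivial (Subgroup.center R)›
      rw [hk]
      exact dvd_pow_self p hk0
    obtain ⟨z, hz⟩ := exists_prime_orderOf_dvd_card' p hdvd
    refine ⟨(z : R), z.2, ?_⟩
    rw [← hz]
    exact (Subgroup.orderOf_coe z)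
  have hzp : z ^ p = 1 := by rw [← hzo]; exact pow_orderOf_eq_one z
  have hzE₁ : z ∈ E₁ := hΩ z hzp (fun a _ => (Subgroup.mem_center_iff.mp hzc a))
  have hcardE₁ : Nat.card E₁ = p ^ 2 := by
    obtain ⟨k, hk⟩ := IsPGroup.iff_card.mp (hR.to_subgroup E₁)
    have hk2 : k ≤ 2 := by
      rw [hk] at hcardE₁le
      exact (Nat.pow_le_pow_iff_right hpp.one_lt).mp hcardE₁le
    have hk2' : 2 ≤ k := by
      by_contra hcon
      have hk1 : k ≤ 1 := by omega
      have hle : Nat.card E₁ ≤ p := by
        rw [hk]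
        calc p ^ k ≤ p ^ 1 := Nat.pow_le_pow_right hpp.pos hk1
          _ = p := pow_one p
      have hzle : Subgroup.zpowers z ≤ E₁ := Subgroup.zpowers_le.mpr hzE₁
      have hzcard : Nat.card (Subgroup.zpowers z) = p := by rw [Nat.card_zpowers, hzo]
      have hEz : Subgroup.zpowers z = E₁ :=
        Subgroup.eq_of_le_of_card_ge hzle (by rw [hzcard]; exact hle)
      have hEcen : E₁ ≤ Subgroup.center R := by
        rw [← hEz]
        exact Subgroup.zpowers_le.mpr hzc
      apply hr
      intro A hA hAe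
      have hAE : A ≤ E₁ := by
        intro x hx
        apply hΩ x (hAe x hx)
        intro a ha
        exact (Subgroup.mem_center_iff.mp (hEcen ha) x).symm
      calc Nat.card A ≤ Nat.card E₁ := Subgroup.card_le_of_le hAE
        _ ≤ p := hle
        _ ≤ p ^ 2 := by nlinarith [hpp.one_lt]
    rw [hk, le_antisymm hk2 hk2']
  -- Step 2: the structure theorem S1453
  obtain ⟨hET, hZcard, ⟨hWe, hWcard⟩, hTchar, hTidx⟩ :=
    Cfsg.Agent.S1453.result p hp2 hR hr E₁ ⟨hE₁c, hE₁e⟩ hcardE₁ hmax
  rw [Cfsg.Agent.S1453.closure_omegaCenter] at hZcard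
  set T : Subgroup R := Subgroup.centralizer ((Subgroup.closure
    {x : R | x ∈ Subgroup.upperCentralSeries R 2 ∧ x ^ p = 1} : Subgroup R) : Set R) with hT
  set Z : Subgroup R := Cfsg.Agent.S1453.omegaCenter p R with hZ
  haveI := hTchar
  obtain ⟨e, heE, heT⟩ := SetLike.not_le_iff_exists.mp hET
  have hZE : Z ≤ E₁ := by
    intro y hy
    exact hΩ y hy.2 (fun a _ => (Subgroup.mem_center_iff.mp hy.1 a))
  have hZcen : Z ≤ Subgroup.center R := fun y hy => hy.1
  have hZT : Z ≤ T := hZcen.trans (Subgroup.center_le_centralizer _)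
  have heZ : e ∉ Z := fun h => heT (hZT h)
  -- the key property of `e`
  have hkey : ∀ y ∈ T, y ^ p = 1 → y * e = e * y → y ∈ Z := by
    intro y hyT hyp hye
    have hH : E₁ ⊓ Subgroup.centralizer ({y} : Set R) = E₁ := by
      apply eq_of_card_sq hR E₁ Z _ hcardE₁ hZcard _ inf_le_left e _ heZ
      · intro w hw
        refine ⟨hZE hw, Subgroup.mem_centralizer_singleton_iff.mpr ?_⟩
        exact (Subgroup.mem_center_iff.mp (hZcen hw) y).symm
      · refine ⟨heE, Subgroup.mem_centralizer_singleton_iff.mpr ?_⟩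
        exact hye.symm
    have hyE : y ∈ E₁ := by
      apply hΩ y hyp
      intro a ha
      have : a ∈ E₁ ⊓ Subgroup.centralizer ({y} : Set R) := by rw [hH]; exact ha
      exact Subgroup.mem_centralizer_singleton_iff.mp this.2
    have hET2 : E₁ ⊓ T = Z := by
      symm
      apply Subgroup.eq_of_le_of_card_ge (le_inf hZE hZT)
      rw [hZcard]
      have hlt : E₁ ⊓ T < E₁ := by
        refine lt_of_le_of_ne inf_le_left (fun h => heT ?_)
        have : e ∈ E₁ ⊓ T := by rw [h]; exact heE
        exact this.2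
      have h1 : Nat.card ↥(E₁ ⊓ T) < Nat.card E₁ := Cfsg.Agent.S1453.card_lt_card_of_lt' hlt
      obtain ⟨k, hk⟩ := IsPGroup.iff_card.mp (hR.to_subgroup (E₁ ⊓ T))
      rw [hk, hcardE₁] at h1
      have hk1 : k < 2 := (Nat.pow_lt_pow_iff_right hpp.one_lt).mp h1
      rw [hk]
      calc p ^ k ≤ p ^ 1 := Nat.pow_le_pow_right hpp.pos (by omega)
        _ = p := pow_one p
    rw [← hET2]
    exact ⟨hyE, hyT⟩
  -- Step 4: the critical subgroup
  obtain ⟨D, hDinv, -, hDexp, -, hDfaith, -⟩ :=
    Cfsg.Agent.S1949.result hR (⊤ : Subgroup (MulAut R)) le_top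
  haveI hDchar : D.Characteristic :=
    Subgroup.characteristic_iff_map_eq.mpr (fun α => hDinv α (Subgroup.mem_top α))
  have hDexp' : ∀ d ∈ D, d ^ p = 1 := by
    intro d hd
    rcases hDexp d hd with h | ⟨h, -⟩
    · exact h
    · exact absurd h hp2
  -- Step 5: the characteristic series
  set M : ℕ → Subgroup R := fun i => D ⊓ T ⊓ Subgroup.upperCentralSeries R i with hM
  have hMchar : ∀ i, (M i).Characteristic := fun i => by
    rw [hM]; infer_instance
  have hM0 : M 0 = ⊥ := by
    rw [hM]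
    simp
  have hMle : ∀ i, M i ≤ M (i + 1) := by
    intro i x hx
    exact ⟨hx.1, Subgroup.upperCentralSeries_mono R (Nat.le_succ i) hx.2⟩
  have hcent_le : ∀ X : Subgroup R, X ≤ D ⊓ T →
      Nat.card (X ⊓ Subgroup.centralizer ({e} : Set R) : Subgroup R) ≤ p := by
    intro X hX
    rw [← hZcard]
    apply Subgroup.card_le_of_le
    intro y hy
    have hyDT := hX hy.1
    apply hkey y hyDT.2 (hDexp' y hyDT.1)
    exact Subgroup.mem_centralizer_singleton_iff.mp hy.2
  have hMcard : ∀ i, Nat.card (M (i + 1)) ≤ p * Nat.card (M i) := by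
    intro i
    have h1 := card_le_card_mul_card_inf_centralizer (M (i + 1)) (M i) e (by
      intro x hx
      have hxD : x ∈ D := hx.1.1
      have hxT : x ∈ T := hx.1.2
      have hxZ : x ∈ Subgroup.upperCentralSeries R (i + 1) := hx.2
      have e1 : x * e * x⁻¹ * e⁻¹ = x * (e * x⁻¹ * e⁻¹) := by group
      refine ⟨⟨?_, ?_⟩, ?_⟩
      · rw [e1]
        exact D.mul_mem hxD (Subgroup.Normal.conj_mem inferInstance _ (D.inv_mem hxD) e)
      · rw [e1]
        exact T.mul_mem hxT (Subgroup.Normal.conj_mem inferInstance _ (T.inv_mem hxT) e)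
      · exact (Subgroup.mem_upperCentralSeries_succ_iff.mp hxZ) e)
    calc Nat.card (M (i + 1))
        ≤ Nat.card (M i) * Nat.card (M (i + 1) ⊓ Subgroup.centralizer ({e} : Set R) :
            Subgroup R) := h1
      _ ≤ Nat.card (M i) * p := Nat.mul_le_mul_left _ (hcent_le _ (fun x hx => hx.1))
      _ = p * Nat.card (M i) := mul_comm _ _
  have hDTcard : Nat.card D ≤ p * Nat.card (D ⊓ T : Subgroup R) := by
    have h1 := Cfsg.Agent.Helper52.relIndex_mul_card_of_le (inf_le_left : D ⊓ T ≤ D)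
    rw [Subgroup.inf_relIndex_left] at h1
    have h2 : T.relIndex D ∣ p := by
      have h := Subgroup.relIndex_dvd_index_of_normal (H := T) (K := D)
      rwa [hTidx] at h
    have h3 : T.relIndex D ≤ p := Nat.le_of_dvd hpp.pos h2
    rw [← h1]
    exact Nat.mul_le_mul_right _ h3
  obtain ⟨n, hn⟩ : ∃ n : ℕ, Subgroup.upperCentralSeries R n = ⊤ := by
    haveI := hR.isNilpotent
    exact Group.IsNilpotent.nilpotent R
  have hMn : M n = D ⊓ T := by
    rw [hM]
    simp [hn]
  -- Step 6/7: the `p'`-part of an element of the commutator subgroup is trivial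
  intro γ hγ
  have hord : orderOf γ ≠ 0 := (orderOf_pos γ).ne'
  obtain ⟨a, m, hm, hfac⟩ := Nat.exists_eq_pow_mul_and_not_dvd hord p hpp.ne_one
  refine ⟨a, ?_⟩
  set γ' := γ ^ p ^ a with hγ'
  have hγ'm : γ' ^ m = 1 := by
    rw [hγ', ← pow_mul, ← hfac, pow_orderOf_eq_one]
  have hcop : (orderOf γ').Coprime p := by
    have h1 : orderOf γ' ∣ m := orderOf_dvd_of_pow_eq_one hγ'm
    have h2 : m.Coprime p := ((Nat.Prime.coprime_iff_not_dvd hpp).mpr hm).symm
    exact Nat.Coprime.coprime_dvd_left h1 h2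
  have hγ'c : γ' ∈ commutator (MulAut R) := Subgroup.pow_mem _ hγ _
  have hfixM : ∀ i, ∀ x ∈ M i, γ' x = x := by
    intro i
    induction i with
    | zero =>
      intro x hx
      rw [hM0, Subgroup.mem_bot] at hx
      rw [hx, map_one]
    | succ i ih =>
      haveI := hMchar i
      haveI := hMchar (i + 1)
      exact fix_of_coprime_section γ' hcop (M i) (M (i + 1)) (hR.to_subgroup _) ih
        (commutator_aut_section hR (M i) (M (i + 1)) (hMle i) (hMcard i) γ' hγ'c)
  have hfixDT : ∀ x ∈ D ⊓ T, γ' x = x := by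
    rw [← hMn]
    exact hfixM n
  have hfixD : ∀ x ∈ D, γ' x = x :=
    fix_of_coprime_section γ' hcop (D ⊓ T) D (hR.to_subgroup _) hfixDT
      (commutator_aut_section hR (D ⊓ T) D inf_le_left hDTcard γ' hγ'c)
  exact hDfaith γ' (Subgroup.mem_top _) hcop hfixD

end Cfsg.Agent.Helper32.Narrow
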