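-- Narrow p-groups, part 3 (helper32): from `Cfsg.IsNarrow` to the hypotheses of
-- `narrow_commutator_aut`, transfer along isomorphisms, rank of a Sylow subgroup.
import Cfsg.Prelude.Def_OddOrderLocal
import Cfsg.Agent.Helper32.Narrow2

set_option autoImplicit false
open Cfsg

namespace Cfsg.Agent.Helper32.Narrow

/-- The `p`-rank of a finite group is that of a Sylow `p`-subgroup. -/
theorem pRankLE_of_sylow {G : Type*} [Group G] [Finite G] {p k : ℕ} [Fact p.Prime]
    (S : Sylow p G) (h : Cfsg.PRankLE p k ↥(S : Subgroup G)) : Cfsg.PRankLE p k G := by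
  intro A hA hAe
  have hAp : IsPGroup p A := by
    intro a
    refine ⟨1, Subtype.ext ?_⟩
    rw [pow_one, SubgroupClass.coe_pow]
    exact hAe a a.2
  obtain ⟨P, hAP⟩ := hAp.exists_le_sylow
  have hP : Cfsg.PRankLE p k ↥(P : Subgroup G) :=
    (Cfsg.Agent.Helper23.pRankLE_of_mulEquiv p k (Sylow.equiv S P)).mp h
  have h1 := hP (A.subgroupOf P) (by
    rw [Cfsg.Agent.Helper23.isMulCommutative_subgroup_iff]
    intro a ha b hb
    apply Subtype.ext
    have := hA.is_comm.comm ⟨(a : G), Subgroup.mem_subgroupOf.mp ha⟩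
      ⟨(b : G), Subgroup.mem_subgroupOf.mp hb⟩
    simpa using congrArg Subtype.val this) (by
    intro a ha
    apply Subtype.ext
    rw [SubgroupClass.coe_pow]
    exact hAe _ (Subgroup.mem_subgroupOf.mp ha))
  have h2 : Nat.card (A.subgroupOf P) = Nat.card A :=
    Nat.card_congr (Subgroup.subgroupOfEquivOfLe hAP).toEquiv
  rwa [h2] at h1

/-- A narrow `p`-group of rank at least `3` has an elementary abelian subgroup (of order `p`) whose
centralizer has rank at most `2`. -/
theorem exists_of_isNarrow {R : Type*} [Group R] [Finite R] {p : ℕ} [hp : Fact p.Prime]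
    (hn : Cfsg.IsNarrow p R) (hr : ¬ Cfsg.PRankLE p 2 R) :
    ∃ E : Subgroup R, Cfsg.IsElementaryAbelian p E ∧
      Cfsg.PRankLE p 2 ↥(Subgroup.centralizer (E : Set R)) := by
  classical
  have hpp : p.Prime := hp.out
  rcases hn with h | ⟨R₀, R₁, hR₀, hR₁, hinf, hcomm, hsup⟩
  · exact absurd h hr
  refine ⟨R₀, ?_, ?_⟩
  · -- `R₀` has prime order
    haveI : Fact (Nat.card R₀).Prime := ⟨by rw [hR₀]; exact hpp⟩
    have hcyc : IsCyclic R₀ := isCyclic_of_prime_card rfl
    refine ⟨?_, ?_⟩
    · rw [Cfsg.Agent.Helper23.isMulCommutative_subgroup_iff]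
      intro a ha b hb
      obtain ⟨g, hg⟩ := hcyc.exists_generator
      obtain ⟨m, hm⟩ := Subgroup.mem_zpowers_iff.mp (hg ⟨a, ha⟩)
      obtain ⟨n, hn'⟩ := Subgroup.mem_zpowers_iff.mp (hg ⟨b, hb⟩)
      have ha' : a = ((g ^ m : R₀) : R) := by rw [hm]
      have hb' : b = ((g ^ n : R₀) : R) := by rw [hn']
      rw [ha', hb', ← Subgroup.coe_mul, ← Subgroup.coe_mul, ← zpow_add, ← zpow_add, add_comm]
    · intro a ha
      have h1 : (⟨a, ha⟩ : R₀) ^ Nat.card R₀ = 1 := pow_card_eq_one'
      rw [hR₀] at h1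
      simpa using congrArg Subtype.val h1
  · -- the centralizer `R₀ × R₁` has rank at most two
    rw [← hsup]
    intro B hB hBe
    haveI := hR₁
    -- the elements of order dividing `p` of `R₁`
    have hΩ : Nat.card {y : R₁ // y ^ p = 1} ≤ p := by
      haveI : Fintype R₁ := Fintype.ofFinite _
      rw [Nat.card_eq_fintype_card, Fintype.card_subtype]
      exact IsCyclic.card_pow_eq_one_le hpp.pos
    have hN : R₀ ≤ Subgroup.normalizer (R₁ : Set R) := by
      refine le_trans ?_ (Subgroup.centralizer_le_normalizer _)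
      intro a ha
      rw [Subgroup.mem_centralizer_iff]
      intro b hb
      exact (hcomm a ha b hb).symm
    have hR₀p : ∀ a ∈ R₀, a ^ p = 1 := by
      intro a ha
      have h1 : (⟨a, ha⟩ : R₀) ^ Nat.card R₀ = 1 := pow_card_eq_one'
      rw [hR₀] at h1
      simpa using congrArg Subtype.val h1
    have hdec : ∀ b : B, ∃ x : R₀, ∃ y : {y : R₁ // y ^ p = 1},
        (x : R) * ((y : R₁) : R) = ((b : ↥(R₀ ⊔ R₁)) : R) := by
      intro b
      have hb : ((b : ↥(R₀ ⊔ R₁)) : R) ∈ ((R₀ ⊔ R₁ : Subgroup R) : Set R) := (b : ↥(R₀ ⊔ R₁)).2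
      rw [Subgroup.coe_mul_of_left_le_normalizer_right R₀ R₁ hN] at hb
      obtain ⟨x, hx, y, hy, hxy⟩ := hb
      have hbp : (((b : ↥(R₀ ⊔ R₁)) : R)) ^ p = 1 := by
        have := hBe b b.2
        simpa using congrArg Subtype.val this
      have hc : Commute x y := hcomm x hx y hy
      have hyp : y ^ p = 1 := by
        have h1 : (x * y) ^ p = 1 := by
          have : x * y = ((b : ↥(R₀ ⊔ R₁)) : R) := hxy
          rw [this]; exact hbp
        rw [hc.mul_pow, hR₀p x hx, one_mul] at h1
        exact h1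
      refine ⟨⟨x, hx⟩, ⟨⟨y, hy⟩, Subtype.ext (by simpa using hyp)⟩, hxy⟩
    choose fx fy hf using hdec
    have hinj : Function.Injective (fun b : B => (fx b, fy b)) := by
      intro b b' hbb'
      have h1 : fx b = fx b' := congrArg Prod.fst hbb'
      have h2 : fy b = fy b' := congrArg Prod.snd hbb'
      apply Subtype.ext
      apply Subtype.ext
      rw [← hf b, ← hf b', h1, h2]
    have hcard := Nat.card_le_card_of_injective _ hinj
    rw [Nat.card_prod, hR₀] at hcard
    calc Nat.card B ≤ p * Nat.card {y : R₁ // y ^ p = 1} := hcard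
      _ ≤ p * p := Nat.mul_le_mul_left _ hΩ
      _ = p ^ 2 := (pow_two p).symm

/-- The hypotheses of `narrow_commutator_aut` pass along an isomorphism. -/
theorem narrow_hyp_equiv {S R : Type*} [Group S] [Group R] {p : ℕ} (e : S ≃* R)
    (E : Subgroup S) (hE : Cfsg.IsElementaryAbelian p E)
    (hCE : Cfsg.PRankLE p 2 ↥(Subgroup.centralizer (E : Set S))) :
    Cfsg.IsElementaryAbelian p (E.map e.toMonoidHom) ∧
      Cfsg.PRankLE p 2 ↥(Subgroup.centralizer ((E.map e.toMonoidHom : Subgroup R) : Set R)) := by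
  refine ⟨?_, ?_⟩
  · obtain ⟨h1, h2⟩ := hE
    rw [Cfsg.Agent.Helper23.isMulCommutative_subgroup_iff] at h1
    refine ⟨?_, ?_⟩
    · rw [Cfsg.Agent.Helper23.isMulCommutative_subgroup_iff]
      rintro _ ⟨a, ha, rfl⟩ _ ⟨b, hb, rfl⟩
      rw [← map_mul, ← map_mul, h1 a ha b hb]
    · rintro _ ⟨a, ha, rfl⟩
      rw [← map_pow, h2 a ha, map_one]
  · have hmem : ∀ x : ↥(Subgroup.centralizer ((E.map e.toMonoidHom : Subgroup R) : Set R)),
        e.symm (x : R) ∈ Subgroup.centralizer (E : Set S) := by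
      intro x
      rw [Subgroup.mem_centralizer_iff]
      intro a ha
      have h1 := Subgroup.mem_centralizer_iff.mp x.2 (e a) (Subgroup.mem_map_of_mem _ ha)
      apply e.injective
      rw [map_mul, map_mul, e.apply_symm_apply]
      exact h1
    set f : ↥(Subgroup.centralizer ((E.map e.toMonoidHom : Subgroup R) : Set R)) →*
        ↥(Subgroup.centralizer (E : Set S)) :=
      (e.symm.toMonoidHom.comp (Subgroup.subtype _)).codRestrict _ hmem with hf
    have hfinj : Function.Injective f := by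
      intro a b hab
      have h0 : ((f a : ↥(Subgroup.centralizer (E : Set S))) : S) = (f b : S) :=
        congrArg Subtype.val hab
      have h1 : e.symm (a : R) = e.symm (b : R) := h0
      exact Subtype.ext (e.symm.injective h1)
    exact Cfsg.Agent.Helper23.pRankLE_of_injective p 2 f hfinj hCE

end Cfsg.Agent.Helper32.Narrow
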