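import Mathlib
import Cfsg.Agent.Helper36.AltForm
import Cfsg.Agent.Helper38.Darboux

/-!
# Abstract core of piece (I1a) for S5975 (owner helper13)

An `F`-bilinear alternating-type form `f` on a vector space `V` over an extension field `K` of `F`,
for which `K` acts by self-adjoint maps with `f (a v, v) = 0`, is the "trace" `φ ∘ B` of a
`K`-bilinear alternating nondegenerate form `B`; hence `V` has a `K`-basis which is symplectic.
-/

set_option autoImplicit false

namespace Cfsg.Agent.Helper32.FExtI1aAux

open Module

theorem exists_symp_basis {F K V : Type*} [Field F] [Field K] [Algebra F K] [FiniteDimensional F K]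
    [AddCommGroup V] [Module F V] [Module K V] [IsScalarTower F K V] [FiniteDimensional K V]
    (f : V →ₗ[F] V →ₗ[F] F)
    (hsa : ∀ (a : K) (u v : V), f (a • u) v = f u (a • v))
    (halt : ∀ (a : K) (v : V), f (a • v) v = 0)
    (hnd : ∀ u : V, (∀ v, f u v = 0) → u = 0)
    (φ : K →ₗ[F] F) (hφ : φ ≠ 0) :
    (∀ a : K, (∀ a' : K, φ (a * a') = 0) → a = 0) ∧
    ∃ (n : ℕ) (b : Basis (Fin n ⊕ Fin n) K V),
      ∀ (a a' : K) (s t : Fin n ⊕ Fin n),
        f (a • b s) (a' • b t) = φ (a * a') * Matrix.J (Fin n) F s t := by
  classical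
  have hφnd : ∀ a : K, (∀ a' : K, φ (a * a') = 0) → a = 0 := by
    intro a ha
    by_contra ha0
    apply hφ
    ext c
    have h1 := ha (a⁻¹ * c)
    rw [← mul_assoc, mul_inv_cancel₀ ha0, one_mul] at h1
    simpa using h1
  refine ⟨hφnd, ?_⟩
  have hφinj : ∀ x y : K, (∀ a, φ (a * x) = φ (a * y)) → x = y := by
    intro x y h
    have h1 := hφnd (x - y) (fun a' => by rw [mul_comm, mul_sub, map_sub, h a', sub_self])
    exact sub_eq_zero.1 h1
  -- the map `K → Dual F K`
  let Φ : K →ₗ[F] Module.Dual F K :=
    LinearMap.mk₂ F (fun b a => φ (a * b))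
      (by intro b b' a; simp only [mul_add, map_add])
      (by intro c b a; simp only [mul_smul_comm, map_smul])
      (by intro b a a'; simp only [add_mul, map_add])
      (by intro c b a; simp only [smul_mul_assoc, map_smul])
  have hΦapp : ∀ b a, Φ b a = φ (a * b) := fun b a => rfl
  have hΦinj : Function.Injective Φ := by
    intro x y hxy
    apply hφinj
    intro a
    rw [← hΦapp, ← hΦapp, hxy]
  have hΦsurj : Function.Surjective Φ :=
    (LinearMap.injective_iff_surjective_of_finrank_eq_finrank
      (Subspace.dual_finrank_eq (K := F) (V := K)).symm).1 hΦinj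
  -- the functional `a ↦ f (a • u) v`
  let ℓ : V → V → Module.Dual F K := fun u v =>
    { toFun := fun a => f (a • u) v
      map_add' := by intro a a'; simp only [add_smul, map_add, LinearMap.add_apply]
      map_smul' := by
        intro c a
        simp only [smul_assoc, map_smul, LinearMap.smul_apply, RingHom.id_apply] }
  have hℓapp : ∀ u v a, ℓ u v a = f (a • u) v := fun u v a => rfl
  let Bf : V → V → K := fun u v => Classical.choose (hΦsurj (ℓ u v))
  have hB : ∀ u v a, φ (a * Bf u v) = f (a • u) v := by
    intro u v a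
    have h1 := Classical.choose_spec (hΦsurj (ℓ u v))
    rw [← hΦapp, ← hℓapp]
    exact congrArg (fun g => g a) h1
  let B : LinearMap.BilinForm K V :=
    LinearMap.mk₂ K Bf
      (by
        intro u u' v
        apply hφinj; intro a
        rw [hB, mul_add, map_add, hB, hB, smul_add, map_add, LinearMap.add_apply])
      (by
        intro c u v
        apply hφinj; intro a
        rw [hB, smul_eq_mul, ← mul_assoc, hB, mul_smul])
      (by
        intro u v v'
        apply hφinj; intro a
        rw [hB, map_add, mul_add, map_add, hB, hB])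
      (by
        intro c u v
        apply hφinj; intro a
        rw [hB, smul_eq_mul, ← mul_assoc, hB, ← hsa, mul_comm a c, mul_smul])
  have hBapp : ∀ u v, B u v = Bf u v := fun u v => rfl
  have hBalt : B.IsAlt := by
    intro u
    rw [hBapp]
    apply hφinj; intro a
    rw [hB, mul_zero, map_zero, halt]
  have hBl : ∀ u, (∀ v, B u v = 0) → u = 0 := by
    intro u hu
    apply hnd
    intro v
    have h1 := hB u v 1
    rw [one_smul, one_mul, ← hBapp, hu v, map_zero] at h1
    exact h1.symm
  have hBnd : B.Nondegenerate := by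
    refine ⟨hBl, ?_⟩
    intro v hv
    apply hBl
    intro u
    rw [← hBalt.neg_eq, hv u, neg_zero]
  obtain ⟨n, hn⟩ := Cfsg.Agent.Helper36.even_finrank_of_isAlt_nondegenerate (finrank K V) B hBalt hBnd rfl
  have hfr : finrank K V = 2 * n := by omega
  obtain ⟨e, g, hee, hgg, heg⟩ := Cfsg.Agent.Helper38.exists_symplectic_family n B hBalt hBnd hfr
  have hge : ∀ i j, B (g i) (e j) = if i = j then -1 else 0 := by
    intro i j
    rw [← hBalt.neg_eq, heg j i]
    by_cases h : i = j
    · simp [h]
    · simp [h, Ne.symm h]
  set b0 : Fin n ⊕ Fin n → V := Sum.elim g e with hb0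
  have hli : LinearIndependent K b0 := by
    rw [Fintype.linearIndependent_iff]
    intro c hc a
    rw [Fintype.sum_sum_type] at hc
    simp only [hb0, Sum.elim_inl, Sum.elim_inr] at hc
    rcases a with i | i
    · have h1 := congrArg (fun z => B z (e i)) hc
      simp only [map_add, map_sum, map_smul, LinearMap.add_apply, LinearMap.sum_apply,
        LinearMap.smul_apply, smul_eq_mul, hee, hge, mul_zero, Finset.sum_const_zero, add_zero,
        map_zero, LinearMap.zero_apply, mul_ite, mul_neg, mul_one, Finset.sum_ite_eq',
        Finset.mem_univ, if_true, neg_eq_zero] at h1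
      exact h1
    · have h1 := congrArg (fun z => B z (g i)) hc
      simp only [map_add, map_sum, map_smul, LinearMap.add_apply, LinearMap.sum_apply,
        LinearMap.smul_apply, smul_eq_mul, hgg, heg, mul_zero, Finset.sum_const_zero, zero_add,
        map_zero, LinearMap.zero_apply, mul_ite, mul_one, Finset.sum_ite_eq',
        Finset.mem_univ, if_true] at h1
      exact h1
  have hcard : Fintype.card (Fin n ⊕ Fin n) = finrank K V := by
    rw [Fintype.card_sum, Fintype.card_fin, hfr]; ring
  let b : Basis (Fin n ⊕ Fin n) K V := basisOfLinearIndependentOfCardEqFinrank' b0 hli hcard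
  have hbcoe : ∀ s, b s = b0 s := fun s => by
    simp only [b, coe_basisOfLinearIndependentOfCardEqFinrank']
  have hgram : ∀ s t, B (b0 s) (b0 t) = algebraMap F K (Matrix.J (Fin n) F s t) := by
    intro s t
    rcases s with i | i <;> rcases t with j | j
    · simp [hb0, hgg, Matrix.J]
    · simp only [hb0, Sum.elim_inl, Sum.elim_inr, hge, Matrix.J, Matrix.fromBlocks_apply₁₂,
        Matrix.neg_apply, Matrix.one_apply]
      by_cases h : i = j <;> simp [h]
    · simp only [hb0, Sum.elim_inl, Sum.elim_inr, heg, Matrix.J, Matrix.fromBlocks_apply₂₁,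
        Matrix.one_apply]
      by_cases h : i = j <;> simp [h]
    · simp [hb0, hee, Matrix.J]
  refine ⟨n, b, ?_⟩
  intro a a' s t
  rw [hbcoe, hbcoe, ← hB, ← hBapp, map_smul, smul_eq_mul, hgram, ← mul_assoc,
    mul_comm (a * a'), ← Algebra.smul_def, map_smul, smul_eq_mul, mul_comm]

end Cfsg.Agent.Helper32.FExtI1aAux
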