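import Mathlib
import Cfsg.Prelude.Def_GeometricClasses

/-!
# The vectors as a module over a (field) subalgebra `K` of the matrix algebra

Common infrastructure of the pieces (I1a), (I1b) for S5975 (owner helper13).  The vector space
is a type synonym, so that the module structure over `↥K` does not clash with anything.
-/

set_option autoImplicit false

namespace Cfsg.Agent.Helper32.FExtKVec

open Matrix Cfsg Cfsg.Geo

variable {F : Type*} [Field F] {ι : Type} [Fintype ι] [DecidableEq ι]

theorem isField_sub {r : ℕ} {K : Subalgebra F (Matrix ι ι F)} (hK : IsFieldSubalgebra r K)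
    (hr : 0 < r) : IsField ↥K :=
  { exists_pair_ne := by
      have : Nontrivial ↥K :=
        Module.nontrivial_of_finrank_pos (R := F) (by rw [hK.finrank_eq]; exact hr)
      exact ⟨0, 1, zero_ne_one⟩
    mul_comm := fun x y => Subtype.ext (hK.comm x x.2 y y.2)
    mul_inv_cancel := fun {a} ha => by
      obtain ⟨y, hy, hxy⟩ := hK.inv a a.2 (fun h => ha (Subtype.ext h))
      exact ⟨⟨y, hy⟩, Subtype.ext hxy⟩ }

/-- The vectors, as a type of its own (carrying a `Module ↥K` instance). -/
def KVec (_K : Subalgebra F (Matrix ι ι F)) : Type _ := ι → F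

variable (K : Subalgebra F (Matrix ι ι F))

instance instAddCommGroupKVec : AddCommGroup (KVec K) :=
  (inferInstance : AddCommGroup (ι → F))

instance instModuleFKVec : Module F (KVec K) := (inferInstance : Module F (ι → F))

instance instFiniteFKVec : Module.Finite F (KVec K) :=
  (inferInstance : Module.Finite F (ι → F))

/-- a vector, as an element of the `K`-module -/
def toKVec (v : ι → F) : KVec K := v

/-- an element of the `K`-module, as a vector -/
def ofKVec (v : KVec K) : ι → F := v

instance instModuleKVec : Module ↥K (KVec K) where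
  smul a v := toKVec K ((a : Matrix ι ι F) *ᵥ (ofKVec K v))
  one_smul v := by
    show (1 : Matrix ι ι F) *ᵥ (ofKVec K v) = v
    rw [one_mulVec]; rfl
  mul_smul a b v := by
    show ((a : Matrix ι ι F) * (b : Matrix ι ι F)) *ᵥ (ofKVec K v) =
      (a : Matrix ι ι F) *ᵥ ((b : Matrix ι ι F) *ᵥ (ofKVec K v))
    rw [mulVec_mulVec]
  smul_zero a := by
    show (a : Matrix ι ι F) *ᵥ (0 : ι → F) = 0
    rw [mulVec_zero]
  smul_add a v w := by
    show (a : Matrix ι ι F) *ᵥ ((ofKVec K v) + (ofKVec K w)) =
      (a : Matrix ι ι F) *ᵥ (ofKVec K v) + (a : Matrix ι ι F) *ᵥ (ofKVec K w)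
    rw [mulVec_add]
  add_smul a b v := by
    show ((a : Matrix ι ι F) + (b : Matrix ι ι F)) *ᵥ (ofKVec K v) =
      (a : Matrix ι ι F) *ᵥ (ofKVec K v) + (b : Matrix ι ι F) *ᵥ (ofKVec K v)
    rw [add_mulVec]
  zero_smul v := by
    show (0 : Matrix ι ι F) *ᵥ (ofKVec K v) = 0
    rw [zero_mulVec]

theorem smul_def (a : ↥K) (v : KVec K) :
    a • v = toKVec K ((a : Matrix ι ι F) *ᵥ (ofKVec K v)) := rfl

instance instTowerKVec : IsScalarTower F ↥K (KVec K) where
  smul_assoc c a v := by
    show (c • (a : Matrix ι ι F)) *ᵥ (ofKVec K v) = c • ((a : Matrix ι ι F) *ᵥ (ofKVec K v))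
    rw [smul_mulVec]

instance instFiniteKVec : Module.Finite ↥K (KVec K) :=
  Module.Finite.of_restrictScalars_finite F ↥K (KVec K)

end Cfsg.Agent.Helper32.FExtKVec
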