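import Mathlib
import Cfsg.Agent.Helper13.FExtDefs
import Cfsg.Agent.Helper13.Symp
import Cfsg.Agent.Helper13.SympTrans
import Cfsg.Agent.Helper32.FExtKVec
import Cfsg.Agent.Helper32.FExtI1aAux

/-!
# Piece (I1a) for S5975 (owner helper13): a symplectic basis over the field subalgebra `K`.
-/

set_option autoImplicit false
set_option linter.style.haveILetI false

namespace Cfsg.Agent.Helper32.FExtI1a

open Matrix Cfsg Cfsg.Geo
open Cfsg.Agent.Helper13 Cfsg.Agent.Helper13.FExt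
open Cfsg.Agent.Helper32.FExtKVec

variable {F : Type*} [Field F]

/-- (I1a) a symplectic basis over `K` -/
theorem exists_K_symplectic_basis (d k : ℕ) (hk : 0 < k)
    (K : Subalgebra F (Matrix (Fin d ⊕ Fin d) (Fin d ⊕ Fin d) F)) (hK : IsFieldSubalgebra k K)
    (hKf : IsSelfAdjointFor (sympForm d F) K)
    (hKalt : ∀ a ∈ K, ∀ v : Fin d ⊕ Fin d → F, sympForm d F (a *ᵥ v) v = 0) :
    ∃ (n : ℕ) (φ : ↥K →ₗ[F] F) (b : Fin n ⊕ Fin n → (Fin d ⊕ Fin d → F)),
      (∀ v : Fin d ⊕ Fin d → F, ∃! c : Fin n ⊕ Fin n → ↥K,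
        v = ∑ s, (c s : Matrix (Fin d ⊕ Fin d) (Fin d ⊕ Fin d) F) *ᵥ b s) ∧
      (∀ a : ↥K, (∀ a' : ↥K, φ (a * a') = 0) → a = 0) ∧
      (∀ (a a' : ↥K) (s t : Fin n ⊕ Fin n),
        sympForm d F ((a : Matrix (Fin d ⊕ Fin d) (Fin d ⊕ Fin d) F) *ᵥ b s)
          ((a' : Matrix (Fin d ⊕ Fin d) (Fin d ⊕ Fin d) F) *ᵥ b t) =
          φ (a * a') * Matrix.J (Fin n) F s t) := by
  classical
  letI : Field ↥K := (isField_sub hK hk).toField
  haveI : FiniteDimensional F ↥K :=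
    Module.finite_of_finrank_pos (by rw [hK.finrank_eq]; exact hk)
  let f : KVec K →ₗ[F] KVec K →ₗ[F] F :=
    LinearMap.mk₂ F (fun u v => sympForm d F (ofKVec K u) (ofKVec K v))
      (fun u u' v => sympForm_add_left _ _ _) (fun c u v => sympForm_smul_left c _ _)
      (fun u v v' => sympForm_add_right _ _ _) (fun c u v => sympForm_smul_right c _ _)
  have hfapp : ∀ u v, f u v = sympForm d F (ofKVec K u) (ofKVec K v) := fun _ _ => rfl
  obtain ⟨φ, hφ1⟩ : ∃ φ : Module.Dual F ↥K, φ 1 ≠ 0 := by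
    by_contra hcon
    push Not at hcon
    exact one_ne_zero ((Module.forall_dual_apply_eq_zero_iff F (1 : ↥K)).1 hcon)
  have hφ : φ ≠ 0 := fun h => hφ1 (by rw [h]; rfl)
  have hsa : ∀ (a : ↥K) (u v : KVec K), f (a • u) v = f u (a • v) := by
    intro a u v
    exact hKf a.1 a.2 (ofKVec K u) (ofKVec K v)
  have halt : ∀ (a : ↥K) (v : KVec K), f (a • v) v = 0 := by
    intro a v
    exact hKalt a.1 a.2 (ofKVec K v)
  have hnd : ∀ u : KVec K, (∀ v, f u v = 0) → u = 0 := by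
    intro u hu
    by_contra hne
    obtain ⟨x, hx⟩ := sympForm_nondeg_left (m := d) (u := ofKVec K u) hne
    apply hx
    rw [sympForm_swap]
    have h1 := hu (toKVec K x)
    rw [hfapp] at h1
    show - sympForm d F (ofKVec K u) x = 0
    rw [neg_eq_zero]; exact h1
  obtain ⟨hφnd, n, b, hb⟩ := FExtI1aAux.exists_symp_basis f hsa halt hnd φ hφ
  refine ⟨n, φ, fun s => ofKVec K (b s), ?_, hφnd, ?_⟩
  · intro v
    refine ⟨fun s => b.repr (toKVec K v) s, ?_, ?_⟩
    · exact (b.sum_repr (toKVec K v)).symm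
    · intro c hc
      have h1 : toKVec K v = ∑ s, c s • b s := hc
      funext s
      rw [h1]
      exact (congrFun (b.repr_sum_self c) s).symm
  · intro a a' s t
    exact hb a a' s t

end Cfsg.Agent.Helper32.FExtI1a
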