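import Mathlib
import Cfsg.Agent.Helper13.QFEDefs

/-!
# (C2b) of S5977/S5978 (helper13's farm #8823): the determinant trick

A similarity factor between two `L`-models of the same `Q` in odd `L`-dimension is a square.
-/

set_option autoImplicit false

namespace Cfsg.Agent.Helper32.QFEC2b

open Matrix Cfsg Cfsg.Geo QuadraticMap
open Cfsg.Agent.Helper13.QFE

universe u

variable {F : Type u} [Field F] {ι : Type} [Fintype ι] [DecidableEq ι]

/-- if `polar Q (H u) (H v) = polar Q (A u) v` for a nondegenerate `Q` then `det A = (det H)²` -/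
theorem det_eq_sq_of_polar_eq (Q : QuadraticForm F (ι → F)) (hQ : (polarBilin Q).Nondegenerate)
    (H A : Matrix ι ι F)
    (h : ∀ u v, polar (⇑Q) (H *ᵥ u) (H *ᵥ v) = polar (⇑Q) (A *ᵥ u) v) :
    A.det = H.det * H.det := by
  have h1 := LinearMap.BilinForm.toMatrix'_comp (polarBilin Q) (Matrix.toLin' H) (Matrix.toLin' H)
  have h2 := LinearMap.BilinForm.toMatrix'_comp (polarBilin Q) (Matrix.toLin' A)
    (Matrix.toLin' (1 : Matrix ι ι F))
  have h3 : LinearMap.BilinForm.comp (polarBilin Q) (Matrix.toLin' H) (Matrix.toLin' H) =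
      LinearMap.BilinForm.comp (polarBilin Q) (Matrix.toLin' A)
        (Matrix.toLin' (1 : Matrix ι ι F)) := by
    refine LinearMap.ext fun x => LinearMap.ext fun y => ?_
    simp only [LinearMap.BilinForm.comp_apply, Matrix.toLin'_apply, polarBilin_apply_apply,
      Matrix.one_mulVec]
    exact h x y
  rw [h3, h2] at h1
  simp only [LinearMap.toMatrix'_toLin'] at h1
  have h4 := congrArg Matrix.det h1
  simp only [Matrix.det_mul, Matrix.det_transpose, Matrix.det_one, mul_one] at h4
  have hB : (LinearMap.BilinForm.toMatrix' (polarBilin Q)).det ≠ 0 := by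
    have := (LinearMap.BilinForm.nondegenerate_toMatrix'_iff (B := polarBilin Q)).mpr hQ
    exact (Matrix.nondegenerate_iff_det_ne_zero).mp this
  have h5 : A.det * (LinearMap.BilinForm.toMatrix' (polarBilin Q)).det =
      (H.det * H.det) * (LinearMap.BilinForm.toMatrix' (polarBilin Q)).det := by
    rw [h4]; ring
  exact mul_right_cancel₀ hB h5

section model

variable {Q : QuadraticForm F (ι → F)} {θ : Matrix ι ι F}
  {L : Type*} [Field L] [Algebra F L] {s : L} {φ : L →ₗ[F] F} {n : ℕ}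

omit [DecidableEq ι] in
theorem polar_model (M : LModel Q θ L s φ n) (x y : Fin n → L) :
    polar (⇑Q) (M.Ψ x) (M.Ψ y) = φ (polar (⇑M.QL) x y) := by
  simp only [polar, ← map_add, M.hQ, map_sub]

end model

/-- in a quadratic extension of finite fields of odd order, an element whose norm is a nonzero
square is a square -/
theorem isSquare_of_norm_eq_sq [Fintype F] (hodd : Odd (Fintype.card F)) {L : Type*} [Field L]
    [Algebra F L] [Fintype L] (hfr : Module.finrank F L = 2) (c : L) (hc : c ≠ 0) (e : F)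
    (he : Algebra.norm F c = e * e) : IsSquare c := by
  classical
  set q := Fintype.card F with hq
  have hcardL : Fintype.card L = q ^ 2 := by
    rw [Module.card_eq_pow_finrank (K := F) (V := L), hfr]
  have hq1 : 1 < q := Fintype.one_lt_card
  have hLodd : Odd (Fintype.card L) := by rw [hcardL]; exact hodd.pow
  have hchar : ringChar L ≠ 2 := by
    intro h2
    have := FiniteField.even_card_of_char_two h2
    rw [Nat.odd_iff] at hLodd
    omega
  rw [FiniteField.isSquare_iff hchar hc]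
  have hnorm := FiniteField.algebraMap_norm_eq_pow (K := F) (K' := L) (x := c)
  rw [Nat.card_eq_fintype_card, Nat.card_eq_fintype_card, hcardL, ← hq] at hnorm
  have hdiv : (q ^ 2 - 1) / (q - 1) = q + 1 := by
    have h1 : q ^ 2 - 1 = (q + 1) * (q - 1) := by
      obtain ⟨k, hk⟩ : ∃ k, q = k + 1 := ⟨q - 1, by omega⟩
      rw [hk]; simp only [Nat.add_sub_cancel]; ring_nf; omega
    rw [h1, Nat.mul_div_cancel _ (by omega)]
  rw [hdiv, he] at hnorm
  -- `c ^ (q + 1) = (e')²` with `e' ∈ F`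
  obtain ⟨k, hk⟩ := hodd
  have hhalf : q ^ 2 / 2 = (q + 1) * k := by
    rw [hk]
    have : (2 * k + 1) ^ 2 = 2 * ((2 * k + 1 + 1) * k) + 1 := by ring
    rw [this]; omega
  rw [hcardL, hhalf, pow_mul, ← hnorm, ← map_pow, ← map_one (algebraMap F L)]
  congr 1
  have he0 : e ≠ 0 := by
    rintro rfl
    rw [mul_zero, Algebra.norm_eq_zero_iff] at he
    exact hc he
  have := FiniteField.pow_card_sub_one_eq_one e he0
  rw [← hq, hk] at this
  rw [← pow_two, ← pow_mul]
  simpa using this

/-- (C2b) determinant trick: a similarity factor between two models of the same `Q` in odd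
`L`-dimension is a square -/
theorem isSquare_of_similar [Fintype F] (hodd : Odd (Fintype.card F))
    {Q : QuadraticForm F (ι → F)} (hQ : (polarBilin Q).Nondegenerate) {θ θ' : Matrix ι ι F}
    {δ : F} (hθ : TData Q θ δ) (hθ' : TData Q θ' δ) {L : Type*} [Field L] [Algebra F L]
    [Fintype L] {s : L} (hL : QExt F L δ s) {φ : L →ₗ[F] F} (hφ : φ ≠ 0) {n : ℕ} (hn : Odd n)
    (hι : Fintype.card ι = 2 * n) (M : LModel Q θ L s φ n) (M' : LModel Q θ' L s φ n) (c : L)
    (hc : c ≠ 0) (γ : (Fin n → L) ≃ₗ[L] (Fin n → L)) (hγ : ∀ x, M'.QL (γ x) = c * M.QL x) :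
    IsSquare c := by
  classical
  -- the two `F`-linear maps
  let h₀ : (ι → F) →ₗ[F] (ι → F) :=
    (M'.Ψ : (Fin n → L) →ₗ[F] (ι → F)) ∘ₗ
      ((γ : (Fin n → L) →ₗ[L] (Fin n → L)).restrictScalars F) ∘ₗ
      (M.Ψ.symm : (ι → F) →ₗ[F] (Fin n → L))
  let mc : (Fin n → L) →ₗ[L] (Fin n → L) := c • LinearMap.id
  let a : (ι → F) →ₗ[F] (ι → F) :=
    (M.Ψ : (Fin n → L) →ₗ[F] (ι → F)) ∘ₗ (mc.restrictScalars F) ∘ₗ
      (M.Ψ.symm : (ι → F) →ₗ[F] (Fin n → L))
  have hpolγ : ∀ x y, polar (⇑M'.QL) (γ x) (γ y) = c * polar (⇑M.QL) x y := by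
    intro x y
    simp only [polar, ← map_add, hγ]
    ring
  have key : ∀ u v, polar (⇑Q) (LinearMap.toMatrix' h₀ *ᵥ u) (LinearMap.toMatrix' h₀ *ᵥ v) =
      polar (⇑Q) (LinearMap.toMatrix' a *ᵥ u) v := by
    intro u v
    obtain ⟨x, rfl⟩ := M.Ψ.surjective u
    obtain ⟨y, rfl⟩ := M.Ψ.surjective v
    rw [LinearMap.toMatrix'_mulVec, LinearMap.toMatrix'_mulVec, LinearMap.toMatrix'_mulVec]
    have e1 : h₀ (M.Ψ x) = M'.Ψ (γ x) := by simp [h₀]
    have e2 : h₀ (M.Ψ y) = M'.Ψ (γ y) := by simp [h₀]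
    have e3 : a (M.Ψ x) = M.Ψ (c • x) := by simp [a, mc]
    rw [e1, e2, e3, polar_model, polar_model, hpolγ, polar_smul_left, smul_eq_mul]
  have hdet := det_eq_sq_of_polar_eq Q hQ _ _ key
  -- `det a = N(c)^n`
  have hdeta : (LinearMap.toMatrix' a).det = (Algebra.norm F c) ^ n := by
    rw [LinearMap.det_toMatrix']
    have h1 : LinearMap.det a = LinearMap.det (mc.restrictScalars F) :=
      LinearMap.det_conj (mc.restrictScalars F) M.Ψ
    rw [h1, LinearMap.det_restrictScalars, LinearMap.det_smul, LinearMap.det_id, mul_one,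
      Module.finrank_fin_fun, map_pow]
  rw [hdeta] at hdet
  -- `N(c)` is a square
  have hN0 : Algebra.norm F c ≠ 0 := by
    rw [Ne, Algebra.norm_eq_zero_iff]
    exact hc
  obtain ⟨k, hk⟩ := hn
  set d := (LinearMap.toMatrix' h₀).det with hd
  set N := Algebra.norm F c with hNdef
  have hNe : N = (d / N ^ k) * (d / N ^ k) := by
    have hNk : N ^ k ≠ 0 := pow_ne_zero _ hN0
    field_simp
    rw [hk] at hdet
    rw [pow_two d, ← hdet]
    ring
  exact isSquare_of_norm_eq_sq hodd hL.fr c hc _ hNe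

end Cfsg.Agent.Helper32.QFEC2b
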