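import Mathlib
import Cfsg.Agent.Helper13.QFEDefs

/-!
# (M3) of S5977/S5978 (helper13's farm #8823): `O(QL)` embeds into `N(K) ∩ O(Q)`
-/

set_option autoImplicit false

namespace Cfsg.Agent.Helper32.QFEM3

open Matrix Cfsg Cfsg.Geo QuadraticMap
open Cfsg.Agent.Helper13.QFE

universe u

variable {F : Type u} [Field F] {ι : Type} [Fintype ι] [DecidableEq ι]

theorem mat_ext_mulVec {κ : Type*} [Fintype κ] [DecidableEq κ] {R : Type*} [CommRing R]
    {A B : Matrix κ κ R} (h : ∀ v, A *ᵥ v = B *ᵥ v) : A = B := by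
  ext i j
  have := congrFun (h (Pi.single j 1)) i
  simpa using this

section tr

variable {L : Type*} [Field L] [Algebra F L] {n : ℕ} (Ψ : (Fin n → L) ≃ₗ[F] (ι → F))

theorem tr_mulVec' (M : Matrix (Fin n) (Fin n) L) (v : ι → F) :
    tr Ψ M *ᵥ v = Ψ (M *ᵥ Ψ.symm v) := by
  have := tr_mulVec Ψ M (Ψ.symm v)
  rwa [LinearEquiv.apply_symm_apply] at this

theorem tr_one : tr Ψ (1 : Matrix (Fin n) (Fin n) L) = 1 := by
  apply mat_ext_mulVec
  intro v
  rw [tr_mulVec', Matrix.one_mulVec, Matrix.one_mulVec, LinearEquiv.apply_symm_apply]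

theorem tr_mul (M N : Matrix (Fin n) (Fin n) L) : tr Ψ (M * N) = tr Ψ M * tr Ψ N := by
  apply mat_ext_mulVec
  intro v
  rw [← Matrix.mulVec_mulVec, tr_mulVec' Ψ N, tr_mulVec, tr_mulVec', Matrix.mulVec_mulVec]

/-- `tr` as a monoid homomorphism -/
noncomputable def trHom : Matrix (Fin n) (Fin n) L →* Matrix ι ι F where
  toFun := tr Ψ
  map_one' := tr_one Ψ
  map_mul' := tr_mul Ψ

theorem trHom_injective : Function.Injective (trHom Ψ) := by
  intro M N h
  apply mat_ext_mulVec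
  intro c
  have h1 : tr Ψ M *ᵥ Ψ c = tr Ψ N *ᵥ Ψ c := by
    have : tr Ψ M = tr Ψ N := h
    rw [this]
  rw [tr_mulVec, tr_mulVec] at h1
  exact Ψ.injective h1

end tr

/-- a matrix commuting with every element of `K` normalizes `K` -/
theorem mem_normalizer_of_commute
    (K : Subalgebra F (Matrix ι ι F)) (g : GL ι F)
    (hg : ∀ m ∈ K, (g : Matrix ι ι F) * m = m * (g : Matrix ι ι F)) :
    g ∈ subalgebraNormalizer K := by
  have hgi : (g : Matrix ι ι F) * ((g⁻¹ : GL ι F) : Matrix ι ι F) = 1 := by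
    rw [← Units.val_mul, mul_inv_cancel, Units.val_one]
  have hig : ((g⁻¹ : GL ι F) : Matrix ι ι F) * (g : Matrix ι ι F) = 1 := by
    rw [← Units.val_mul, inv_mul_cancel, Units.val_one]
  intro m
  constructor
  · intro hm
    rw [hg m hm, mul_assoc, hgi, mul_one]
    exact hm
  · intro hm
    have h1 := hg _ hm
    have h2 : (g : Matrix ι ι F) * m * ((g⁻¹ : GL ι F) : Matrix ι ι F) = m := by
      have h3 : (g : Matrix ι ι F) * ((g : Matrix ι ι F) * m * ((g⁻¹ : GL ι F) : Matrix ι ι F)) =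
          (g : Matrix ι ι F) * m := by
        rw [h1, mul_assoc, mul_assoc, hig, mul_one]
      have h4 := congrArg (fun X => ((g⁻¹ : GL ι F) : Matrix ι ι F) * X) h3
      simp only [← mul_assoc, hig, one_mul] at h4
      simpa [mul_assoc] using h4
    rw [← h2]
    exact hm

theorem mem_isometryGroup_iff {κ : Type} [Fintype κ] [DecidableEq κ] {R : Type*} [Field R]
    (Q : (κ → R) → R) (g : GL κ R) :
    g ∈ Cfsg.isometryGroup R Q ↔ ∀ u, Q ((g : Matrix κ κ R) *ᵥ u) = Q u := by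
  constructor
  · intro h u
    exact h u u
  · intro h u _
    exact h u

section main

variable {Q : QuadraticForm F (ι → F)} {θ : Matrix ι ι F}
  {L : Type*} [Field L] [Algebra F L] {s : L} {φ : L →ₗ[F] F} {n : ℕ}

theorem trGL_mem_isometryGroup (M : LModel Q θ L s φ n) (Y : GL (Fin n) L)
    (hY : Y ∈ Cfsg.isometryGroup L ⇑M.QL) :
    Units.map (trHom M.Ψ) Y ∈ Cfsg.isometryGroup F ⇑Q := by
  rw [mem_isometryGroup_iff] at hY ⊢
  intro u
  obtain ⟨c, rfl⟩ := M.Ψ.surjective u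
  have h1 : ((Units.map (trHom M.Ψ) Y : GL ι F) : Matrix ι ι F) =
      tr M.Ψ (Y : Matrix _ _ L) := rfl
  rw [h1, tr_mulVec, M.hQ, M.hQ, hY]

theorem trGL_commute (M : LModel Q θ L s φ n) (Y : GL (Fin n) L) :
    ((Units.map (trHom M.Ψ) Y : GL ι F) : Matrix ι ι F) * θ =
      θ * ((Units.map (trHom M.Ψ) Y : GL ι F) : Matrix ι ι F) := by
  have h1 : ((Units.map (trHom M.Ψ) Y : GL ι F) : Matrix ι ι F) =
      tr M.Ψ (Y : Matrix _ _ L) := rfl
  rw [h1]
  apply mat_ext_mulVec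
  intro v
  obtain ⟨c, rfl⟩ := M.Ψ.surjective v
  rw [← Matrix.mulVec_mulVec, ← Matrix.mulVec_mulVec, ← M.hs, tr_mulVec, tr_mulVec, ← M.hs,
    Matrix.mulVec_smul]

theorem trGL_mem_normalizer (M : LModel Q θ L s φ n) (K : Subalgebra F (Matrix ι ι F))
    (hgen : ∀ k ∈ K, ∃ a b : F, k = a • (1 : Matrix ι ι F) + b • θ) (Y : GL (Fin n) L) :
    Units.map (trHom M.Ψ) Y ∈ subalgebraNormalizer K := by
  apply mem_normalizer_of_commute
  intro m hm
  obtain ⟨a, b, rfl⟩ := hgen m hm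
  have h := trGL_commute M Y
  rw [mul_add, add_mul, Matrix.mul_smul, Matrix.smul_mul, Matrix.mul_smul, Matrix.smul_mul, h,
    mul_one, one_mul]

end main

/-- (M3) `O(QL)` embeds into `N(K) ∩ O(Q)` -/
theorem card_isometry_dvd [Fintype F] {Q : QuadraticForm F (ι → F)} {θ : Matrix ι ι F} {δ : F}
    (hθ : TData Q θ δ) {L : Type*} [Field L] [Algebra F L] [Fintype L] {s : L}
    (hL : QExt F L δ s) {φ : L →ₗ[F] F} (hφ : φ ≠ 0) {n : ℕ} (M : LModel Q θ L s φ n)
    (K : Subalgebra F (Matrix ι ι F))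
    (hgen : ∀ k ∈ K, ∃ a b : F, k = a • (1 : Matrix ι ι F) + b • θ) :
    Nat.card ↥(Cfsg.isometryGroup L ⇑M.QL) ∣
      Nat.card ↥((subalgebraNormalizer K).subgroupOf (Cfsg.isometryGroup F ⇑Q)) := by
  let Θ : ↥(Cfsg.isometryGroup L ⇑M.QL) →*
      ↥((subalgebraNormalizer K).subgroupOf (Cfsg.isometryGroup F ⇑Q)) :=
    { toFun := fun Y => ⟨⟨Units.map (trHom M.Ψ) Y.1, trGL_mem_isometryGroup M Y.1 Y.2⟩,
        trGL_mem_normalizer M K hgen Y.1⟩
      map_one' := by
        apply Subtype.ext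
        apply Subtype.ext
        simp
      map_mul' := by
        intro A B
        apply Subtype.ext
        apply Subtype.ext
        simp }
  apply Subgroup.card_dvd_of_injective Θ
  intro A B h
  apply Subtype.ext
  have h1 : Units.map (trHom M.Ψ) A.1 = Units.map (trHom M.Ψ) B.1 := by
    have := congrArg (fun X => (X.1.1 : GL ι F)) h
    exact this
  apply Units.ext
  apply trHom_injective M.Ψ
  have := congrArg (fun X : GL ι F => X.val) h1
  exact this

end Cfsg.Agent.Helper32.QFEM3
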