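import Mathlib
import Cfsg.Agent.Helper5.OmBN.Defs

/-!
# (DISC) for S2549 (helper32, for helper5): an anisotropic binary form over a finite field has
non-zero discriminant
-/

set_option autoImplicit false

namespace Cfsg.Agent.Helper32.OmBN

open Matrix Cfsg Cfsg.Agent.Helper5.OmBN

variable {F : Type*} [Field F] {m : ℕ} {α β : F}

/-- (DISC) an anisotropic binary form over a finite field is non-degenerate -/
theorem disc_ne_zero [Finite F] (hab : ∀ z₁ z₂ : F, Nf α β z₁ z₂ = 0 → z₁ = 0 ∧ z₂ = 0) :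
    4 * β - α ^ 2 ≠ 0 := by
  intro h
  have h4 : 4 * β = α ^ 2 := sub_eq_zero.1 h
  -- `Nf α (-2) = 0`
  have h1 : Nf α β α (-2) = 0 := by
    unfold Nf
    linear_combination h4
  obtain ⟨hα, h2⟩ := hab _ _ h1
  have h2' : (2 : F) = 0 := by
    have := neg_eq_zero.1 h2
    exact this
  obtain ⟨γ, hγ⟩ := FiniteField.isSquare_of_char_two (F := F) (CharP.ringChar_of_prime_eq_zero Nat.prime_two (by exact_mod_cast h2')) β
  have h3 : Nf α β γ 1 = 0 := by
    unfold Nf
    rw [hα, hγ]
    linear_combination γ * γ * h2'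
  exact one_ne_zero (hab _ _ h3).2

end Cfsg.Agent.Helper32.OmBN
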