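import Mathlib
import Cfsg.Prelude.Def_Classical
import Cfsg.Agent.Helper5.OmBN.Defs

/-!
# (TRF) for helper5's S2549 skeleton 3 (helper32): the isometry group of the Prelude's
`quadFormMinus m F a b` is isomorphic to `OG m a b` (reindexing
`(Fin m ⊕ Fin m) ⊕ Fin 2 ≃ Fin (2 * m + 2)`, `inl (inl i) ↦ lo i`, `inl (inr i) ↦ hi i`, `inr 0 ↦ c1`,
`inr 1 ↦ c2`); modelled on helper47's `OpBNTR`
-/

set_option autoImplicit false

namespace Cfsg.Agent.Helper32.OmBN

open Matrix Cfsg Cfsg.Agent.Helper5.OmBN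

variable {F : Type*} [Field F] {m : ℕ} {α β : F}

/-- the middle part of the reindexing -/
def TRF_mid (m : ℕ) (j : Fin 2) : Fin (2 * m + 2) := if j = 0 then c1 else c2

theorem TRF_mid_zero : TRF_mid m 0 = c1 := rfl

theorem TRF_mid_one : TRF_mid m 1 = c2 := rfl

theorem TRF_mid_injective : Function.Injective (TRF_mid m) := by
  intro i j h
  fin_cases i <;> fin_cases j
  · rfl
  · exact absurd h c1_ne_c2
  · exact absurd h.symm c1_ne_c2
  · rfl

theorem TRF_mid_cases (j : Fin 2) : TRF_mid m j = c1 ∨ TRF_mid m j = c2 := by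
  fin_cases j
  · exact Or.inl rfl
  · exact Or.inr rfl

/-- the reindexing `(Fin m ⊕ Fin m) ⊕ Fin 2 ≃ Fin (2 * m + 2)` -/
noncomputable def TRF_e (m : ℕ) : (Fin m ⊕ Fin m) ⊕ Fin 2 ≃ Fin (2 * m + 2) :=
  Equiv.ofBijective (Sum.elim (Sum.elim lo hi) (TRF_mid m)) (by
    rw [Fintype.bijective_iff_injective_and_card]
    constructor
    · rintro ((i | i) | i) ((j | j) | j) h
      · exact congrArg (Sum.inl ∘ Sum.inl) (lo_injective h)
      · exact absurd h (lo_ne_hi i j)
      · rcases TRF_mid_cases (m := m) j with h' | h'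
        · exact absurd (h.trans h') (lo_ne_c1 i)
        · exact absurd (h.trans h') (lo_ne_c2 i)
      · exact absurd h.symm (lo_ne_hi j i)
      · exact congrArg (Sum.inl ∘ Sum.inr) (hi_injective h)
      · rcases TRF_mid_cases (m := m) j with h' | h'
        · exact absurd (h.trans h') (hi_ne_c1 i)
        · exact absurd (h.trans h') (hi_ne_c2 i)
      · rcases TRF_mid_cases (m := m) i with h' | h'
        · exact absurd (h.symm.trans h') (lo_ne_c1 j)
        · exact absurd (h.symm.trans h') (lo_ne_c2 j)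
      · rcases TRF_mid_cases (m := m) i with h' | h'
        · exact absurd (h.symm.trans h') (hi_ne_c1 j)
        · exact absurd (h.symm.trans h') (hi_ne_c2 j)
      · exact congrArg Sum.inr (TRF_mid_injective h)
    · rw [Fintype.card_sum, Fintype.card_sum, Fintype.card_fin, Fintype.card_fin, Fintype.card_fin,
        two_mul])

theorem TRF_e_inl_inl (i : Fin m) : TRF_e m (Sum.inl (Sum.inl i)) = lo i := rfl

theorem TRF_e_inl_inr (i : Fin m) : TRF_e m (Sum.inl (Sum.inr i)) = hi i := rfl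

theorem TRF_e_inr_zero : TRF_e m (Sum.inr 0) = c1 := rfl

theorem TRF_e_inr_one : TRF_e m (Sum.inr 1) = c2 := rfl

/-- the two forms correspond -/
theorem TRF_Qm_eq (a b : F) (w : Fin (2 * m + 2) → F) :
    Qm a b w = Cfsg.quadFormMinus m F a b (w ∘ TRF_e m) := rfl

theorem TRF_comp_cancel (x : (Fin m ⊕ Fin m) ⊕ Fin 2 → F) :
    (x ∘ (TRF_e m).symm) ∘ TRF_e m = x := by
  funext a
  simp

/-- the reindexed matrix acts by the reindexed action -/
theorem TRF_reindex_mulVec
    (M : Matrix ((Fin m ⊕ Fin m) ⊕ Fin 2) ((Fin m ⊕ Fin m) ⊕ Fin 2) F)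
    (w : Fin (2 * m + 2) → F) :
    (Matrix.reindexAlgEquiv F F (TRF_e m) M) *ᵥ w = (M *ᵥ (w ∘ TRF_e m)) ∘ (TRF_e m).symm := by
  rw [Matrix.coe_reindexAlgEquiv, Matrix.reindex_apply, Matrix.submatrix_mulVec_equiv]
  rfl

/-- (TRF) the isometry group of the form of the Prelude is isomorphic to `OG m a b` -/
theorem nonempty_mulEquiv_isometry (m : ℕ) (a b : F) :
    Nonempty (↥(Cfsg.isometryGroup F (Cfsg.quadFormMinus m F a b)) ≃* OG m a b) := by
  let φ : GL ((Fin m ⊕ Fin m) ⊕ Fin 2) F ≃* GL (Fin (2 * m + 2)) F :=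
    Units.mapEquiv (Matrix.reindexAlgEquiv F F (TRF_e m)).toMulEquiv
  have hφ : ∀ g : GL ((Fin m ⊕ Fin m) ⊕ Fin 2) F,
      ((φ g : GL (Fin (2 * m + 2)) F) : Matrix (Fin (2 * m + 2)) (Fin (2 * m + 2)) F) =
        Matrix.reindexAlgEquiv F F (TRF_e m) (g : Matrix _ _ F) := fun g => rfl
  have hiff : ∀ g : GL ((Fin m ⊕ Fin m) ⊕ Fin 2) F,
      φ g ∈ Cfsg.isometryGroup F (Qm (m := m) a b) ↔
        g ∈ Cfsg.isometryGroup F (Cfsg.quadFormMinus m F a b) := by
    intro g
    constructor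
    · intro h u _
      have h1 := h (u ∘ (TRF_e m).symm) (u ∘ (TRF_e m).symm)
      change Qm a b (((φ g : GL (Fin (2 * m + 2)) F) : Matrix (Fin (2 * m + 2)) (Fin (2 * m + 2)) F) *ᵥ (u ∘ (TRF_e m).symm)) =
        Qm a b (u ∘ (TRF_e m).symm) at h1
      rw [hφ, TRF_reindex_mulVec, TRF_Qm_eq, TRF_Qm_eq] at h1
      simp only [TRF_comp_cancel] at h1
      exact h1
    · intro h w _
      change Qm a b (((φ g : GL (Fin (2 * m + 2)) F) : Matrix (Fin (2 * m + 2)) (Fin (2 * m + 2)) F) *ᵥ w) = Qm a b w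
      rw [hφ, TRF_reindex_mulVec, TRF_Qm_eq, TRF_Qm_eq, TRF_comp_cancel]
      exact h (w ∘ TRF_e m) (w ∘ TRF_e m)
  exact ⟨{ toFun := fun g => ⟨φ g.1, (hiff g.1).2 g.2⟩
           invFun := fun h => ⟨φ.symm h.1, (hiff _).1 (by rw [φ.apply_symm_apply]; exact h.2)⟩
           left_inv := fun g => Subtype.ext (φ.symm_apply_apply g.1)
           right_inv := fun h => Subtype.ext (φ.apply_symm_apply h.1)
           map_mul' := fun g h => Subtype.ext (map_mul φ g.1 h.1) }⟩

end Cfsg.Agent.Helper32.OmBN
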