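import Mathlib
import Cfsg.Prelude.Def_Characters
import Cfsg.Prelude.Def_Blocks
import Cfsg.Agent.Helper74.CharBasic
import Cfsg.Agent.Helper74.CharCenter
import Cfsg.Agent.Helper74.DegP3

/-!
# S2548 piece (GEN1b) for helper19: a non-zero character with non-negative integer values on a central
subgroup has an irreducible constituent which is trivial on it
-/

set_option autoImplicit false

namespace Cfsg.Agent.Helper32.OpBN

open Cfsg Cfsg.Agent.Helper74

universe u

/-- for an irreducible character `θ` and a central subgroup `A`: `θ` is trivial on `A` or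
`∑_{a ∈ A} θ a = 0` -/
theorem irr_trivial_on_or_sum_eq_zero {N : Type u} [Group N] [Fintype N] (θ : IrrCharacter N)
    (A : Subgroup N) [Fintype A] (hA : A ≤ Subgroup.center N) :
    (∀ a ∈ A, (θ : N → ℂ) a = (θ : N → ℂ) 1) ∨ ∑ a : A, (θ : N → ℂ) (a : N) = 0 := by
  classical
  by_cases h : ∀ a ∈ A, (θ : N → ℂ) a = (θ : N → ℂ) 1
  · exact Or.inl h
  right
  push Not at h
  obtain ⟨b, hb, hne⟩ := h
  obtain ⟨c, hc⟩ := center_le_charCenter θ (hA hb)
  have hchar : ∀ g : N, (θ : N → ℂ) g = LinearMap.trace ℂ _ (irrRep θ g) := by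
    intro g
    rw [← irrRep_character θ]
    rfl
  have hmul : ∀ g : N, (θ : N → ℂ) (b * g) = c * (θ : N → ℂ) g := by
    intro g
    rw [hchar, hchar, map_mul, hc]
    have : (c • (LinearMap.id : (Fin (irrDim θ) → ℂ) →ₗ[ℂ] (Fin (irrDim θ) → ℂ))) * irrRep θ g =
        c • irrRep θ g := by
      ext v
      simp
    rw [this, map_smul, smul_eq_mul]
  have hc1 : c ≠ 1 := by
    intro h1
    apply hne
    have := hmul 1
    rw [mul_one, h1, one_mul] at this
    exact this
  have hsum : ∑ a : A, (θ : N → ℂ) (a : N) = c * ∑ a : A, (θ : N → ℂ) (a : N) := by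
    rw [Finset.mul_sum]
    rw [← Equiv.sum_comp (Equiv.mulLeft (⟨b, hb⟩ : A)) (fun a : A => (θ : N → ℂ) (a : N))]
    refine Finset.sum_congr rfl (fun a _ => ?_)
    rw [← hmul]
    rfl
  have h2 : (1 - c) * ∑ a : A, (θ : N → ℂ) (a : N) = 0 := by
    rw [sub_mul, one_mul, ← hsum, sub_self]
  rcases mul_eq_zero.1 h2 with h3 | h3
  · exact absurd (sub_eq_zero.1 h3).symm hc1
  · exact h3

end Cfsg.Agent.Helper32.OpBN

namespace Cfsg.Agent.Helper32.OpBN

open Cfsg Cfsg.Agent.Helper74

/-- (GEN1b) a non-zero character with non-negative integer values on a central subgroup has an irreducible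
constituent which is trivial on it -/
theorem exists_constituent_trivial_on {N : Type*} [Group N] [Fintype N] (ψ : N → ℂ)
    (hψ : Cfsg.IsCharacter N ψ) (h1 : ψ 1 ≠ 0) (A : Subgroup N) (hA : A ≤ Subgroup.center N)
    (hnn : ∀ a ∈ A, ∃ r : ℕ, ψ a = r) :
    ∃ θ : N → ℂ, Cfsg.IsIrrCharacter N θ ∧ Cfsg.classInner ψ θ ≠ 0 ∧ ∀ a ∈ A, θ a = θ 1 := by
  classical
  let _ : Fintype (IrrCharacter N) := irrFintype N
  by_contra hcon
  push Not at hcon
  -- every constituent has vanishing sum over `A`
  have hz : ∀ θ : IrrCharacter N, classInner ψ (θ : N → ℂ) * ∑ a : A, (θ : N → ℂ) (a : N) = 0 := by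
    intro θ
    by_cases hm : classInner ψ (θ : N → ℂ) = 0
    · rw [hm, zero_mul]
    · rcases irr_trivial_on_or_sum_eq_zero θ A hA with h | h
      · obtain ⟨a, ha, hne⟩ := hcon θ θ.2 hm
        exact absurd (h a ha) hne
      · rw [h, mul_zero]
  have hdec := isCharacter_eq_sum_irr hψ
  have hsum0 : ∑ a : A, ψ (a : N) = 0 := by
    have : ∀ a : A, ψ (a : N) =
        ∑ θ : IrrCharacter N, classInner ψ (θ : N → ℂ) * (θ : N → ℂ) (a : N) := by
      intro a
      conv_lhs => rw [hdec]
      rw [Finset.sum_apply]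
      refine Finset.sum_congr rfl (fun θ _ => ?_)
      rw [Pi.smul_apply, smul_eq_mul]
    simp_rw [this]
    rw [Finset.sum_comm]
    refine Finset.sum_eq_zero (fun θ _ => ?_)
    rw [← Finset.mul_sum]
    exact hz θ
  -- but the sum is a positive natural number
  choose r hr using fun a : A => hnn (a : N) a.2
  have hnat : ∑ a : A, ψ (a : N) = ((∑ a : A, r a : ℕ) : ℂ) := by
    push_cast
    exact Finset.sum_congr rfl (fun a _ => hr a)
  rw [hnat] at hsum0
  have hsum0' : ∑ a : A, r a = 0 := by exact_mod_cast hsum0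
  have hr1 : r (1 : A) = 0 := by
    have := (Finset.sum_eq_zero_iff.1 hsum0') (1 : A) (Finset.mem_univ _)
    exact this
  apply h1
  have := hr (1 : A)
  rw [hr1] at this
  simpa using this

end Cfsg.Agent.Helper32.OpBN
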