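import Mathlib
import Cfsg.Prelude.Def_Characters
import Cfsg.Prelude.Def_Blocks
import Cfsg.Agent.Helper74.CharBasic
import Cfsg.Agent.Helper74.DefectZero

/-!
# S2548 piece (GEN1c) for helper19: a `p`-defect zero character is not trivial on an element of order `p`
-/

set_option autoImplicit false

namespace Cfsg.Agent.Helper32.OpBN

open Cfsg Cfsg.Agent.Helper74

/-- (GEN1c) a `p`-defect zero character is not trivial on an element of order `p` -/
theorem not_dvd_card_of_trivial_on {N : Type*} [Group N] [Finite N] (p : ℕ) [Fact p.Prime]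
    (θ : N → ℂ) (hθ : Cfsg.IsIrrCharacter N θ) (hdeg : ∀ Q : Sylow p N, θ 1 = Nat.card Q)
    (A : Subgroup N) (hA : ∀ a ∈ A, θ a = θ 1) : ¬ p ∣ Nat.card A := by
  classical
  intro hdvd
  have hp : p.Prime := Fact.out
  letI : Fintype N := Fintype.ofFinite N
  obtain ⟨a, ha⟩ := exists_prime_orderOf_dvd_card' (G := A) p hdvd
  obtain ⟨Q⟩ : Nonempty (Sylow p N) := inferInstance
  have hd : charDegree θ = Nat.card Q := by
    have := charDegree_cast (isCharacter_of_isIrr hθ)
    rw [hdeg Q] at this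
    exact_mod_cast this
  have hdiv : p ^ (Nat.card N).factorization p ∣ charDegree θ := by
    rw [hd, Sylow.card_eq_multiplicity]
  have hy : p ∣ orderOf (a : N) := by
    rw [Subgroup.orderOf_coe, ha]
  have h0 := irr_eq_zero_of_defect_zero (⟨θ, hθ⟩ : IrrCharacter N) hp hdiv (a : N) hy
  have h1 : θ (a : N) = θ 1 := hA _ a.2
  have h2 : θ 1 = (Nat.card Q : ℂ) := hdeg Q
  have h3 : (Nat.card Q : ℂ) ≠ 0 := by
    have : Nat.card Q ≠ 0 := Nat.card_pos.ne'
    exact_mod_cast this
  apply h3
  rw [← h2, ← h1]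
  exact h0

end Cfsg.Agent.Helper32.OpBN
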