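import Mathlib
import Cfsg.Agent.Helper13.USubDefs
import Cfsg.Agent.Helper37.USubUK2

/-!
# Piece (U2b) of board post #7436 (helper13, S5982): an element whose square is a non-square
scalar is not conjugate into the similarity group of the hermitian form (`q` odd).
-/

set_option autoImplicit false

namespace Cfsg.Agent.Helper32.USubU2b

open Matrix Polynomial Cfsg Cfsg.Geo
open Cfsg.Agent.Helper13.USub

variable {F : Type*} [Field F] {n : ℕ}

/-- (U2b) with the two facts (UK2), (UK2c) about the similarity group as hypotheses -/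
theorem not_conj_of_sq_nonsquare' [Fintype F] (q₀ : ℕ) (hF : Fintype.card F = q₀ ^ 2)
    (hUK2 : ∀ y : GL (Fin n) F, y ∈ SimH n F q₀ →
      ∃ (lam : F) (u : GL (Fin n) F), lam ≠ 0 ∧ u ∈ Cfsg.GU n F q₀ ∧
        (y : Matrix (Fin n) (Fin n) F) = lam • (u : Matrix (Fin n) (Fin n) F))
    (hUK2c : ∀ u : GL (Fin n) F, u ∈ Cfsg.GU n F q₀ → ∀ c : F,
      (u : Matrix (Fin n) (Fin n) F) = c • (1 : Matrix (Fin n) (Fin n) F) → c ^ (q₀ + 1) = 1)
    (h2 : (2 : F) ≠ 0) (x : GL (Fin n) F) (z : F) (hz : ∀ b : F, b * b ≠ z)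
    (hxz : ((x ^ 2 : GL (Fin n) F) : Matrix (Fin n) (Fin n) F) =
      z • (1 : Matrix (Fin n) (Fin n) F))
    (y : GL (Fin n) F) : y⁻¹ * x * y ∉ SimH n F q₀ := by
  intro hmem
  obtain ⟨lam, u, hlam, hu, hY⟩ := hUK2 _ hmem
  -- the square of the conjugate
  have hsq : (((y⁻¹ * x * y) ^ 2 : GL (Fin n) F) : Matrix (Fin n) (Fin n) F) =
      z • (1 : Matrix (Fin n) (Fin n) F) := by
    have h1 : (y⁻¹ * x * y) ^ 2 = y⁻¹ * x ^ 2 * y := by
      rw [pow_two, pow_two]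
      simp only [mul_assoc, mul_inv_cancel_left]
    rw [h1, Units.val_mul, Units.val_mul, hxz, Matrix.mul_smul, Matrix.mul_one, Matrix.smul_mul,
      ← Units.val_mul, inv_mul_cancel, Units.val_one]
  have hu2 : ((u ^ 2 : GL (Fin n) F) : Matrix (Fin n) (Fin n) F) =
      ((lam ^ 2)⁻¹ * z) • (1 : Matrix (Fin n) (Fin n) F) := by
    rw [Units.val_pow_eq_pow_val] at hsq ⊢
    rw [hY, _root_.smul_pow] at hsq
    have hl2 : lam ^ 2 ≠ 0 := pow_ne_zero 2 hlam
    rw [mul_smul, ← hsq, smul_smul, inv_mul_cancel₀ hl2, one_smul]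
  have hc := hUK2c (u ^ 2) (Subgroup.pow_mem _ hu 2) _ hu2
  set c : F := (lam ^ 2)⁻¹ * z with hcdef
  have hc0 : c ≠ 0 := by
    intro h
    rw [h, zero_pow (Nat.succ_ne_zero q₀)] at hc
    exact zero_ne_one hc
  have hchar : ringChar F ≠ 2 := by
    intro h
    apply h2
    have := ringChar.charP F
    have := CharP.cast_eq_zero F (ringChar F)
    rw [h] at this
    exact_mod_cast this
  have hodd := FiniteField.odd_card_of_char_ne_two hchar
  rw [hF] at hodd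
  have hq0odd : q₀ % 2 = 1 := by
    rcases Nat.mod_two_eq_zero_or_one q₀ with h | h
    · exfalso
      have : q₀ ^ 2 % 2 = 0 := by
        rw [Nat.pow_mod, h]
      omega
    · exact h
  obtain ⟨k, hk⟩ : ∃ k, q₀ = 2 * k + 1 := ⟨q₀ / 2, by omega⟩
  have hhalf : Fintype.card F / 2 = k * (q₀ + 1) := by
    rw [hF, hk]
    have : (2 * k + 1) ^ 2 = 2 * (k * (2 * k + 1 + 1)) + 1 := by ring
    rw [this]
    omega
  have hsqc : IsSquare c := by
    rw [FiniteField.isSquare_iff hchar hc0, hhalf, mul_comm, pow_mul, hc, one_pow]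
  obtain ⟨t, ht⟩ := hsqc
  apply hz (lam * t)
  have hl2 : lam ^ 2 ≠ 0 := pow_ne_zero 2 hlam
  have : z = lam ^ 2 * c := by
    rw [hcdef, ← mul_assoc, mul_inv_cancel₀ hl2, one_mul]
  rw [this, ht]
  ring

/-- (U2b) `q` odd, non-square scalar -/
theorem not_conj_of_sq_nonsquare [Fintype F] (q₀ : ℕ) (hF : Fintype.card F = q₀ ^ 2)
    (h2 : (2 : F) ≠ 0) (hn : 0 < n) (x : GL (Fin n) F) (z : F) (hz : ∀ b : F, b * b ≠ z)
    (hxz : ((x ^ 2 : GL (Fin n) F) : Matrix (Fin n) (Fin n) F) =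
      z • (1 : Matrix (Fin n) (Fin n) F))
    (y : GL (Fin n) F) : y⁻¹ * x * y ∉ SimH n F q₀ :=
  not_conj_of_sq_nonsquare' q₀ hF
    (fun y h => Cfsg.Agent.Helper37.USubUK2.exists_smul_GU_of_mem_sim q₀ hF hn y h)
    (fun u hu c hc => Cfsg.Agent.Helper37.USubUK2.norm_eq_one_of_smul_mem_GU q₀ hF hn u hu c hc)
    h2 x z hz hxz y

end Cfsg.Agent.Helper32.USubU2b
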