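import Mathlib
import Cfsg.Agent.Helper15.MixDefs
import Cfsg.Agent.Helper63.MixM3a
import Cfsg.Agent.Helper65.MixD5

/-!
# S4017 piece (M3c) of board post #5926 (helper15): a minimal counterexample `MC G p a` has no
nontrivial normal `p`-subgroup.
-/

set_option autoImplicit false

namespace Cfsg.Agent.Helper32.Mix

open Subgroup Cfsg.Agent.Helper15.Mix

variable {G : Type*} [Group G] [Finite G] {p a : ℕ} {Q : Subgroup G} {x : G}

/-- `2 ∣ |G|` in a minimal counterexample. -/
theorem two_dvd_card (h : MC G p a) : 2 ∣ Nat.card G := by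
  apply Nat.dvd_of_factorization_pos
  rw [h.hcard]
  have := h.ha
  omega

/-- a proper nontrivial normal subgroup of a minimal counterexample is a `p`-group. -/
theorem normal_isPGroup (h : MC G p a) (N : Subgroup G) [N.Normal] (h2 : N ≠ ⊤) :
    IsPGroup p N := by
  by_cases h1 : N = ⊥
  · rw [h1]; exact IsPGroup.of_bot
  obtain ⟨t, ht⟩ := exists_prime_orderOf_dvd_card' (G := G) 2 (two_dvd_card h)
  have hodd := Cfsg.Agent.Helper63.MixM3a.odd_of_normal h N h1 h2
  refine Cfsg.Agent.Helper65.Mix.isPGroup_of_odd h N hodd ht ?_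
  rw [normalizer_eq_top]
  exact mem_top t

/-- an involution cannot lie in a group which is an extension of `p`-groups -/
theorem two_ne_of (h : MC G p a) : p ≠ 2 := Cfsg.Agent.Helper63.MixM3a.p_ne_two h

/-- (M3c) -/
theorem no_normal_pgroup (h : MC G p a) (M : Subgroup G) [M.Normal] (hM : IsPGroup p M)
    (h1 : M ≠ ⊥) : False := by
  have hp := h.hp
  haveI : Fact p.Prime := ⟨hp⟩
  have hp2 : p ≠ 2 := two_ne_of h
  have h2G := two_dvd_card h
  obtain ⟨t, ht⟩ := exists_prime_orderOf_dvd_card' (G := G) 2 h2G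
  obtain ⟨P, hMP⟩ := hM.exists_le_sylow
  have hPab : ∀ x ∈ P, ∀ y ∈ P, x * y = y * x := h.pab P P.isPGroup'
  have hPC : (P : Subgroup G) ≤ centralizer (M : Set G) := by
    intro x hx
    rw [mem_centralizer_iff]
    intro m hm
    exact hPab m (hMP hm) x hx
  by_cases hC : centralizer (M : Set G) = ⊤
  · -- `M` is central: transfer
    letI : CommGroup ↥(P : Subgroup G) :=
      { (inferInstance : Group ↥(P : Subgroup G)) with
        mul_comm := fun x y => Subtype.ext (hPab x x.2 y y.2) }
    let V : G →* ↥(P : Subgroup G) := MonoidHom.transfer (MonoidHom.id ↥(P : Subgroup G))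
    obtain ⟨z, hzM, hz1⟩ : ∃ z ∈ M, z ≠ 1 := by
      by_contra hcon
      push_neg at hcon
      exact h1 ((eq_bot_iff_forall M).2 hcon)
    have hzc : ∀ g : G, g * z = z * g := by
      intro g
      have : g ∈ centralizer (M : Set G) := by rw [hC]; exact mem_top g
      exact (mem_centralizer_iff.1 this z hzM).symm
    have key : ∀ (k : ℕ) (g₀ : G), g₀⁻¹ * z ^ k * g₀ ∈ (P : Subgroup G) →
        g₀⁻¹ * z ^ k * g₀ = z ^ k := by
      intro k g₀ _
      have : g₀ * z ^ k = z ^ k * g₀ := by
        have hc : Commute g₀ z := hzc g₀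
        exact (hc.pow_right k).eq
      rw [mul_assoc, ← this, inv_mul_cancel_left]
    have hVz : V z = ⟨z ^ (P : Subgroup G).index, MonoidHom.transfer_eq_pow_aux z key⟩ :=
      MonoidHom.transfer_eq_pow (MonoidHom.id ↥(P : Subgroup G)) z key
    have hVz1 : V z ≠ 1 := by
      rw [hVz]
      intro hcon
      have hcon' : z ^ (P : Subgroup G).index = 1 := by
        have := congrArg Subtype.val hcon
        simpa using this
      obtain ⟨k, hk⟩ := hM ⟨z, hzM⟩
      have hk' : z ^ p ^ k = 1 := by
        have := congrArg Subtype.val hk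
        simpa using this
      have hd1 : orderOf z ∣ (P : Subgroup G).index := orderOf_dvd_of_pow_eq_one hcon'
      have hd2 : orderOf z ∣ p ^ k := orderOf_dvd_of_pow_eq_one hk'
      have hcop : Nat.Coprime (p ^ k) (P : Subgroup G).index := by
        apply Nat.Coprime.pow_left
        rw [Nat.Prime.coprime_iff_not_dvd hp]
        exact P.not_dvd_index
      have : orderOf z = 1 := Nat.eq_one_of_dvd_coprimes hcop hd2 hd1
      exact hz1 (orderOf_eq_one_iff.1 this)
    have hker : V.ker ≠ ⊤ := by
      intro hcon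
      apply hVz1
      have : z ∈ V.ker := by rw [hcon]; exact mem_top z
      exact MonoidHom.mem_ker.1 this
    have hkerp : IsPGroup p V.ker := normal_isPGroup h V.ker hker
    -- the involution `t` dies
    obtain ⟨n, hn⟩ := P.isPGroup' (V t)
    have htk : t ^ p ^ n ∈ V.ker := by
      rw [MonoidHom.mem_ker, map_pow]; exact hn
    obtain ⟨m, hm⟩ := hkerp ⟨t ^ p ^ n, htk⟩
    have hm' : (t ^ p ^ n) ^ p ^ m = 1 := by
      have := congrArg Subtype.val hm
      simpa using this
    rw [← pow_mul, ← pow_add] at hm'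
    have hd : orderOf t ∣ p ^ (n + m) := orderOf_dvd_of_pow_eq_one hm'
    rw [ht] at hd
    have := (Nat.prime_dvd_prime_iff_eq Nat.prime_two hp).1 (Nat.prime_two.dvd_of_dvd_pow hd)
    exact hp2 this.symm
  · -- `C = C_G(M)` is a proper normal subgroup, hence a `p`-group, hence equal to `P`
    have hCp : IsPGroup p (centralizer (M : Set G)) := normal_isPGroup h _ hC
    have hCP : centralizer (M : Set G) = (P : Subgroup G) := P.is_maximal' hCp hPC
    haveI hPn : (P : Subgroup G).Normal := by rw [← hCP]; infer_instance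
    obtain ⟨K, hK⟩ := exists_right_complement'_of_coprime (N := (P : Subgroup G))
      P.card_coprime_index
    have hcardK : Nat.card (P : Subgroup G) * Nat.card K = Nat.card G := hK.card_mul_card
    have hidx : Nat.card K = (P : Subgroup G).index := by
      have h3 := (P : Subgroup G).card_mul_index
      rw [← hcardK] at h3
      exact (Nat.eq_of_mul_eq_mul_left Nat.card_pos h3).symm
    obtain ⟨n, hn⟩ := IsPGroup.iff_card.1 P.isPGroup'
    have hpK : ¬ p ∣ Nat.card K := by rw [hidx]; exact P.not_dvd_index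
    obtain ⟨r, hr, hrG, hrp, hr2⟩ := h.bad
    have hcop : ∀ s : ℕ, s.Prime → s ≠ p → s ∣ Nat.card G → s ∣ Nat.card K := by
      intro s hs hsp hsG
      rw [← hcardK, hn] at hsG
      rcases (Nat.Prime.dvd_mul hs).1 hsG with h4 | h4
      · exact absurd ((Nat.prime_dvd_prime_iff_eq hs hp).1 (hs.dvd_of_dvd_pow h4)) hsp
      · exact h4
    have h2K : 2 ∣ Nat.card K := hcop 2 Nat.prime_two (Ne.symm hp2) h2G
    have hrK : r ∣ Nat.card K := hcop r hr hrp hrG
    have hn2 : ¬ IsPGroup 2 K := by
      intro hcon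
      haveI : Fact (Nat.Prime 2) := ⟨Nat.prime_two⟩
      obtain ⟨m, hm⟩ := IsPGroup.iff_card.1 hcon
      rw [hm] at hrK
      exact hr2 ((Nat.prime_dvd_prime_iff_eq hr Nat.prime_two).1 (hr.dvd_of_dvd_pow hrK))
    exact hpK (Cfsg.Agent.Helper63.MixM3a.mix h K h2K hn2)

end Cfsg.Agent.Helper32.Mix
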