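import Mathlib
import Cfsg.Agent.Helper15.MixDefs
import Cfsg.Agent.Helper63.MixM3a
import Cfsg.Agent.Helper81.MixPA
import Cfsg.Agent.Helper81.MixH1

/-!
# S4017 piece (M4) of board post #5926 (helper15): a simple minimal counterexample `MC G p a`
carries a configuration `Cfg G p a Q x`.
-/

set_option autoImplicit false

namespace Cfsg.Agent.Helper32.Mix

open Subgroup Cfsg.Agent.Helper15.Mix

variable {G : Type*} [Group G] [Finite G] {p a : ℕ} {Q : Subgroup G} {x : G}

/-- in a simple minimal counterexample some `p`-element normalizes but does not centralize a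
subgroup of a given Sylow `2`-subgroup (Frobenius' normal complement theorem). -/
theorem exists_pelt_not_centralizing (h : MC G p a) (hs : IsSimpleGroup G) (P : Sylow 2 G) :
    ∃ Q₁ : Subgroup G, Q₁ ≤ (P : Subgroup G) ∧ ∃ g ∈ normalizer (Q₁ : Set G),
      IsPElt p g ∧ g ∉ centralizer (Q₁ : Set G) := by
  have hp := h.hp
  have hp2 : p ≠ 2 := Cfsg.Agent.Helper63.MixM3a.p_ne_two h
  have hq : Nat.Prime 2 := Nat.prime_two
  haveI : Fact (Nat.Prime 2) := ⟨hq⟩
  have hPcard : Nat.card P = 2 ^ a := by rw [Sylow.card_eq_multiplicity P, h.hcard]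
  by_contra hcon
  push Not at hcon
  -- the Frobenius condition
  have hfrob : ∀ n : ℕ, ∀ Q₁ : Subgroup G, Q₁ ≤ (P : Subgroup G) → ∀ g ∈ normalizer (Q₁ : Set G),
      orderOf g = n → Nat.Coprime (orderOf g) 2 → g ∈ centralizer (Q₁ : Set G) := by
    intro n
    induction n using Nat.strong_induction_on with
    | _ n ih =>
      intro Q₁ hQ₁P g hgN hgn hgq
      have hnpos : 0 < n := by rw [← hgn]; exact orderOf_pos g
      by_cases hn1 : n = 1
      · have : g = 1 := by rw [← orderOf_eq_one_iff, hgn, hn1]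
        rw [this]; exact Subgroup.one_mem _
      set s := n.minFac with hs'
      have hsprime : s.Prime := Nat.minFac_prime hn1
      have hsn : s ∣ n := Nat.minFac_dvd n
      have hprod : ordProj[s] n * ordCompl[s] n = n := Nat.ordProj_mul_ordCompl_eq_self n s
      have hk1 : 1 ≤ n.factorization s := (hsprime.dvd_iff_one_le_factorization hnpos.ne').mp hsn
      have hm1 : 1 < ordProj[s] n := Nat.one_lt_pow (by omega) hsprime.one_lt
      by_cases hm : ordCompl[s] n = 1
      · -- prime power case
        rw [hm, mul_one] at hprod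
        by_contra hgc
        have hsq : s ≠ 2 := by
          rintro hs2
          rw [hgn] at hgq
          rw [hs2] at hsn
          exact (Nat.Prime.coprime_iff_not_dvd hq).mp hgq.symm hsn
        have hQ₁ne : Q₁ ≠ ⊥ := by
          rintro rfl
          apply hgc
          rw [mem_centralizer_iff]
          intro h hh
          have : h = 1 := by simpa using hh
          rw [this]; simp
        have hQ₁q : IsPGroup 2 Q₁ := P.isPGroup'.to_le hQ₁P
        by_cases hsp : s = p
        · exact hgc (hcon Q₁ hQ₁P g hgN ⟨n.factorization s, by rw [hgn, ← hsp]; exact hprod.symm⟩)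
        · -- the subgroup `⟨g⟩ Q₁`
          have hzle : zpowers g ≤ normalizer (Q₁ : Set G) := by
            rw [zpowers_le]; exact hgN
          set H := zpowers g ⊔ Q₁ with hH
          have hqH : 2 ∣ Nat.card H := by
            have h1 : 2 ∣ Nat.card Q₁ := by
              obtain ⟨k, hk⟩ := (IsPGroup.iff_card.mp hQ₁q)
              rw [hk]
              have : k ≠ 0 := by
                rintro rfl
                rw [pow_zero] at hk
                exact hQ₁ne (Subgroup.card_eq_one.mp hk)
              exact dvd_pow_self 2 this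
            exact h1.trans (Subgroup.card_dvd_of_le le_sup_right)
          have hnq : ¬ IsPGroup 2 H := by
            intro hHq
            obtain ⟨k, hk⟩ := hHq ⟨g, (le_sup_left : zpowers g ≤ H) (mem_zpowers g)⟩
            have hk' : g ^ 2 ^ k = 1 := by
              have := congrArg Subtype.val hk
              simpa using this
            have hdvd : orderOf g ∣ 2 ^ k := orderOf_dvd_of_pow_eq_one hk'
            rw [hgn] at hdvd
            have : s ∣ 2 ^ k := hsn.trans hdvd
            exact hsq ((Nat.prime_dvd_prime_iff_eq hsprime hq).mp (hsprime.dvd_of_dvd_pow this))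
          have hpH : ¬ p ∣ Nat.card H := by
            apply Cfsg.Agent.Helper22.not_dvd_card_sup_of_le_normalizer p hp (zpowers g) Q₁ hzle
            · rw [Nat.card_zpowers, hgn, ← hprod]
              intro h
              exact hsp ((Nat.prime_dvd_prime_iff_eq hp hsprime).mp (hp.dvd_of_dvd_pow h)).symm
            · obtain ⟨k, hk⟩ := (IsPGroup.iff_card.mp hQ₁q)
              rw [hk]
              intro h
              exact hp2 ((Nat.prime_dvd_prime_iff_eq hp hq).mp (hp.dvd_of_dvd_pow h))
          exact hpH (Cfsg.Agent.Helper63.MixM3a.mix h H hqH hnq)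
      · -- composite case: split
        set m₁ := ordProj[s] n with hm₁
        set m₂ := ordCompl[s] n with hm₂
        have hm₂pos : 0 < m₂ := Nat.ordCompl_pos s hnpos.ne'
        have hm₂1 : 1 < m₂ := by omega
        have hcop : m₁.Coprime m₂ := by
          rw [hm₁]
          exact Nat.Coprime.pow_left _ (Nat.coprime_ordCompl hsprime hnpos.ne')
        have ho1 : orderOf (g ^ m₁) = m₂ := by
          rw [orderOf_pow' g (by omega : m₁ ≠ 0), hgn]
          have : Nat.gcd n m₁ = m₁ := Nat.gcd_eq_right (Dvd.intro _ hprod)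
          rw [this]
        have ho2 : orderOf (g ^ m₂) = m₁ := by
          rw [orderOf_pow' g (by omega : m₂ ≠ 0), hgn]
          have : Nat.gcd n m₂ = m₂ := Nat.gcd_eq_right (Dvd.intro_left _ hprod)
          rw [this]
          exact Nat.div_eq_of_eq_mul_left (by omega) hprod.symm
        have hlt1 : m₂ < n := by
          rw [← hprod]; nlinarith
        have hlt2 : m₁ < n := by
          rw [← hprod]; nlinarith
        have hc1 : g ^ m₁ ∈ centralizer (Q₁ : Set G) := by
          apply ih m₂ hlt1 Q₁ hQ₁P (g ^ m₁) (Subgroup.pow_mem _ hgN _) ho1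
          rw [ho1]
          rw [hgn] at hgq
          exact Nat.Coprime.coprime_dvd_left (Dvd.intro_left _ hprod) hgq
        have hc2 : g ^ m₂ ∈ centralizer (Q₁ : Set G) := by
          apply ih m₁ hlt2 Q₁ hQ₁P (g ^ m₂) (Subgroup.pow_mem _ hgN _) ho2
          rw [ho2]
          rw [hgn] at hgq
          exact Nat.Coprime.coprime_dvd_left (Dvd.intro _ hprod) hgq
        exact Cfsg.Agent.Helper81.Mix.mem_of_pow_mem_of_coprime _ hcop hc1 hc2
  -- the normal complement
  obtain ⟨K, hKn, hKc⟩ := (Cfsg.Agent.S0071.result P).mpr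
    (fun Q₁ hQ₁ g hg hgq => hfrob _ Q₁ hQ₁ g hg rfl hgq)
  have hcardKP : Nat.card K * Nat.card P = Nat.card G := hKc.card_mul_card
  have ha := h.ha
  rcases hs.eq_bot_or_eq_top_of_normal K hKn with hK | hK
  · -- `G = P` is a `2`-group
    rw [hK, Subgroup.card_bot, one_mul, hPcard] at hcardKP
    have hpG := h.hpG
    rw [← hcardKP] at hpG
    exact hp2 ((Nat.prime_dvd_prime_iff_eq hp hq).mp (hp.dvd_of_dvd_pow hpG))
  · -- `P = 1`
    rw [hK, Subgroup.card_top, hPcard] at hcardKP
    have h1 : 2 ^ a = 1 := by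
      have hpos : 0 < Nat.card G := Nat.card_pos
      have := Nat.eq_of_mul_eq_mul_left hpos (hcardKP.trans (mul_one _).symm)
      exact this
    have h2 : 2 ^ 2 ≤ 2 ^ a := Nat.pow_le_pow_right (by norm_num) ha
    omega

/-- (M4) -/
theorem exists_cfg (h : MC G p a) (hs : IsSimpleGroup G) :
    ∃ (Q : Subgroup G) (x : G), Cfg G p a Q x := by
  have hp := h.hp
  haveI : Fact (Nat.Prime 2) := ⟨Nat.prime_two⟩
  obtain ⟨P⟩ : Nonempty (Sylow 2 G) := inferInstance
  have hPcard : Nat.card P = 2 ^ a := by rw [Sylow.card_eq_multiplicity P, h.hcard]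
  obtain ⟨Q₁, hQ₁P, g, hgN, ⟨j, hj⟩, hgc⟩ := exists_pelt_not_centralizing h hs P
  have h1 := Cfsg.Agent.Helper81.Mix.succ_le_card_of_pelt hp Q₁ hgN hj hgc
  have hQ₁ : Q₁ = (P : Subgroup G) := by
    apply Subgroup.eq_of_le_of_card_ge hQ₁P
    rw [hPcard, ← h.hpa]; exact h1
  rw [hQ₁] at hgN hgc
  have hQcard : Nat.card (P : Subgroup G) = p + 1 := by rw [hPcard, h.hpa]
  have htrans := Cfsg.Agent.Helper81.Mix.trans_of_pelt hp (P : Subgroup G) hQcard hgN ⟨j, hj⟩ hgc
  refine ⟨(P : Subgroup G), g, ⟨h, hs, hPcard, ?_, hgN, ⟨j, hj⟩, htrans⟩⟩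
  -- exponent two
  have h2P : 2 ∣ Nat.card (P : Subgroup G) := by
    rw [hPcard]
    exact dvd_pow_self 2 (by have := h.ha; omega)
  obtain ⟨u₀', hu₀'⟩ := exists_prime_orderOf_dvd_card' (G := (P : Subgroup G)) 2 h2P
  have hu₀ : orderOf (u₀' : G) = 2 := by rw [Subgroup.orderOf_coe, hu₀']
  have hu₀1 : (u₀' : G) ≠ 1 := by
    intro hcon
    rw [hcon, orderOf_one] at hu₀
    omega
  have hu₀sq : (u₀' : G) * (u₀' : G) = 1 := by
    have h3 := pow_orderOf_eq_one (u₀' : G)
    rw [hu₀, pow_two] at h3
    exact h3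
  intro u hu
  by_cases hu1 : u = 1
  · rw [hu1, mul_one]
  · obtain ⟨k, hk⟩ := htrans (u₀' : G) u₀'.2 u hu hu₀1 hu1
    rw [← hk]
    calc g ^ k * (u₀' : G) * (g ^ k)⁻¹ * (g ^ k * (u₀' : G) * (g ^ k)⁻¹)
        = g ^ k * ((u₀' : G) * (u₀' : G)) * (g ^ k)⁻¹ := by group
      _ = 1 := by rw [hu₀sq]; group

end Cfsg.Agent.Helper32.Mix
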