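import Mathlib
import Cfsg.Agent.Helper16.DefOneSetup
import Cfsg.Agent.Helper59.LatticeXB

/-!
# Defect-one engine, piece (ROWS): the structure of `R_θ` in the equality case of the lattice bound
(helper32, for helper16)
-/

set_option autoImplicit false

namespace Cfsg.Agent.Helper32.DefOneROWS

open Cfsg Cfsg.Agent.Helper16 Cfsg.Agent.Helper16.DefOne

universe u

variable {G : Type u} [Group G] [Fintype G] {p : ℕ} [Fact p.Prime] (P : Sylow p G)

/-- the row of a canonical character vanishes. -/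
theorem rowZ_of_canon (hself : ∀ θ : IrrCharacter (cen P), IsCanon P θ → can P θ = θ)
    (χ : IrrCharacter G) (φ : IrrCharacter (cen P)) (hφ : IsCanon P φ) : rowZ P χ φ = 0 := by
  unfold rowZ
  rw [hself φ hφ, sub_self]

open Classical in
/-- conjugates of canonical characters are canonical (from the Gram relation). -/
theorem isCanon_smul_of
    (hgram : ∀ φ ψ : IrrCharacter (cen P), ¬ IsCanon P φ → ¬ IsCanon P ψ →
      ∑ᶠ χ : IrrCharacter G, rowZ P χ φ * rowZ P χ ψ =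
        (if ∃ n : nor P, n • ψ = φ then 1 else 0) +
          (if ∃ n : nor P, n • can P ψ = can P φ then (inertia P (can P φ) : ℤ) else 0))
    (hsmul : ∀ (χ : IrrCharacter G) (n : nor P) (φ : IrrCharacter (cen P)),
      rowZ P χ (n • φ) = rowZ P χ φ)
    (hself : ∀ θ : IrrCharacter (cen P), IsCanon P θ → can P θ = θ)
    (n : nor P) (θ' : IrrCharacter (cen P)) (hθ' : IsCanon P θ') : IsCanon P (n • θ') := by
  by_contra hφ
  have h0 : ∀ χ : IrrCharacter G, rowZ P χ (n • θ') = 0 := fun χ => by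
    rw [hsmul, rowZ_of_canon P hself χ θ' hθ']
  have h1 := hgram (n • θ') (n • θ') hφ hφ
  have h2 : ∑ᶠ χ : IrrCharacter G, rowZ P χ (n • θ') * rowZ P χ (n • θ') = 0 := by
    simp only [h0, mul_zero]
    exact finsum_zero
  rw [h2, if_pos ⟨1, one_smul _ _⟩, if_pos ⟨1, one_smul _ _⟩] at h1
  have h3 : (0 : ℤ) ≤ (inertia P (can P (n • θ')) : ℤ) := Int.natCast_nonneg _
  omega

open Classical in
/-- **(ROWS)**, with the inputs of helper82's chain as explicit hypotheses. -/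
theorem exists_rows'
    (hgram : ∀ φ ψ : IrrCharacter (cen P), ¬ IsCanon P φ → ¬ IsCanon P ψ →
      ∑ᶠ χ : IrrCharacter G, rowZ P χ φ * rowZ P χ ψ =
        (if ∃ n : nor P, n • ψ = φ then 1 else 0) +
          (if ∃ n : nor P, n • can P ψ = can P φ then (inertia P (can P φ) : ℤ) else 0))
    (hsmul : ∀ (χ : IrrCharacter G) (n : nor P) (φ : IrrCharacter (cen P)),
      rowZ P χ (n • φ) = rowZ P χ φ)
    (horb : ∀ φ : IrrCharacter (cen P), ¬ IsCanon P φ →
      Nat.card {ψ : IrrCharacter (cen P) // can P ψ = can P φ ∧ ∃ n : nor P, n • ψ = φ} =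
        inertia P (can P φ))
    (hfib : ∀ θ : IrrCharacter (cen P), IsCanon P θ →
      Nat.card {φ : IrrCharacter (cen P) // can P φ = θ} = p)
    (hself : ∀ θ : IrrCharacter (cen P), IsCanon P θ → can P θ = θ)
    (hcanon : ∀ φ : IrrCharacter (cen P), IsCanon P (can P φ))
    (θ : IrrCharacter (cen P)) (hθ : IsCanon P θ) (hpos : 0 < inertia P θ)
    (heq : inertia P θ * Nat.card (Rset P θ) = inertia P θ ^ 2 + (p - 1)) :
    ∃ (X Y : Set (IrrCharacter G)) (s : IrrCharacter G → ℤ),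
      Rset P θ = X ∪ Y ∧ Disjoint X Y ∧ Nat.card X = inertia P θ ∧
      Nat.card Y = (p - 1) / inertia P θ ∧
      (∀ χ, s χ = 1 ∨ s χ = -1) ∧
      (∀ χ ∈ X, ∀ φ : IrrCharacter (cen P), can P φ = θ → ¬ IsCanon P φ → rowZ P χ φ = s χ) ∧
      (∀ ψ ∈ Y, ∃ φ₀ : IrrCharacter (cen P), can P φ₀ = θ ∧ ¬ IsCanon P φ₀ ∧
        ∀ φ : IrrCharacter (cen P), can P φ = θ → ¬ IsCanon P φ →
          rowZ P ψ φ = if ∃ n : nor P, n • φ = φ₀ then s ψ else 0) ∧
      (∀ φ : IrrCharacter (cen P), can P φ = θ → ¬ IsCanon P φ → ∃ ψ ∈ Y, rowZ P ψ φ ≠ 0) ∧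
      (∀ ψ ∈ Y, ∀ ψ' ∈ Y, ∀ φ : IrrCharacter (cen P), can P φ = θ → ¬ IsCanon P φ →
        rowZ P ψ φ ≠ 0 → rowZ P ψ' φ ≠ 0 → ψ = ψ') := by
  haveI : Finite (IrrCharacter G) := Helper74.irr_finite
  haveI : Finite (IrrCharacter (cen P)) := Helper74.irr_finite
  letI : Fintype (IrrCharacter G) := Fintype.ofFinite _
  -- the index set
  let Z : Type u := {φ : IrrCharacter (cen P) // can P φ = θ ∧ ¬ IsCanon P φ}
  letI : Fintype Z := Fintype.ofFinite _
  have hsm : ∀ (n : nor P) (θ' : IrrCharacter (cen P)), IsCanon P θ' → IsCanon P (n • θ') :=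
    fun n θ' h => isCanon_smul_of P hgram hsmul hself n θ' h
  let s : Setoid Z :=
    { r := fun z z' => ∃ n : nor P, n • z'.1 = z.1
      iseqv :=
        { refl := fun z => ⟨1, one_smul _ _⟩
          symm := by
            rintro z z' ⟨n, hn⟩
            exact ⟨n⁻¹, by rw [← hn, inv_smul_smul]⟩
          trans := by
            rintro z z' z'' ⟨n, hn⟩ ⟨m, hm⟩
            exact ⟨n * m, by rw [mul_smul, hm, hn]⟩ } }
  have hsr : ∀ z z' : Z, s.r z z' ↔ ∃ n : nor P, n • z'.1 = z.1 := fun z z' => Iff.rfl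
  -- classes have `e` elements
  have hcls : ∀ z : Z, Nat.card {z' // s.r z z'} = inertia P θ := by
    intro z
    have h1 := horb z.1 z.2.2
    rw [z.2.1] at h1
    rw [← h1]
    apply Nat.card_congr
    refine
      { toFun := fun z' => ⟨z'.1.1, z'.1.2.1, z'.2⟩
        invFun := fun ψ => ⟨⟨ψ.1, ψ.2.1, ?_⟩, ψ.2.2⟩
        left_inv := fun z' => rfl
        right_inv := fun ψ => rfl }
    intro hc
    obtain ⟨n, hn⟩ := ψ.2.2
    exact z.2.2 (hn ▸ hsm n ψ.1 hc)
  -- the matrix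
  let r : IrrCharacter G → Z → ℤ := fun χ z => rowZ P χ z.1
  have hr : ∀ χ z, r χ z = rowZ P χ z.1 := fun χ z => rfl
  have hinv : ∀ χ z z', s.r z z' → r χ z = r χ z' := by
    rintro χ z z' ⟨n, hn⟩
    rw [hr, hr, ← hn, hsmul]
  have hgram' : ∀ z z', ∑ χ, r χ z * r χ z' =
      (if s.r z z' then 1 else 0) + (inertia P θ : ℤ) := by
    intro z z'
    have h1 := hgram z.1 z'.1 z.2.2 z'.2.2
    rw [finsum_eq_sum_of_fintype] at h1
    have h2 : ∃ n : nor P, n • can P z'.1 = can P z.1 :=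
      ⟨1, by rw [one_smul, z.2.1, z'.2.1]⟩
    rw [if_pos h2, z.2.1] at h1
    by_cases hs : s.r z z'
    · rw [if_pos hs]
      rw [if_pos ((hsr z z').1 hs)] at h1
      exact h1
    · rw [if_neg hs]
      rw [if_neg (fun h => hs ((hsr z z').2 h))] at h1
      exact h1
  -- the nonzero rows are `R_θ`
  have hRset : ∀ χ : IrrCharacter G, r χ ≠ 0 ↔ χ ∈ Rset P θ := by
    intro χ
    rw [Function.ne_iff]
    constructor
    · rintro ⟨z, hz⟩
      exact ⟨z.1, z.2.1, hz⟩
    · rintro ⟨φ, hφ, hne⟩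
      refine ⟨⟨φ, hφ, fun hc => hne (rowZ_of_canon P hself χ φ hc)⟩, hne⟩
  have hcardR : Nat.card {χ // r χ ≠ 0} = Nat.card (Rset P θ) :=
    Nat.card_congr (Equiv.subtypeEquivRight hRset)
  -- `|Z| = p - 1`
  have hcardZ : Nat.card Z = p - 1 := by
    have h1 := hfib θ hθ
    have hcan : ∀ φ : IrrCharacter (cen P), can P φ = θ → (IsCanon P φ ↔ φ = θ) := by
      intro φ hφ
      constructor
      · intro hc
        rw [← hφ, hself φ hc]
      · rintro rfl
        exact hθ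
    let Fib : Type u := {φ : IrrCharacter (cen P) // can P φ = θ}
    letI : Fintype Fib := Fintype.ofFinite _
    have h2 : Nat.card Z = Nat.card {x : Fib // x ≠ ⟨θ, hself θ hθ⟩} := by
      apply Nat.card_congr
      exact
        { toFun := fun z => ⟨⟨z.1, z.2.1⟩, fun h => z.2.2 ((hcan z.1 z.2.1).2
            (congrArg Subtype.val h))⟩
          invFun := fun x => ⟨x.1.1, x.1.2, fun hc => x.2 (Subtype.ext ((hcan x.1.1 x.1.2).1 hc))⟩
          left_inv := fun z => rfl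
          right_inv := fun x => rfl }
    rw [h2, Nat.card_eq_fintype_card, Fintype.card_subtype_compl, Fintype.card_subtype_eq,
      ← Nat.card_eq_fintype_card]
    show Nat.card {φ : IrrCharacter (cen P) // can P φ = θ} - 1 = p - 1
    rw [h1]
  have heq' : inertia P θ * Nat.card {χ // r χ ≠ 0} = inertia P θ * inertia P θ + Nat.card Z := by
    rw [hcardR, hcardZ, heq, sq]
  obtain ⟨exc, δ, hinj, hδ, hexc, hrest, hcount⟩ :=
    Cfsg.Agent.Helper59.LatticeXB.lattice_bound_eq s (inertia P θ) hpos hcls r hinv hgram' heq'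
  letI : Fintype (Quotient s) := Fintype.ofFinite _
  have hcardQ : Nat.card Z = inertia P θ * Fintype.card (Quotient s) :=
    Cfsg.Agent.Helper59.LatticeXB.card_eq_mul s (inertia P θ) hcls
  have hδne : ∀ q, δ q ≠ 0 := by
    intro q h
    rcases hδ q with h2 | h2 <;> rw [h2] at h <;> norm_num at h
  -- rows of `exc q` are nonzero
  have hexc_ne : ∀ q, r (exc q) ≠ 0 := by
    intro q h
    obtain ⟨z, rfl⟩ := Quotient.exists_rep q
    have h1 := hexc (Quotient.mk s z) z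
    rw [if_pos rfl, h] at h1
    exact hδne _ h1.symm
  let sgn : IrrCharacter G → ℤ := fun χ =>
    if h : χ ∈ Set.range exc then δ (Classical.choose h)
    else if h' : r χ ≠ 0 then Classical.choose (hrest χ h h') else 1
  have hsgn_def : ∀ χ, sgn χ = if h : χ ∈ Set.range exc then δ (Classical.choose h)
    else if h' : r χ ≠ 0 then Classical.choose (hrest χ h h') else 1 := fun χ => rfl
  have hsgn_exc : ∀ q, sgn (exc q) = δ q := by
    intro q
    have h : exc q ∈ Set.range exc := ⟨q, rfl⟩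
    rw [hsgn_def, dif_pos h]
    congr 1
    exact hinj (Classical.choose_spec h)
  have hsgn_X : ∀ χ, χ ∉ Set.range exc → r χ ≠ 0 →
      (sgn χ = 1 ∨ sgn χ = -1) ∧ ∀ z, r χ z = sgn χ := by
    intro χ h h'
    rw [hsgn_def, dif_neg h, dif_pos h']
    exact Classical.choose_spec (hrest χ h h')
  refine ⟨{χ | χ ∉ Set.range exc ∧ r χ ≠ 0}, Set.range exc, sgn, ?_, ?_, ?_, ?_, ?_, ?_, ?_, ?_, ?_⟩
  · ext χ
    rw [← hRset χ, Set.mem_union, Set.mem_setOf_eq]
    constructor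
    · intro h
      by_cases hr' : χ ∈ Set.range exc
      · right; exact hr'
      · left; exact ⟨hr', h⟩
    · rintro (⟨-, h⟩ | ⟨q, rfl⟩)
      · exact h
      · exact hexc_ne q
  · rw [Set.disjoint_left]
    rintro χ ⟨h1, -⟩ h2
    exact h1 h2
  · exact hcount
  · rw [Nat.card_range_of_injective hinj, ← hcardZ, hcardQ, Nat.mul_div_cancel_left _ hpos,
      Nat.card_eq_fintype_card]
  · intro χ
    by_cases h : χ ∈ Set.range exc
    · obtain ⟨q, rfl⟩ := h
      rw [hsgn_exc]; exact hδ q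
    · by_cases h' : r χ ≠ 0
      · exact (hsgn_X χ h h').1
      · left
        rw [hsgn_def, dif_neg h, dif_neg h']
  · rintro χ ⟨h, h'⟩ φ hφ hφc
    exact (hsgn_X χ h h').2 ⟨φ, hφ, hφc⟩
  · rintro ψ ⟨q, rfl⟩
    obtain ⟨z0, rfl⟩ := Quotient.exists_rep q
    refine ⟨z0.1, z0.2.1, z0.2.2, ?_⟩
    intro φ hφ hφc
    have h1 := hexc (Quotient.mk s z0) ⟨φ, hφ, hφc⟩
    rw [hr] at h1
    rw [hsgn_exc, h1]
    by_cases hc : ∃ n : nor P, n • φ = z0.1
    · rw [if_pos hc, if_pos]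
      exact Quotient.sound (s.symm ((hsr z0 ⟨φ, hφ, hφc⟩).2 hc))
    · rw [if_neg hc, if_neg]
      intro hq
      apply hc
      exact (hsr z0 ⟨φ, hφ, hφc⟩).1 (s.symm (Quotient.exact hq))
  · intro φ hφ hφc
    refine ⟨exc (Quotient.mk s ⟨φ, hφ, hφc⟩), ⟨_, rfl⟩, ?_⟩
    have h1 := hexc (Quotient.mk s ⟨φ, hφ, hφc⟩) ⟨φ, hφ, hφc⟩
    rw [if_pos rfl, hr] at h1
    rw [h1]
    exact hδne _
  · rintro ψ ⟨q, rfl⟩ ψ' ⟨q', rfl⟩ φ hφ hφc h1 h2
    have e1 := hexc q ⟨φ, hφ, hφc⟩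
    have e2 := hexc q' ⟨φ, hφ, hφc⟩
    rw [hr] at e1 e2
    have hq : Quotient.mk s ⟨φ, hφ, hφc⟩ = q := by
      by_contra hne
      rw [if_neg hne] at e1
      exact h1 e1
    have hq' : Quotient.mk s ⟨φ, hφ, hφc⟩ = q' := by
      by_contra hne
      rw [if_neg hne] at e2
      exact h2 e2
    rw [← hq, ← hq']

end Cfsg.Agent.Helper32.DefOneROWS
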