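-- (L) of helper17's WANTED #4955 (S3313, Hall-Janko involution pattern): orbit-fibre counting.
import Mathlib

set_option autoImplicit false

namespace Cfsg.Agent.Helper32.J2P

/-- (L) orbit-fibre counting -/
theorem card_fibred {G β : Type*} [Group G] [Finite G] [Finite β] (act : G → β → β)
    (hact1 : ∀ b, act 1 b = b) (hactm : ∀ g h b, act (g * h) b = act g (act h b)) (x : G)
    (S : G → β → Prop) (hinv : ∀ g a b, S a b → S (g * a * g⁻¹) (act g b))
    (hx : ∀ a b, S a b → IsConj x a) :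
    Nat.card {p : G × β // S p.1 p.2} * Nat.card (Subgroup.centralizer ({x} : Set G)) =
      Nat.card G * Nat.card {b : β // S x b} := by
  classical
  have hγ : ∀ a : G, ∃ g : G, IsConj x a → g * x * g⁻¹ = a := by
    intro a
    by_cases h : IsConj x a
    · obtain ⟨g, hg⟩ := isConj_iff.1 h
      exact ⟨g, fun _ => hg⟩
    · exact ⟨1, fun h' => absurd h' h⟩
  choose γ hγ using hγ
  have hactinv : ∀ (g : G) (b : β), act g⁻¹ (act g b) = b := by
    intro g b
    rw [← hactm, inv_mul_cancel, hact1]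
  have hactinv' : ∀ (g : G) (b : β), act g (act g⁻¹ b) = b := by
    intro g b
    rw [← hactm, mul_inv_cancel, hact1]
  -- forward map
  have hfwd : ∀ (a : G) (b : β) (c : G), S a b → c * x = x * c →
      S x (act (γ a * c)⁻¹ b) := by
    intro a b c hS hc
    have h1 := hinv (γ a * c)⁻¹ a b hS
    have h2 : (γ a * c)⁻¹ * a * (γ a * c)⁻¹⁻¹ = x := by
      have h3 := hγ a (hx a b hS)
      calc (γ a * c)⁻¹ * a * (γ a * c)⁻¹⁻¹
          = (γ a * c)⁻¹ * (γ a * x * (γ a)⁻¹) * (γ a * c)⁻¹⁻¹ := by rw [h3]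
        _ = c⁻¹ * (x * c) := by group
        _ = c⁻¹ * (c * x) := by rw [hc]
        _ = x := by group
    rw [h2] at h1
    exact h1
  -- backward map
  have hbwd1 : ∀ (g : G) (b : β), S x b → S (g * x * g⁻¹) (act g b) := fun g b h => hinv g x b h
  have hbwd2 : ∀ (g : G), (γ (g * x * g⁻¹))⁻¹ * g * x = x * ((γ (g * x * g⁻¹))⁻¹ * g) := by
    intro g
    have h3 := hγ (g * x * g⁻¹) (isConj_iff.2 ⟨g, rfl⟩)
    set k := γ (g * x * g⁻¹) with hk
    have h4 : g * x = k * x * k⁻¹ * g := by rw [h3]; group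
    calc k⁻¹ * g * x = k⁻¹ * (g * x) := by group
      _ = k⁻¹ * (k * x * k⁻¹ * g) := by rw [h4]
      _ = x * (k⁻¹ * g) := by group
  let e : {p : G × β // S p.1 p.2} × Subgroup.centralizer ({x} : Set G) ≃ G × {b : β // S x b} :=
    { toFun := fun pc => (γ pc.1.1.1 * pc.2.1,
        ⟨act (γ pc.1.1.1 * pc.2.1)⁻¹ pc.1.1.2,
          hfwd pc.1.1.1 pc.1.1.2 pc.2.1 pc.1.2 (Subgroup.mem_centralizer_singleton_iff.1 pc.2.2)⟩)
      invFun := fun gb => (⟨(gb.1 * x * gb.1⁻¹, act gb.1 gb.2.1), hbwd1 gb.1 gb.2.1 gb.2.2⟩,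
        ⟨(γ (gb.1 * x * gb.1⁻¹))⁻¹ * gb.1, Subgroup.mem_centralizer_singleton_iff.2 (hbwd2 gb.1)⟩)
      left_inv := by
        rintro ⟨⟨⟨a, b⟩, hS⟩, ⟨c, hc⟩⟩
        have hc' : c * x = x * c := Subgroup.mem_centralizer_singleton_iff.1 hc
        have hS' : S a b := hS
        have h3 := hγ a (hx a b hS')
        have h5 : γ a * c * x * (γ a * c)⁻¹ = a := by
          calc γ a * c * x * (γ a * c)⁻¹ = γ a * (c * x) * c⁻¹ * (γ a)⁻¹ := by group
            _ = γ a * (x * c) * c⁻¹ * (γ a)⁻¹ := by rw [hc']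
            _ = γ a * x * (γ a)⁻¹ := by group
            _ = a := h3
        apply Prod.ext
        · apply Subtype.ext
          apply Prod.ext
          · exact h5
          · exact hactinv' _ _
        · apply Subtype.ext
          show (γ (γ a * c * x * (γ a * c)⁻¹))⁻¹ * (γ a * c) = c
          rw [h5]
          group
      right_inv := by
        rintro ⟨g, ⟨b, hb⟩⟩
        apply Prod.ext
        · show γ (g * x * g⁻¹) * ((γ (g * x * g⁻¹))⁻¹ * g) = g
          group
        · apply Subtype.ext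
          show act (γ (g * x * g⁻¹) * ((γ (g * x * g⁻¹))⁻¹ * g))⁻¹ (act g b) = b
          have : γ (g * x * g⁻¹) * ((γ (g * x * g⁻¹))⁻¹ * g) = g := by group
          rw [this]
          exact hactinv g b }
  rw [← Nat.card_prod, ← Nat.card_prod]
  exact Nat.card_congr e

end Cfsg.Agent.Helper32.J2P
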