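-- (T) of helper17's WANTED #4955 (S3313, Hall-Janko involution pattern): the count n_t = 195.
import Mathlib
import Cfsg.Prelude.Def_TwoFusion
import Cfsg.Agent.Helper25.ProdSup

set_option autoImplicit false

namespace Cfsg.Agent.Helper32.J2P

/-- pairs of involutions of `A₅` with product of odd order: `15 * 13 = 195`. -/
theorem cnt195 : Fintype.card {q : alternatingGroup (Fin 5) × alternatingGroup (Fin 5) //
    (q.1 ^ 2 = 1 ∧ q.1 ≠ 1) ∧ (q.2 ^ 2 = 1 ∧ q.2 ≠ 1) ∧ (q.1 * q.2) ^ 15 = 1} = 195 := by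
  decide +kernel

/-- the same count in any group isomorphic to `A₅`. -/
lemma card_pairs_of_equiv {B : Type*} [Group B] (e : B ≃* alternatingGroup (Fin 5)) :
    Nat.card {q : B × B // (q.1 ^ 2 = 1 ∧ q.1 ≠ 1) ∧ (q.2 ^ 2 = 1 ∧ q.2 ≠ 1) ∧
      (q.1 * q.2) ^ 15 = 1} = 195 := by
  rw [← cnt195, ← Nat.card_eq_fintype_card]
  apply Nat.card_congr
  refine Equiv.subtypeEquiv (Equiv.prodCongr e.toEquiv e.toEquiv) ?_
  rintro ⟨a, b⟩
  have h1 : ∀ x : B, (x ^ 2 = 1 ∧ x ≠ 1) ↔ ((e x) ^ 2 = 1 ∧ e x ≠ 1) := by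
    intro x
    rw [← map_pow, map_eq_one_iff e e.injective, Ne, Ne, map_eq_one_iff e e.injective]
  have h2 : (a * b) ^ 15 = 1 ↔ (e a * e b) ^ 15 = 1 := by
    rw [← map_mul, ← map_pow, map_eq_one_iff e e.injective]
  show _ ↔ ((e a) ^ 2 = 1 ∧ e a ≠ 1) ∧ ((e b) ^ 2 = 1 ∧ e b ≠ 1) ∧ (e a * e b) ^ 15 = 1
  rw [← h1, ← h1, ← h2]

lemma sq_of_isConj {G : Type*} [Group G] {x y : G} (h : IsConj x y) (hx : x ^ 2 = 1) (hx1 : x ≠ 1) :
    y ^ 2 = 1 ∧ y ≠ 1 := by
  obtain ⟨c, rfl⟩ := isConj_iff.1 h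
  refine ⟨by rw [conj_pow, hx]; group, ?_⟩
  intro h1
  apply hx1
  have : x = c⁻¹ * (c * x * c⁻¹) * c := by group
  rw [this, h1]; group

/-- (T) -/
theorem card_nt {G : Type*} [Group G] [Finite G] (z t : G) (hz : orderOf z = 2) (ht : orderOf t = 2)
    (hzt : ¬ IsConj z t) (V B : Subgroup G)
    (hVB : Cfsg.IsInternalDirectProduct V B (Subgroup.centralizer ({t} : Set G)))
    (hV2 : ∀ v ∈ V, v ^ 2 = 1) (htV : t ∈ V) (hB : Nonempty (↥B ≃* alternatingGroup (Fin 5)))
    (hBz : ∀ x ∈ B, orderOf x = 2 → IsConj x z)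
    (hCt : ∀ x ∈ Subgroup.centralizer ({t} : Set G), orderOf x = 2 → x ∉ B → IsConj x t) :
    Nat.card {p : G × G // IsConj z p.1 ∧ IsConj t p.2 ∧ t ∈ Subgroup.zpowers (p.1 * p.2)} = 195 := by
  obtain ⟨e⟩ := hB
  obtain ⟨hVC, hBC, hcomm, hdisj, hsup⟩ := hVB
  haveI : Fact (Nat.Prime 2) := ⟨Nat.prime_two⟩
  have ht2 : t ^ 2 = 1 := by rw [← ht]; exact pow_orderOf_eq_one t
  have ht1 : t ≠ 1 := by
    intro h; rw [h, orderOf_one] at ht; omega
  have hz2 : z ^ 2 = 1 := by rw [← hz]; exact pow_orderOf_eq_one z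
  have hz1 : z ≠ 1 := by
    intro h; rw [h, orderOf_one] at hz; omega
  have htt : t * t = 1 := by rw [← pow_two]; exact ht2
  have hmemC : ∀ x : G, x ∈ Subgroup.centralizer ({t} : Set G) ↔ x * t = t * x := fun x =>
    Subgroup.mem_centralizer_singleton_iff
  have htC : t ∈ Subgroup.centralizer ({t} : Set G) := (hmemC t).2 rfl
  have htnB : t ∉ B := by
    intro h
    have : t ∈ V ⊓ B := ⟨htV, h⟩
    rw [hdisj, Subgroup.mem_bot] at this
    exact ht1 this
  have hcardB : Nat.card B = 60 := by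
    rw [Nat.card_congr e.toEquiv, Nat.card_eq_fintype_card]
    decide +kernel
  have hpow60 : ∀ x ∈ B, x ^ 60 = 1 := by
    intro x hx
    have h := pow_card_eq_one' (G := B) (x := ⟨x, hx⟩)
    rw [hcardB] at h
    have := congrArg Subtype.val h
    simpa using this
  -- the predicate on the `B`-side
  let Q : G × G → Prop := fun q => q.1 ∈ B ∧ q.2 ∈ B ∧ (q.1 ^ 2 = 1 ∧ q.1 ≠ 1) ∧
    (q.2 ^ 2 = 1 ∧ q.2 ≠ 1) ∧ (q.1 * q.2) ^ 15 = 1
  -- Step A
  have hA : ∀ p : G × G, (IsConj z p.1 ∧ IsConj t p.2 ∧ t ∈ Subgroup.zpowers (p.1 * p.2)) ↔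
      Q ((Equiv.prodCongr (Equiv.refl G) (Equiv.mulLeft t)) p) := by
    rintro ⟨a, b⟩
    show (IsConj z a ∧ IsConj t b ∧ t ∈ Subgroup.zpowers (a * b)) ↔
      (a ∈ B ∧ t * b ∈ B ∧ (a ^ 2 = 1 ∧ a ≠ 1) ∧ ((t * b) ^ 2 = 1 ∧ t * b ≠ 1) ∧
        (a * (t * b)) ^ 15 = 1)
    constructor
    · rintro ⟨hza, htb, hmem⟩
      obtain ⟨ha2, ha1⟩ := sq_of_isConj hza hz2 hz1
      obtain ⟨hb2, hb1⟩ := sq_of_isConj htb ht2 ht1
      have hainv : a⁻¹ = a := by
        rw [inv_eq_iff_mul_eq_one, ← pow_two]; exact ha2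
      have hbinv : b⁻¹ = b := by
        rw [inv_eq_iff_mul_eq_one, ← pow_two]; exact hb2
      obtain ⟨k, hk⟩ := Subgroup.mem_zpowers_iff.1 hmem
      have htinv : t⁻¹ = t := by
        rw [inv_eq_iff_mul_eq_one]; exact htt
      -- a, b centralize t
      have hconja : a * (a * b) * a⁻¹ = (a * b)⁻¹ := by
        rw [mul_inv_rev, hainv, hbinv, ← mul_assoc, ← pow_two, ha2, one_mul]
      have hconjb : b * (a * b) * b⁻¹ = (a * b)⁻¹ := by
        rw [mul_inv_rev, hainv, hbinv]
        have : b * (a * b) * b = b * a * (b * b) := by group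
        rw [this, ← pow_two, hb2, mul_one]
      have hat : a * t * a⁻¹ = t := by
        rw [← hk, ← conj_zpow, hconja, inv_zpow, hk, htinv]
      have hbt : b * t * b⁻¹ = t := by
        rw [← hk, ← conj_zpow, hconjb, inv_zpow, hk, htinv]
      have haC : a ∈ Subgroup.centralizer ({t} : Set G) := by
        rw [hmemC]
        calc a * t = a * t * a⁻¹ * a := by group
          _ = t * a := by rw [hat]
      have hbC : b ∈ Subgroup.centralizer ({t} : Set G) := by
        rw [hmemC]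
        calc b * t = b * t * b⁻¹ * b := by group
          _ = t * b := by rw [hbt]
      have hoa : orderOf a = 2 := orderOf_eq_prime ha2 ha1
      have hob : orderOf b = 2 := orderOf_eq_prime hb2 hb1
      have haB : a ∈ B := by
        by_contra hna
        exact hzt (hza.trans (hCt a haC hoa hna))
      have hbnB : b ∉ B := by
        intro hbB
        exact hzt ((htb.trans (hBz b hbB hob)).symm)
      -- decompose b
      have hbsup : b ∈ V ⊔ B := by rw [hsup]; exact hbC
      obtain ⟨v, b', hvb⟩ := Cfsg.Agent.Helper25.exists_mul_of_mem_sup hdisj hcomm ⟨b, hbsup⟩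
      have hvb' : b = (v : G) * (b' : G) := hvb
      have hv2 : (v : G) ^ 2 = 1 := hV2 v v.2
      have hcv : ∀ x ∈ B, Commute (v : G) x := fun x hx => hcomm v v.2 x hx
      have hab'B : a * (b' : G) ∈ B := B.mul_mem haB b'.2
      have hab : a * b = (v : G) * (a * (b' : G)) := by
        rw [hvb', ← mul_assoc, ← (hcv a haB).eq, mul_assoc]
      have hk' : (v : G) ^ k * (a * (b' : G)) ^ k = t := by
        rw [← (hcv _ hab'B).mul_zpow, ← hab, hk]
      have hBk : (a * (b' : G)) ^ k ∈ B := B.zpow_mem hab'B k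
      have hVk : (a * (b' : G)) ^ k ∈ V := by
        have : (a * (b' : G)) ^ k = ((v : G) ^ k)⁻¹ * t := by rw [← hk']; group
        rw [this]
        exact V.mul_mem (V.inv_mem (V.zpow_mem v.2 k)) htV
      have hone : (a * (b' : G)) ^ k = 1 := by
        have : (a * (b' : G)) ^ k ∈ V ⊓ B := ⟨hVk, hBk⟩
        rw [hdisj, Subgroup.mem_bot] at this
        exact this
      have hvk : (v : G) ^ k = t := by rw [hone, mul_one] at hk'; exact hk'
      -- k is odd, v = t
      obtain ⟨m, hm | hm⟩ := Int.even_or_odd' k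
      · exfalso
        apply ht1
        rw [← hvk, hm, zpow_mul, zpow_ofNat, hv2, one_zpow]
      · have hvt : (v : G) = t := by
          rw [← hvk, hm, zpow_add, zpow_mul, zpow_ofNat, hv2, one_zpow, one_mul, zpow_one]
        have htb' : t * b = (b' : G) := by
          rw [hvb', hvt, ← mul_assoc, htt, one_mul]
        rw [htb']
        have hb'2 : (b' : G) ^ 2 = 1 := by
          have h1 : b ^ 2 = (v : G) ^ 2 * (b' : G) ^ 2 := by
            rw [hvb', (hcv _ b'.2).mul_pow]
          rw [hb2, hv2, one_mul] at h1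
          exact h1.symm
        have hb'1 : (b' : G) ≠ 1 := by
          intro h1
          rw [h1, mul_one, hm, zpow_add, zpow_mul, zpow_ofNat, ha2, one_zpow, one_mul,
            zpow_one] at hone
          exact ha1 hone
        refine ⟨haB, b'.2, ⟨ha2, ha1⟩, ⟨hb'2, hb'1⟩, ?_⟩
        -- order of a b' divides gcd(k,60), odd
        set g : G := a * (b' : G) with hg
        have hd60 : orderOf g ∣ 60 := orderOf_dvd_of_pow_eq_one (hpow60 g hab'B)
        have hdk : (orderOf g : ℤ) ∣ k := orderOf_dvd_iff_zpow_eq_one.2 hone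
        have hodd : Nat.Coprime (orderOf g) 4 := by
          have h2 : ¬ 2 ∣ orderOf g := by
            intro h2
            have h3 : (2 : ℤ) ∣ k := dvd_trans (by exact_mod_cast h2) hdk
            rw [hm] at h3
            omega
          have : Nat.Coprime (orderOf g) 2 := by
            rw [Nat.coprime_comm, Nat.Prime.coprime_iff_not_dvd Nat.prime_two]
            exact h2
          have h4 : (4 : ℕ) = 2 ^ 2 := by norm_num
          rw [h4]
          exact Nat.Coprime.pow_right 2 this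
        have hd15 : orderOf g ∣ 15 := by
          have h60 : (60 : ℕ) = 4 * 15 := by norm_num
          rw [h60] at hd60
          exact Nat.Coprime.dvd_of_dvd_mul_left hodd hd60
        exact orderOf_dvd_iff_pow_eq_one.1 hd15
    · rintro ⟨haB, hb'B, ⟨ha2, ha1⟩, ⟨hb'2, hb'1⟩, h15⟩
      set b' : G := t * b with hb'
      have hb : b = t * b' := by rw [hb', ← mul_assoc, htt, one_mul]
      have hoa : orderOf a = 2 := orderOf_eq_prime ha2 ha1
      have hct : ∀ x ∈ B, Commute t x := fun x hx => hcomm t htV x hx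
      have hbC : b ∈ Subgroup.centralizer ({t} : Set G) := by
        rw [hb]
        exact Subgroup.mul_mem _ htC (hBC hb'B)
      have hbnB : b ∉ B := by
        intro hbB
        apply htnB
        have : t = b * b'⁻¹ := by rw [hb]; group
        rw [this]
        exact B.mul_mem hbB (B.inv_mem hb'B)
      have hb2 : b ^ 2 = 1 := by
        rw [hb, (hct b' hb'B).mul_pow, ht2, hb'2, one_mul]
      have hb1 : b ≠ 1 := by
        intro h1
        apply hbnB
        rw [h1]; exact B.one_mem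
      have hob : orderOf b = 2 := orderOf_eq_prime hb2 hb1
      refine ⟨(hBz a haB hoa).symm, (hCt b hbC hob hbnB).symm, ?_⟩
      have hpow : (a * b) ^ 15 = t := by
        have h1 : a * b = t * (a * b') := by
          rw [hb, ← mul_assoc, ← (hct a haB).eq, mul_assoc]
        rw [h1, (hct _ (B.mul_mem haB hb'B)).mul_pow, h15, mul_one]
        have : t ^ 15 = (t ^ 2) ^ 7 * t := by group
        rw [this, ht2, one_pow, one_mul]
      rw [← hpow]
      exact Subgroup.npow_mem_zpowers _ _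
  -- Step B
  rw [Nat.card_congr (Equiv.subtypeEquiv _ hA)]
  rw [← card_pairs_of_equiv e]
  apply Nat.card_congr
  refine
    { toFun := fun q => ⟨(⟨q.1.1, q.2.1⟩, ⟨q.1.2, q.2.2.1⟩), ?_⟩
      invFun := fun q => ⟨((q.1.1 : G), (q.1.2 : G)), ?_⟩
      left_inv := fun q => rfl
      right_inv := fun q => rfl }
  · obtain ⟨_, _, ⟨h1, h2⟩, ⟨h3, h4⟩, h5⟩ := q.2
    refine ⟨⟨Subtype.ext (by simpa using h1), fun h => h2 (by simpa using congrArg Subtype.val h)⟩,
      ⟨Subtype.ext (by simpa using h3), fun h => h4 (by simpa using congrArg Subtype.val h)⟩,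
      Subtype.ext (by simpa using h5)⟩
  · obtain ⟨⟨h1, h2⟩, ⟨h3, h4⟩, h5⟩ := q.2
    refine ⟨q.1.1.2, q.1.2.2, ⟨by simpa using congrArg Subtype.val h1, fun h => h2 (Subtype.ext h)⟩,
      ⟨by simpa using congrArg Subtype.val h3, fun h => h4 (Subtype.ext h)⟩,
      by simpa using congrArg Subtype.val h5⟩

end Cfsg.Agent.Helper32.J2P
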