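import Mathlib
import Cfsg.Prelude.Def_OddOrderLocal
import Cfsg.Agent.Helper29.BG11A

set_option autoImplicit false

/-!
# σ-partition (B-G Theorem 13.9 / S1378(2)): common definitions (helper32)

Route (board #3398 helper53, #3162 helper57): reduction to the configuration `(Σ0)` and
Lemma Σ (`(Σ0)` is impossible).  Only non-landed input: S1428 (= B-G 13.4), as the Prop `H1428`.
-/

namespace Cfsg.Agent.Helper32.BGSigma

open Cfsg Cfsg.Agent.Helper29 Cfsg.Agent.Helper29.BG10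

variable {G : Type*} [Group G] [Finite G]

/-- the statement of S1428 (B-G Theorem 13.4) for all maximal subgroups, as a hypothesis -/
def H1428 (G : Type*) [Group G] : Prop :=
  ∀ (M : Subgroup G), IsCoatom M → ∀ E : Subgroup G, Cfsg.IsComplIn E (Cfsg.sigmaCore M) M →
    ∀ p : ℕ, p ∈ Cfsg.tau1 M → ∀ P : Subgroup G, P ≤ E → Nat.card P = p →
      ∀ R : Subgroup G, R ≤ E ⊓ Subgroup.centralizer (P : Set G) → (Nat.card R).Prime →
        Cfsg.sigmaCore M ⊓ Subgroup.centralizer (P : Set G) ≤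
          Cfsg.sigmaCore M ⊓ Subgroup.centralizer (R : Set G)

/-- the configuration `(Σ0)` (one-sided in `p`): `M`, `L` non-conjugate maximal subgroups,
`q ∈ σ(M) ∩ σ(L)`, `S` a Sylow `q`-subgroup of `G` with `N_G(S) ≤ M ∩ L`, `P ≤ N_G(S)` of prime order
`p ∈ τ₁(M)` with `S = [S, P]`. -/
structure Cfg (M L S P : Subgroup G) (q p : ℕ) : Prop where
  hM : IsCoatom M
  hL : IsCoatom L
  hnc : ∀ g : G, cj g M ≠ L
  hqM : q ∈ Cfsg.sigma M
  hqL : q ∈ Cfsg.sigma L
  hS : IsSylowIn q S ⊤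
  hNS : Subgroup.normalizer (S : Set G) ≤ M ⊓ L
  hpM : p ∈ Cfsg.tau1 M
  hPc : Nat.card P = p
  hPS : P ≤ Subgroup.normalizer (S : Set G)
  hSP : ⁅S, P⁆ = S

end Cfsg.Agent.Helper32.BGSigma
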