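import Mathlib
import Cfsg.Prelude.Def_OddOrderLocal
import Cfsg.Agent.Helper32.BGSigmaDefs
import Cfsg.Agent.Helper63.BGSigmaCfg
import Cfsg.Agent.Helper25.BGSigmaR1
import Cfsg.Agent.Helper2.SubSZ
import Cfsg.Agent.Helper23.BG13D
import Cfsg.Agent.Helper23.BG13E
import Cfsg.Agent.Helper71.BG13W2
import Cfsg.Agent.Helper71.BG11Leaf
import Cfsg.Agent.Helper71.BGHall
import Cfsg.Agent.Helper64.BG1217D
import Cfsg.Agent.Helper22.BGCor107b
import Cfsg.Agent.Helper31.BGTrans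
import Cfsg.Agent.S0055
import Cfsg.Agent.S1403
import Cfsg.Agent.S1411
import Cfsg.Agent.S1414
import Cfsg.Agent.S1415
import Cfsg.Agent.S1416
import Cfsg.Agent.S1417
import Cfsg.Agent.S1418
import Cfsg.Agent.S1422
import Cfsg.Agent.S1423
import Cfsg.Agent.S1427
import Cfsg.Agent.S1428

set_option autoImplicit false
set_option linter.unusedVariables false
set_option linter.unusedSectionVars false
set_option linter.style.haveILetI false

/-!
# σ-partition (B-G Theorem 13.9 = S1378(2)): reduction to `(Σ0)` and the theorem (helper32)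

`exists_cfg`: if `q ∈ σ(M) ∩ σ(L)` for non-conjugate maximal subgroups `M`, `L`, and `S` is a Sylow
`q`-subgroup of `G` with `N_G(S) ≤ M ∩ L`, then the configuration `(Σ0)` (`Cfg`) occurs.
Together with Lemma Σ (helper53 / helper63) this gives `sigma_partition`.
-/

namespace Cfsg.Agent.Helper32.BGSigma

open Cfsg Cfsg.Agent.Helper29 Cfsg.Agent.Helper29.BG10 Cfsg.Agent.Helper29.BG11
open scoped commutatorElement

variable {G : Type*} [Group G] [Finite G]

theorem uThm (hG : Cfsg.IsMinSimpleOddOrder G) : UniquenessThm G :=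
  fun K hK hK2 hK3 => Cfsg.Agent.S1403.result hG K hK hK2 hK3

theorem normalComplComm_of (hG : Cfsg.IsMinSimpleOddOrder G) :
    Cfsg.Agent.Helper23.BG13.NormalComplComm G :=
  fun H hH q hq hqH hqβ => ((Cfsg.Agent.S1414.result hG H hH).2.2.2.2 q hq hqH hqβ).1

theorem lemmaA3_of' (hG : Cfsg.IsMinSimpleOddOrder G) : Cfsg.Agent.Helper23.BG13.LemmaA3 G := by
  have hU := uThm hG
  have hW : Cfsg.Agent.Helper23.BG13.NilpHallSigma G :=
    fun L hL => (Cfsg.Agent.S1414.result hG L hL).2.2.2.1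
  have hβ : Cfsg.Agent.Helper64.BG1217D.BetaHall G :=
    fun L hL => (Cfsg.Agent.S1414.result hG L hL).1
  have hidx : Cfsg.Agent.Helper64.BG1217D.H1414idx G :=
    fun L hL s hs hsL hsβ => ((Cfsg.Agent.S1414.result hG L hL).2.2.2.2 s hs hsL hsβ).2.2
  have h1416 : Cfsg.Agent.Helper23.BG13.H1416 G :=
    fun L hL q _ A hAL hAe hAc => (Cfsg.Agent.S1416.result hG L hL q A ⟨hAL, hAe, hAc⟩).1
  have h1417 : Cfsg.Agent.Helper23.BG13.H1417 G := by
    intro L hL q _ hq A hAL hAe hAc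
    have h := Cfsg.Agent.S1417.result hG L hL q hq A ⟨hAL, hAe, hAc⟩
    exact ⟨h.1, fun P => (h.2.1 P).1, h.2.2.1, h.2.2.2.2.1⟩
  have h1418 : Cfsg.Agent.Helper64.BG1217D.H1418 G := by
    intro L hL E' hE' s _ hs A hAE hAe hAc
    have h := Cfsg.Agent.S1418.result hG L hL E' hE' s hs A ⟨hAE, hAe, hAc⟩
    exact h.2.1.1.trans (le_of_eq h.2.1.2.1)
  have h1418n : ∀ (H E' : Subgroup G) (x : ℕ) [Fact x.Prime] (A : Subgroup G), IsCoatom H →
      Cfsg.IsComplIn E' (Cfsg.sigmaCore H) H → x ∈ Cfsg.tau2 H → A ≤ E' →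
      Cfsg.IsElementaryAbelian x A → Nat.card A = x ^ 2 →
      E' ≤ Subgroup.normalizer (A : Set G) :=
    fun H E' x _ A hH hE' hx hAE hAe hAc =>
      (Cfsg.Agent.S1418.result hG H hH E' hE' x hx A ⟨hAE, hAe, hAc⟩).1.1
  have h17 : ∀ L : Subgroup G, IsCoatom L → Cfsg.Agent.Helper64.BG1218.Hyp1217 L :=
    fun L hL => Cfsg.Agent.Helper64.BG1217D.hyp1217_of hG hU h1416 h1417 h1418 hW hβ hidx hL
  exact fun L H hL hH hnc x _ hx hxL hxσ =>
    Cfsg.Agent.Helper71.BG13W2.lemma_A_tau2 hG hU h17 h1417 h1418n hL hH hnc hx hxL hxσ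

/-- Lemma A (B-G 13.1(a),(b)), unconditional form -/
theorem lemmaA (hG : Cfsg.IsMinSimpleOddOrder G) {M H : Subgroup G} (hM : IsCoatom M)
    (hH : IsCoatom H) (hnc : ∀ g : G, cj g M ≠ H) {x : ℕ} [Fact x.Prime]
    (hxσ : x ∉ Cfsg.sigma M) {X₀ : Subgroup G} (hX : IsPGroup x X₀) (hX1 : X₀ ≠ ⊥)
    (hXM : X₀ ≤ M) (hXH : X₀ ≤ H) (hx1 : x ∉ Cfsg.tau1 H) :
    ⁅Cfsg.sigmaCore M ⊓ H, X₀⁆ = ⊥ :=
  Cfsg.Agent.Helper23.BG13.lemma_A hG (uThm hG) (normalComplComm_of hG) (lemmaA3_of' hG) hM hH hnc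
    hxσ hX hX1 hXM hXH hx1

theorem ncj_symm {M L : Subgroup G} (hnc : ∀ g : G, cj g M ≠ L) : ∀ g : G, cj g L ≠ M := by
  intro g hg
  apply hnc g⁻¹
  rw [← hg, cj_inv_cj]

/-- a `q`-subgroup lying in two distinct maximal subgroups is abelian (S1422) -/
theorem isMulCommutative_of_le_of_le (hG : Cfsg.IsMinSimpleOddOrder G) {M L S : Subgroup G}
    {q : ℕ} [Fact q.Prime] (hM : IsCoatom M) (hL : IsCoatom L) (hne : M ≠ L)
    (hSq : IsPGroup q S) (hSM : S ≤ M) (hSL : S ≤ L) : IsMulCommutative S := by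
  by_contra hna
  obtain ⟨K, -, hK⟩ := Cfsg.Agent.S1422.result hG q S hSq hna
  exact hne ((hK M ⟨hM, hSM⟩).trans (hK L ⟨hL, hSL⟩).symm)


theorem isPGroup_of_card_eq' {p : ℕ} [hp : Fact p.Prime] {P : Subgroup G} (h : Nat.card P = p) :
    IsPGroup p P := IsPGroup.of_card (n := 1) (by rw [h, pow_one])

theorem ne_bot_of_card_eq_prime' {p : ℕ} (hp : p.Prime) {P : Subgroup G} (h : Nat.card P = p) :
    P ≠ ⊥ := by
  intro hb
  rw [hb, Subgroup.card_bot] at h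
  exact hp.one_lt.ne h

/-- `X ≤ C_G(S)` from `[S, X] = 1` -/
theorem le_centralizer_of_commutator_eq_bot {S X : Subgroup G} (h : ⁅S, X⁆ = ⊥) :
    X ≤ Subgroup.centralizer (S : Set G) := by
  rw [Subgroup.commutator_comm] at h
  exact Subgroup.commutator_eq_bot_iff_le_centralizer.1 h

/-- a Sylow `q`-subgroup of `G` inside `M_σ` and inside a second maximal subgroup: `q ∉ β(M)`
(S1423) -/
theorem not_mem_beta_of_le (hG : Cfsg.IsMinSimpleOddOrder G) {M L S : Subgroup G}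
    {q : ℕ} [Fact q.Prime] (hM : IsCoatom M) (hL : IsCoatom L) (hne : M ≠ L)
    (hqM : q ∈ Cfsg.sigma M) (hS : IsSylowIn q S ⊤) (hSM : S ≤ M) (hSL : S ≤ L) (hS1 : S ≠ ⊥) :
    q ∉ Cfsg.beta M := by
  intro hβ
  have hU := uThm hG
  have hSσ : S ≤ Cfsg.sigmaCore M :=
    Cfsg.Agent.Helper71.BG11.le_sigmaCore_of_isPGroup hG hU hM hqM hS.2.1 hSM
  have hSyl : IsSylowIn q S (Cfsg.sigmaCore M) :=
    Cfsg.Agent.Helper71.BG11.isSylowIn_of_top hS hSσ
  obtain ⟨P, hP⟩ := IsSylowIn.exists_sylow hSyl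
  obtain ⟨X, hXS, hXc⟩ := Cfsg.Agent.Helper63.BGSigma.exists_card_eq_prime_le hS.2.1 hS1
  have h := (Cfsg.Agent.S1423.result hG M hM q hqM X (hXS.trans hSM) hXc P (Or.inl hβ)).2.1
  rw [hP] at h
  obtain ⟨K, -, hK⟩ := h
  exact hne ((hK M ⟨hM, hSM⟩).trans (hK L ⟨hL, hSL⟩).symm)

/-- `N_{M_σ}(S) ≤ C_G(S)` for an abelian Sylow `q`-subgroup `S` of `M_σ`, `q ∉ β(M)` (S1414) -/
theorem inf_normalizer_le_centralizer (hG : Cfsg.IsMinSimpleOddOrder G) {M S : Subgroup G}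
    {q : ℕ} [Fact q.Prime] (hM : IsCoatom M) (hqM : q ∈ Cfsg.sigma M) (hqβ : q ∉ Cfsg.beta M)
    (hSq : IsPGroup q S) (hSσ : S ≤ Cfsg.sigmaCore M)
    (hSyl : ¬ q ∣ S.relIndex (Cfsg.sigmaCore M)) (hSab : IsMulCommutative S) :
    Cfsg.sigmaCore M ⊓ Subgroup.normalizer (S : Set G) ≤ Subgroup.centralizer (S : Set G) := by
  have hqp : q.Prime := Fact.out
  have hU := uThm hG
  have hMsM : Cfsg.sigmaCore M ≤ M := (thm_10_2_sigma hG hU M hM).1.1
  have hSM : S ≤ M := hSσ.trans hMsM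
  have hnpc : Cfsg.HasNormalPComplement q ↥(Cfsg.sigmaCore M) :=
    ((Cfsg.Agent.S1414.result hG M hM).2.2.2.2 q hqp hqM.2.1 hqβ).2.1
  obtain ⟨O, hOM, hMO, hqO, hOall⟩ := Cfsg.Agent.Helper23.BG13.exists_normal_qcompl
    (Cfsg.Agent.Helper29.BG11.le_normalizer_sigmaCore M) hnpc
  -- Schur–Zassenhaus in `W = M_σ ∩ N(S)`
  set W : Subgroup G := Cfsg.sigmaCore M ⊓ Subgroup.normalizer (S : Set G) with hW
  have hSW : S ≤ W := le_inf hSσ Subgroup.le_normalizer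
  have hdvd : S.relIndex W ∣ S.relIndex (Cfsg.sigmaCore M) := by
    rw [← Subgroup.relIndex_mul_relIndex S W (Cfsg.sigmaCore M) hSW inf_le_left]
    exact dvd_mul_right _ _
  have hcop : (Nat.card S).Coprime (S.relIndex W) := by
    obtain ⟨k, hk⟩ := IsPGroup.iff_card.1 hSq
    rw [hk]
    apply Nat.Coprime.pow_left
    rw [Nat.Prime.coprime_iff_not_dvd hqp]
    exact fun h => hSyl (h.trans hdvd)
  obtain ⟨T, hTW, hST, hfac, hTc⟩ := Cfsg.Agent.Helper2.exists_compl_of_coprime_relIndex S W hSW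
    inf_le_right hcop
  -- `T ≤ O`
  have hTO : T ≤ O := by
    apply hOall T (hTW.trans inf_le_left)
    rw [hTc]
    exact ((Nat.Prime.coprime_iff_not_dvd hqp).2 (fun h => hSyl (h.trans hdvd))).symm
  have hOS : O ⊓ S = ⊥ := by
    apply Cfsg.Agent.Helper71.BG11.eq_bot_of_forall_prime_not_dvd
    intro r hr hd
    have h1 : r ∣ Nat.card S := hd.trans (Subgroup.card_dvd_of_le inf_le_right)
    have h2 : r ∣ Nat.card O := hd.trans (Subgroup.card_dvd_of_le inf_le_left)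
    have : r = q := Cfsg.Agent.Helper23.BG13.eq_of_prime_dvd_card_pgroup hSq hr h1
    exact hqO (this ▸ h2)
  have hSc := (Cfsg.Agent.Helper23.isMulCommutative_subgroup_iff S).mp hSab
  intro w hw
  obtain ⟨a, ha, c, hc, rfl⟩ := hfac w hw
  rw [Subgroup.mem_centralizer_iff]
  intro s hs
  -- `c` centralizes `s`
  have hcN : c ∈ Subgroup.normalizer (S : Set G) := (hTW hc).2
  have hcs : c * s * c⁻¹ * s⁻¹ ∈ O ⊓ S := by
    refine Subgroup.mem_inf.2 ⟨?_, ?_⟩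
    · have h1 : s * c⁻¹ * s⁻¹ ∈ O := by
        have hn := hMO (hSM hs)
        exact (Subgroup.mem_normalizer_iff.1 hn c⁻¹).1 (inv_mem (hTO hc))
      have h2 : c * s * c⁻¹ * s⁻¹ = c * (s * c⁻¹ * s⁻¹) := by group
      rw [h2]; exact mul_mem (hTO hc) h1
    · exact mul_mem ((Subgroup.mem_normalizer_iff.1 hcN s).1 hs) (inv_mem hs)
  rw [hOS, Subgroup.mem_bot] at hcs
  have h3 : c * s = s * c := by
    have h2 : c * s = (c * s * c⁻¹ * s⁻¹) * (s * c) := by group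
    rw [h2, hcs, one_mul]
  calc s * (a * c) = (s * a) * c := by group
    _ = (a * s) * c := by rw [hSc s hs a ha]
    _ = a * (s * c) := by group
    _ = a * (c * s) := by rw [h3]
    _ = a * c * s := by group


/-- `|E|` is prime to `q` for a complement `E` of `M_σ` and `q ∈ σ(M)` -/
theorem coprime_card_compl (hG : Cfsg.IsMinSimpleOddOrder G) {M E S : Subgroup G}
    {q : ℕ} [Fact q.Prime] (hM : IsCoatom M) (hE : Cfsg.IsComplIn E (Cfsg.sigmaCore M) M)
    (hqM : q ∈ Cfsg.sigma M) (hSq : IsPGroup q S) : (Nat.card E).Coprime (Nat.card S) := by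
  have hqp : q.Prime := Fact.out
  have hctx := Cfsg.Agent.Helper68.BG12.eCtx_of hG (uThm hG) hM hE
  obtain ⟨k, hk⟩ := IsPGroup.iff_card.1 hSq
  rw [hk]
  apply Nat.Coprime.pow_right
  exact ((Nat.Prime.coprime_iff_not_dvd hqp).2 (fun h => hctx.not_sigma_of_dvd q hqp h hqM)).symm

/-- the complement `E ≤ N_G(S)` of `M_σ` with `C_S(E) = 1` -/
theorem exists_compl_fpf (hG : Cfsg.IsMinSimpleOddOrder G) {M L S : Subgroup G}
    {q : ℕ} [Fact q.Prime] (hM : IsCoatom M) (hL : IsCoatom L) (hne : M ≠ L)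
    (hqM : q ∈ Cfsg.sigma M) (hS : IsSylowIn q S ⊤)
    (hNS : Subgroup.normalizer (S : Set G) ≤ M ⊓ L) :
    ∃ E : Subgroup G, Cfsg.IsComplIn E (Cfsg.sigmaCore M) M ∧
      E ≤ Subgroup.normalizer (S : Set G) ∧ IsMulCommutative S ∧
      S ⊓ Subgroup.centralizer (E : Set G) = ⊥ := by
  have hqp : q.Prime := Fact.out
  have hU := uThm hG
  have hSM : S ≤ M := (Subgroup.le_normalizer.trans hNS).trans inf_le_left
  have hSL : S ≤ L := (Subgroup.le_normalizer.trans hNS).trans inf_le_right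
  have hS1 : S ≠ ⊥ := by
    intro hb
    have := hS.2.2
    rw [hb, Subgroup.relIndex_bot_left] at this
    exact this (hqM.2.1.trans (Subgroup.card_dvd_of_le le_top))
  have hSab : IsMulCommutative S := isMulCommutative_of_le_of_le hG hM hL hne hS.2.1 hSM hSL
  have hqβ : q ∉ Cfsg.beta M := not_mem_beta_of_le hG hM hL hne hqM hS hSM hSL hS1
  have hSσ : S ≤ Cfsg.sigmaCore M :=
    Cfsg.Agent.Helper71.BG11.le_sigmaCore_of_isPGroup hG hU hM hqM hS.2.1 hSM
  have hSyl : IsSylowIn q S (Cfsg.sigmaCore M) :=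
    Cfsg.Agent.Helper71.BG11.isSylowIn_of_top hS hSσ
  obtain ⟨hHall, -, -⟩ := thm_10_2_sigma hG hU M hM
  have hcopσ : (Nat.card (Cfsg.sigmaCore M)).Coprime ((Cfsg.sigmaCore M).relIndex M) :=
    Cfsg.Agent.Helper62.isPiHallOf_coprime hHall
  obtain ⟨E, hEle, hE⟩ := Cfsg.Agent.Helper25.BGSigmaR1.exists_compl_le M
    (Subgroup.normalizer (S : Set G)) (Cfsg.sigmaCore M) S hHall.1
    (Cfsg.Agent.Helper29.BG11.le_normalizer_sigmaCore M) hcopσ hSσ hS.2.1 hSyl.2.2 inf_le_right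
  have hEN : E ≤ Subgroup.normalizer (S : Set G) := hEle.trans inf_le_right
  refine ⟨E, hE, hEN, hSab, ?_⟩
  -- `S = [S, V]` for a complement `V` of `S` in `N_G(S)`
  have hidx : ¬ q ∣ S.index := by
    have := hS.2.2
    rwa [Subgroup.relIndex_top_right] at this
  set P : Sylow q G := hS.2.1.toSylow hidx with hP
  have hPS : (P : Subgroup G) = S := IsPGroup.toSylow_coe _ _
  obtain ⟨V, hV, -⟩ := Cfsg.Agent.Helper22.BGCor107.exists_isComplIn_normalizer P
  have h11 := (Cfsg.Agent.S1411.result hG q P V hV).1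
  rw [hPS] at h11 hV
  have hcent := inf_normalizer_le_centralizer hG hM hqM hqβ hS.2.1 hSσ hSyl.2.2 hSab
  -- `[S, V] ≤ [S, E]`
  have hle : ⁅S, V⁆ ≤ ⁅S, E⁆ := by
    rw [Subgroup.commutator_le]
    intro s hs v hv
    have hvN : v ∈ Subgroup.normalizer (S : Set G) := hV.2.1 hv
    obtain ⟨e, he, b, hb, rfl⟩ := hE.2.2.2 v ((hNS hvN).1)
    have hbN : b ∈ Subgroup.normalizer (S : Set G) := by
      have : b = e⁻¹ * (e * b) := by group
      rw [this]
      exact mul_mem (inv_mem (hEN he)) hvN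
    have hbc : b ∈ Subgroup.centralizer (S : Set G) := hcent ⟨hb, hbN⟩
    have h1 : b * s⁻¹ = s⁻¹ * b := ((Subgroup.mem_centralizer_iff.1 hbc) s⁻¹ (inv_mem hs)).symm
    have h2 : ⁅s, e * b⁆ = ⁅s, e⁆ := by
      simp only [commutatorElement_def]
      calc s * (e * b) * s⁻¹ * (e * b)⁻¹ = s * e * (b * s⁻¹) * b⁻¹ * e⁻¹ := by group
        _ = s * e * (s⁻¹ * b) * b⁻¹ * e⁻¹ := by rw [h1]
        _ = s * e * s⁻¹ * e⁻¹ := by group
    rw [h2]
    exact Subgroup.commutator_mem_commutator hs he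
  have hSE : ⁅S, E⁆ = S := by
    apply le_antisymm
    · rw [Subgroup.commutator_le]
      intro s hs e he
      have h1 : e * s⁻¹ * e⁻¹ ∈ S :=
        (Subgroup.mem_normalizer_iff.1 (hEN he) s⁻¹).1 (inv_mem hs)
      have h2 : ⁅s, e⁆ = s * (e * s⁻¹ * e⁻¹) := by
        simp only [commutatorElement_def]; group
      rw [h2]; exact mul_mem hs h1
    · calc S = ⁅S, V⁆ := h11
        _ ≤ ⁅S, E⁆ := hle
  haveI := hSab
  have h55 := (Cfsg.Agent.S0055.result E S hEN (coprime_card_compl hG hM hE hqM hS.2.1)).1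
  rw [hSE] at h55
  rw [eq_bot_iff, ← h55]
  exact le_inf le_rfl inf_le_left


/-- `E ≤ C_G(D)` as soon as, for every prime `s`, some Sylow `s`-subgroup of `E` centralizes `D` -/
theorem le_centralizer_of_sylows {E D : Subgroup G}
    (h : ∀ s : ℕ, s.Prime → s ∣ Nat.card E →
      ∃ Es : Subgroup G, IsSylowIn s Es E ∧ Es ≤ Subgroup.centralizer (D : Set G)) :
    E ≤ Subgroup.centralizer (D : Set G) := by
  have key : E ⊓ Subgroup.centralizer (D : Set G) = E := by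
    apply Cfsg.Agent.Helper64.BG1217D.eq_of_forall_not_dvd_relIndex inf_le_left
    intro s hs hd
    have hsE : s ∣ Nat.card E := hd.trans (Subgroup.relIndex_dvd_card _ _)
    obtain ⟨Es, hEs, hEsD⟩ := h s hs hsE
    have hle : Es ≤ E ⊓ Subgroup.centralizer (D : Set G) := le_inf hEs.1 hEsD
    apply hEs.2.2
    rw [← Subgroup.relIndex_mul_relIndex Es (E ⊓ Subgroup.centralizer (D : Set G)) E hle inf_le_left]
    exact Dvd.dvd.mul_left hd _
  rw [← key]; exact inf_le_right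

/-- an `r`-subgroup of `M ∩ L` with `r ∉ σ(M)`, `r ∉ τ₁(M) ∩ τ₁(L)` centralizes `S` -/
theorem le_centralizer_of_not_tau1 (hG : Cfsg.IsMinSimpleOddOrder G) {M L S : Subgroup G}
    {q : ℕ} [Fact q.Prime] (hM : IsCoatom M) (hL : IsCoatom L) (hnc : ∀ g : G, cj g M ≠ L)
    (hqM : q ∈ Cfsg.sigma M) (hqL : q ∈ Cfsg.sigma L) (hSq : IsPGroup q S) (hSM : S ≤ M)
    (hSL : S ≤ L) {r : ℕ} [Fact r.Prime] (hrσ : r ∉ Cfsg.sigma M) {X₀ : Subgroup G}
    (hX : IsPGroup r X₀) (hXM : X₀ ≤ M) (hXL : X₀ ≤ L)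
    (hr : ¬ (r ∈ Cfsg.tau1 M ∧ r ∈ Cfsg.tau1 L)) :
    X₀ ≤ Subgroup.centralizer (S : Set G) := by
  have hU := uThm hG
  by_cases hX1 : X₀ = ⊥
  · rw [hX1]; exact bot_le
  have hSσM : S ≤ Cfsg.sigmaCore M :=
    Cfsg.Agent.Helper71.BG11.le_sigmaCore_of_isPGroup hG hU hM hqM hSq hSM
  have hSσL : S ≤ Cfsg.sigmaCore L :=
    Cfsg.Agent.Helper71.BG11.le_sigmaCore_of_isPGroup hG hU hL hqL hSq hSL
  by_cases hrL : r ∈ Cfsg.tau1 L
  · have hrM : r ∉ Cfsg.tau1 M := fun h => hr ⟨h, hrL⟩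
    have h1 := lemmaA hG hL hM (ncj_symm hnc) hrL.2.1 hX hX1 hXL hXM hrM
    apply le_centralizer_of_commutator_eq_bot
    rw [eq_bot_iff, ← h1]
    exact Subgroup.commutator_mono (le_inf hSσL hSM) le_rfl
  · have h1 := lemmaA hG hM hL hnc hrσ hX hX1 hXM hXL hrL
    apply le_centralizer_of_commutator_eq_bot
    rw [eq_bot_iff, ← h1]
    exact Subgroup.commutator_mono (le_inf hSσM hSL) le_rfl


/-- a prime in `π` dividing `|E|` divides the order of a Hall `π`-subgroup of `E` -/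
theorem dvd_card_of_isPiHallOf {π : Set ℕ} {E₁ E : Subgroup G} (h : Cfsg.IsPiHallOf π E₁ E)
    {s : ℕ} (hs : s.Prime) (hsπ : s ∈ π) (hsE : s ∣ Nat.card E) : s ∣ Nat.card E₁ := by
  rw [← Cfsg.Agent.Helper62.isPiHallOf_card_mul_relIndex h] at hsE
  rcases (Nat.Prime.dvd_mul hs).1 hsE with h1 | h1
  · exact h1
  · exact absurd h1 (h.2.2 s hs hsπ)

/-- a subgroup of prime order `s` inside a group whose order is divisible by `s` -/
theorem exists_card_eq_of_dvd {s : ℕ} [hs : Fact s.Prime] {X : Subgroup G}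
    (hd : s ∣ Nat.card X) : ∃ Y : Subgroup G, Y ≤ X ∧ Nat.card Y = s := by
  obtain ⟨x, hx⟩ := exists_prime_orderOf_dvd_card' s hd
  refine ⟨(Subgroup.zpowers x).map X.subtype, Subgroup.map_subtype_le _, ?_⟩
  rw [Subgroup.card_map_of_injective X.subtype_injective, Nat.card_zpowers, hx]

/-- two subgroups of a cyclic subgroup centralize each other -/
theorem le_centralizer_of_le_cyclic {E₁ A B : Subgroup G} (hc : IsCyclic E₁) (hA : A ≤ E₁)
    (hB : B ≤ E₁) : A ≤ Subgroup.centralizer (B : Set G) := by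
  intro a ha
  rw [Subgroup.mem_centralizer_iff]
  intro b hb
  letI := IsCyclic.commGroup (α := ↥E₁)
  have := mul_comm (⟨b, hB hb⟩ : ↥E₁) ⟨a, hA ha⟩
  exact congrArg Subtype.val this

/-- **Reduction to `(Σ0)`** (helper57, board #3162 (II), simplified in #3503). -/
theorem exists_cfg (hG : Cfsg.IsMinSimpleOddOrder G) {M L S : Subgroup G} {q : ℕ} [Fact q.Prime]
    (hM : IsCoatom M) (hL : IsCoatom L) (hnc : ∀ g : G, cj g M ≠ L)
    (hqM : q ∈ Cfsg.sigma M) (hqL : q ∈ Cfsg.sigma L) (hS : IsSylowIn q S ⊤)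
    (hNS : Subgroup.normalizer (S : Set G) ≤ M ⊓ L) :
    ∃ (p : ℕ) (_ : Fact p.Prime) (P : Subgroup G), Cfg M L S P q p ∧ p ∈ Cfsg.tau1 L := by
  have hqp : q.Prime := Fact.out
  have hU := uThm hG
  have hne : M ≠ L := fun e => hnc 1 (by rw [cj_one]; exact e)
  have hSM : S ≤ M := (Subgroup.le_normalizer.trans hNS).trans inf_le_left
  have hSL : S ≤ L := (Subgroup.le_normalizer.trans hNS).trans inf_le_right
  have hS1 : S ≠ ⊥ := by
    intro hb
    have := hS.2.2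
    rw [hb, Subgroup.relIndex_bot_left] at this
    exact this (hqM.2.1.trans (Subgroup.card_dvd_of_le le_top))
  obtain ⟨E, hE, hEN, hSab, hfpf⟩ := exists_compl_fpf hG hM hL hne hqM hS hNS
  have hEM : E ≤ M := hE.1
  have hEL : E ≤ L := (hEN.trans hNS).trans inf_le_right
  have hctx := Cfsg.Agent.Helper68.BG12.eCtx_of hG hU hM hE
  haveI := hctx.solvable
  have hSσM : S ≤ Cfsg.sigmaCore M :=
    Cfsg.Agent.Helper71.BG11.le_sigmaCore_of_isPGroup hG hU hM hqM hS.2.1 hSM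
  -- Sylow subgroups of `E` for primes outside `τ₁(M) ∩ τ₁(L)` centralize `S`
  have hout : ∀ s : ℕ, s.Prime → s ∣ Nat.card E → ¬ (s ∈ Cfsg.tau1 M ∧ s ∈ Cfsg.tau1 L) →
      ∃ Es : Subgroup G, IsSylowIn s Es E ∧ Es ≤ Subgroup.centralizer (S : Set G) := by
    intro s hs hsE hns
    haveI : Fact s.Prime := ⟨hs⟩
    obtain ⟨Es, -, hEs⟩ := exists_isSylowIn_ge (p := s) (bot_le : (⊥ : Subgroup G) ≤ E)
      IsPGroup.of_bot
    exact ⟨Es, hEs, le_centralizer_of_not_tau1 hG hM hL hnc hqM hqL hS.2.1 hSM hSL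
      (hctx.not_sigma_of_dvd s hs hsE) hEs.2.1 (hEs.1.trans hEM) (hEs.1.trans hEL) hns⟩
  -- some prime of `|E|` lies in `τ₁(M) ∩ τ₁(L)`
  have hex : ∃ r : ℕ, r.Prime ∧ r ∣ Nat.card E ∧ r ∈ Cfsg.tau1 M ∧ r ∈ Cfsg.tau1 L := by
    by_contra hcon
    push Not at hcon
    have hEC : E ≤ Subgroup.centralizer (S : Set G) := by
      apply le_centralizer_of_sylows
      intro s hs hsE
      exact hout s hs hsE (fun h => hcon s hs hsE h.1 h.2)
    have h1 : S ≤ S ⊓ Subgroup.centralizer (E : Set G) :=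
      le_inf le_rfl (Subgroup.le_centralizer_iff.1 hEC)
    rw [hfpf] at h1
    exact hS1 (le_bot_iff.1 h1)
  obtain ⟨r, hrp, hrE, hrM, hrL⟩ := hex
  haveI : Fact r.Prime := ⟨hrp⟩
  -- the cyclic Hall `τ₁(M)`-subgroup `E₁` of `E`
  obtain ⟨E₁, hE₁, -⟩ := Cfsg.Agent.Helper71.BGHall.exists_isPiHallOf_ge (Cfsg.tau1 M) E
    (bot_le : (⊥ : Subgroup G) ≤ E) (fun p hp hd => by
      rw [Subgroup.card_bot] at hd
      exact absurd (Nat.dvd_one.1 hd) hp.one_lt.ne')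
  have hE₁cyc : IsCyclic E₁ := (Cfsg.Agent.S1415.result hG M hM E hE).2.1 E₁ hE₁
  obtain ⟨P, hPE₁, hPc⟩ := exists_card_eq_of_dvd (dvd_card_of_isPiHallOf hE₁ hrp hrM hrE)
  have hPE : P ≤ E := hPE₁.trans hE₁.1
  have hP1 : P ≠ ⊥ := ne_bot_of_card_eq_prime' hrp hPc
  have hPr : IsPGroup r P := isPGroup_of_card_eq' hPc
  have h28 := Cfsg.Agent.Helper63.BGSigma.h1428 hG
  -- `C_S(P) = 1`
  have hD : S ⊓ Subgroup.centralizer (P : Set G) = ⊥ := by
    have hEC : E ≤ Subgroup.centralizer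
        ((S ⊓ Subgroup.centralizer (P : Set G) : Subgroup G) : Set G) := by
      apply le_centralizer_of_sylows
      intro s hs hsE
      haveI : Fact s.Prime := ⟨hs⟩
      by_cases hsτ : s ∈ Cfsg.tau1 M ∧ s ∈ Cfsg.tau1 L
      · obtain ⟨Ps, hPsE₁, hPsc⟩ :=
          exists_card_eq_of_dvd (dvd_card_of_isPiHallOf hE₁ hs hsτ.1 hsE)
        have hPsE : Ps ≤ E := hPsE₁.trans hE₁.1
        obtain ⟨Es, hPsEs, hEs⟩ := exists_isSylowIn_ge hPsE (isPGroup_of_card_eq' hPsc)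
        refine ⟨Es, hEs, ?_⟩
        obtain ⟨S', hS'⟩ := IsSylowIn.exists_sylow hEs
        have hPs1 : Ps ≠ ⊥ := ne_bot_of_card_eq_prime' hs hPsc
        have hEs1 : Es ≠ ⊥ := fun e => hPs1 (le_bot_iff.1 (e ▸ hPsEs))
        have hS'1 : (S' : Subgroup ↥E) ≠ ⊥ := by
          intro e
          apply hEs1
          rw [← hS', e, Subgroup.map_bot]
        have hEscyc : IsCyclic ↥Es :=
          Cfsg.Agent.Helper23.BG13.isCyclic_of_isPGroup_of_pRankLE_one hG.1 hEs.2.1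
            (Cfsg.Agent.Helper23.BG13.pRankLE_mono (hEs.1.trans hEM) hsτ.1.2.2.2.2)
        have hS'c : IsCyclic ↥(S' : Subgroup ↥E) := by
          have e1 := (S' : Subgroup ↥E).equivMapOfInjective E.subtype E.subtype_injective
          rw [hS'] at e1
          exact e1.isCyclic.2 hEscyc
        have h27 := Cfsg.Agent.S1427.result hG M hM E hE s S' hS'1 hS'c
        rw [hS'] at h27
        -- a generator of `Ps`
        obtain ⟨x, hxPs, hx1⟩ : ∃ x ∈ Ps, x ≠ 1 := by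
          by_contra hcon
          push Not at hcon
          exact hPs1 ((Subgroup.eq_bot_iff_forall _).2 hcon)
        have h27x := h27 x (hPsEs hxPs) hx1
        have hPsP : Ps ≤ E ⊓ Subgroup.centralizer (P : Set G) :=
          le_inf hPsE (le_centralizer_of_le_cyclic hE₁cyc hPsE₁ hPE₁)
        have h13 := h28 M hM E hE r hrM P hPE hPc Ps hPsP (by rw [hPsc]; exact hs)
        rw [Subgroup.le_centralizer_iff]
        intro d hd
        have hd1 : d ∈ Cfsg.sigmaCore M ⊓ Subgroup.centralizer (P : Set G) :=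
          Subgroup.mem_inf.2 ⟨hSσM (Subgroup.mem_inf.1 hd).1, (Subgroup.mem_inf.1 hd).2⟩
        have hd2 : d ∈ Cfsg.sigmaCore M ⊓ Subgroup.centralizer (Ps : Set G) := h13 hd1
        have hd3 : d ∈ Cfsg.sigmaCore M ⊓ Subgroup.centralizer ({x} : Set G) := by
          refine Subgroup.mem_inf.2 ⟨(Subgroup.mem_inf.1 hd2).1, ?_⟩
          have := (Subgroup.mem_inf.1 hd2).2
          rw [Subgroup.mem_centralizer_iff] at this ⊢
          intro y hy
          rw [Set.mem_singleton_iff] at hy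
          rw [hy]; exact this x hxPs
        rw [h27x] at hd3
        exact (Subgroup.mem_inf.1 hd3).2
      · obtain ⟨Es, hEs, hEsS⟩ := hout s hs hsE hsτ
        exact ⟨Es, hEs, hEsS.trans (Subgroup.centralizer_le inf_le_left)⟩
    have h1 : S ⊓ Subgroup.centralizer (P : Set G) ≤ S ⊓ Subgroup.centralizer (E : Set G) :=
      le_inf inf_le_left (Subgroup.le_centralizer_iff.1 hEC)
    rw [hfpf] at h1
    exact le_bot_iff.1 h1
  -- `S = [S, P]`
  have hPN : P ≤ Subgroup.normalizer (S : Set G) := hPE.trans hEN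
  have hrq : r ≠ q := fun e => hrM.2.1 (e ▸ hqM)
  have hcopPS : (Nat.card P).Coprime (Nat.card S) := by
    obtain ⟨k, hk⟩ := IsPGroup.iff_card.1 hS.2.1
    rw [hPc, hk]
    exact Nat.Coprime.pow_right k ((Nat.coprime_primes hrp hqp).2 hrq)
  haveI := hSab
  have h55 := (Cfsg.Agent.S0055.result P S hPN hcopPS).2
  rw [hD, bot_sup_eq] at h55
  -- `r ∈ τ₁(L)` is already known
  exact ⟨r, ⟨hrp⟩, P, ⟨hM, hL, hnc, hqM, hqL, hS, hNS, hrM, hPc, hPN, h55⟩, hrL⟩

/-- **σ-partition** (B-G Theorem 13.9 = the second half of S1378): for non-conjugate maximal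
subgroups `M`, `L` of a minimal simple group of odd order, `σ(M) ∩ σ(L) = ∅`. -/
theorem sigma_partition (hG : Cfsg.IsMinSimpleOddOrder G) :
    ∀ M L : Subgroup G, IsCoatom M → IsCoatom L → (∀ g : G, cj g M ≠ L) →
      ∀ q : ℕ, q ∈ Cfsg.sigma M → q ∉ Cfsg.sigma L := by
  intro M L hM hL hnc q hqM hqL
  have hU := uThm hG
  haveI : Fact q.Prime := ⟨hqM.1⟩
  obtain ⟨S, -, hNS, hS, -⟩ := exists_sylow_of_mem_sigma hqM
  obtain ⟨S₁, -, hNS₁, hS₁, -⟩ := exists_sylow_of_mem_sigma hqL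
  obtain ⟨g, -, hg⟩ := hS.exists_cj_eq hS₁
  -- `S = cj g S₁`, so `N_G(S) ≤ cj g L`
  have hL' : IsCoatom (cj g L) := isCoatom_cj hL g
  have hnc' : ∀ a : G, cj a M ≠ cj g L := by
    intro a ha
    apply hnc (g⁻¹ * a)
    rw [cj_mul, ha, cj_inv_cj]
  have hqL' : q ∈ Cfsg.sigma (cj g L) := by rw [sigma_cj]; exact hqL
  have hNS' : Subgroup.normalizer (S : Set G) ≤ M ⊓ cj g L := by
    refine le_inf hNS ?_
    rw [← hg, normalizer_cj]
    exact cj_mono hNS₁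
  obtain ⟨p, hp, P, hcfg, hpL⟩ := exists_cfg hG hM hL' hnc' hqM hqL' hS hNS'
  haveI := hp
  exact Cfsg.Agent.Helper63.BGSigma.lemma_sigma_cfg hG hcfg hpL

end Cfsg.Agent.Helper32.BGSigma
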