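import Mathlib
import Cfsg.Agent.Helper3.Cov2Ops

/-!
# (C1P) for helper3's S2500 part (4) (helper32): an isometry with an isotropic eigenvector `u`
induces an isometry on a non-degenerate plane `P ⊆ u^⊥` complementing `u`
-/

set_option autoImplicit false

namespace Cfsg.Agent.Helper32.Cov2P4

open Polynomial Module Matrix Cfsg.Agent.Helper3.Cov2

variable {F V : Type*} [Field F] [Finite F] [AddCommGroup V] [Module F V] [FiniteDimensional F V]
  {σ : F →+* F} (B : V →ₛₗ[σ] V →ₗ[F] F)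

/-- (C1P) -/
theorem exists_compl_isometry (hS : B.IsSymm) (hB : B.SeparatingLeft) (hdim : finrank F V = 4)
    (T : V →ₗ[F] V) (hT : ∀ x y, B (T x) (T y) = B x y)
    (u : V) (hu : u ≠ 0) (huu : B u u = 0) (c : F) (hTu : T u = c • u) :
    ∃ (P : Submodule F V) (S : P →ₗ[F] P), finrank F P = 2 ∧
      (∀ x ∈ P, (∀ y ∈ P, B x y = 0) → x = 0) ∧ (∀ x ∈ P, B u x = 0) ∧ u ∉ P ∧
      (∀ x y : P, B (S x : V) (S y : V) = B (x : V) (y : V)) ∧
      (∀ x : P, ∃ a : F, T (x : V) = a • u + (S x : V)) := by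
  have hsym : ∀ x y : V, σ (B x y) = B y x := fun x y => hS.eq x y
  -- a partner `u'` of `u`
  obtain ⟨u', hu'⟩ : ∃ u', B u u' ≠ 0 := by
    by_contra h
    push Not at h
    exact hu (hB u h)
  obtain ⟨d, hd⟩ : ∃ d : F, d = B u u' := ⟨_, rfl⟩
  obtain ⟨e, he⟩ : ∃ e : F, e = B u' u' := ⟨_, rfl⟩
  have hd0 : d ≠ 0 := by rw [hd]; exact hu'
  have hd' : B u' u = σ d := by rw [hd, hsym]
  have hσd : σ d ≠ 0 := by
    intro h
    exact hd0 ((map_eq_zero σ).1 h)
  -- `c ≠ 0`
  have hc : c ≠ 0 := by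
    intro h0
    apply hu'
    rw [← hT u u', hTu, h0, zero_smul, map_zero, LinearMap.zero_apply]
  have hσc : σ c ≠ 0 := fun h => hc ((map_eq_zero σ).1 h)
  -- the coordinate functionals and the projection
  obtain ⟨β, hβ⟩ : ∃ β : V →ₗ[F] F, ∀ v, β v = d⁻¹ * B u v :=
    ⟨d⁻¹ • B u, fun v => by rw [LinearMap.smul_apply, smul_eq_mul]⟩
  obtain ⟨α, hα⟩ : ∃ α : V →ₗ[F] F, ∀ v, α v = (σ d)⁻¹ * (B u' v - e * β v) :=
    ⟨(σ d)⁻¹ • (B u' - e • β), fun v => by
      rw [LinearMap.smul_apply, LinearMap.sub_apply, LinearMap.smul_apply, smul_eq_mul, smul_eq_mul]⟩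
  obtain ⟨π, hπ⟩ : ∃ π : V →ₗ[F] V, ∀ v, π v = v - α v • u - β v • u' :=
    ⟨LinearMap.id - α.smulRight u - β.smulRight u', fun v => by
      rw [LinearMap.sub_apply, LinearMap.sub_apply, LinearMap.id_apply, LinearMap.smulRight_apply,
        LinearMap.smulRight_apply]⟩
  obtain ⟨P, hP⟩ : ∃ P : Submodule F V, ∀ x, x ∈ P ↔ B u x = 0 ∧ B u' x = 0 :=
    ⟨LinearMap.ker (B u) ⊓ LinearMap.ker (B u'), fun x => by
      rw [Submodule.mem_inf, LinearMap.mem_ker, LinearMap.mem_ker]⟩
  have hπP : ∀ v, π v ∈ P := by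
    intro v
    rw [hP, hπ]
    constructor
    · rw [map_sub, map_sub, map_smul, map_smul, smul_eq_mul, smul_eq_mul, huu, ← hd, hβ]
      field_simp
      ring
    · rw [map_sub, map_sub, map_smul, map_smul, smul_eq_mul, smul_eq_mul, hd', ← he, hα]
      field_simp
      ring
  have hdecomp : ∀ v, v = π v + α v • u + β v • u' := by
    intro v
    rw [hπ]
    abel
  -- `T` maps `P` into `u^⊥`
  have hTP : ∀ x ∈ P, B u (T x) = 0 := by
    intro x hx
    have h1 : B (T u) (T x) = 0 := by rw [hT]; exact ((hP x).1 hx).1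
    rw [hTu, LinearMap.map_smulₛₗ, LinearMap.smul_apply, smul_eq_mul] at h1
    exact (mul_eq_zero.1 h1).resolve_left hσc
  have hTP' : ∀ x ∈ P, B (T x) u = 0 := by
    intro x hx
    rw [← hsym, hTP x hx, map_zero]
  have hπT : ∀ x ∈ P, π (T x) = T x - α (T x) • u := by
    intro x hx
    rw [hπ, hβ, hTP x hx, mul_zero, zero_smul, sub_zero]
  -- the induced map
  let S : P →ₗ[F] P := (π.comp (T.comp P.subtype)).codRestrict P (fun x => hπP _)
  have hS1 : ∀ x : P, (S x : V) = T (x : V) - α (T (x : V)) • u := by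
    intro x
    show π (T (x : V)) = _
    exact hπT x x.2
  refine ⟨P, S, ?_, ?_, ?_, ?_, ?_, ?_⟩
  · -- the dimension
    let φ : V →ₗ[F] F × F := (B u).prod (B u')
    have hker : LinearMap.ker φ = P := by
      ext x
      rw [hP, LinearMap.mem_ker]
      show (B u x, B u' x) = 0 ↔ _
      rw [Prod.mk_eq_zero]
    have hrange : LinearMap.range φ = ⊤ := by
      rw [LinearMap.range_eq_top]
      rintro ⟨a, b⟩
      refine ⟨((σ d)⁻¹ * (b - d⁻¹ * a * e)) • u + (d⁻¹ * a) • u', ?_⟩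
      show (B u _, B u' _) = (a, b)
      rw [Prod.mk.injEq]
      constructor
      · rw [map_add, map_smul, map_smul, smul_eq_mul, smul_eq_mul, huu, ← hd]
        field_simp
        ring
      · rw [map_add, map_smul, map_smul, smul_eq_mul, smul_eq_mul, hd', ← he]
        field_simp
        ring
    have h1 := LinearMap.finrank_range_add_finrank_ker φ
    rw [hrange, finrank_top, hker, hdim, Module.finrank_prod, Module.finrank_self] at h1
    omega
  · -- non-degeneracy
    intro x hx hxy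
    apply hB
    intro v
    have hxu : B x u = 0 := by rw [← hsym, ((hP x).1 hx).1, map_zero]
    have hxu' : B x u' = 0 := by rw [← hsym, ((hP x).1 hx).2, map_zero]
    rw [hdecomp v, map_add, map_add, map_smul, map_smul, hxu, hxu', hxy _ (hπP v), smul_zero,
      smul_zero, add_zero, add_zero]
  · intro x hx
    exact ((hP x).1 hx).1
  · intro huP
    have := ((hP u).1 huP).2
    rw [hd'] at this
    exact hσd this
  · intro x y
    rw [hS1, hS1, map_sub, map_sub, LinearMap.sub_apply, LinearMap.sub_apply, hT,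
      LinearMap.map_smulₛₗ, LinearMap.smul_apply, LinearMap.smul_apply, map_smul, map_smul,
      hTP' x x.2, hTP y y.2, huu]
    simp
  · intro x
    refine ⟨α (T (x : V)), ?_⟩
    rw [hS1]
    abel

end Cfsg.Agent.Helper32.Cov2P4
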