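import Mathlib
import Cfsg.Agent.Helper30.HallSym.Defs

/-!
# Pieces (X-4), (X-5) of board post #6117 (helper30, S2536 cluster): setwise stabilizers of sets
of the same size, and of bipartitions of the same shape, are conjugate in the symmetric group.
-/

set_option autoImplicit false

open Equiv Equiv.Perm MulAction Subgroup Cfsg Cfsg.Agent.Helper30.HallSym
open scoped Nat Pointwise

universe u

namespace Cfsg.Agent.Helper32.HallSym

/-- a permutation carrying `s` onto `t` when the two sets have the same size -/
theorem exists_smul_eq_of_ncard_eq {α : Type u} [Fintype α] [DecidableEq α] (s t : Set α)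
    (hst : s.ncard = t.ncard) : ∃ g : Perm α, g • s = t := by
  classical
  have hcard : Nat.card ↥s = Nat.card ↥t := by
    rw [Nat.card_coe_set_eq, Nat.card_coe_set_eq, hst]
  obtain ⟨e⟩ := Finite.card_eq.mp hcard
  let e' : {x // x ∈ s} ≃ {x // x ∈ t} := e
  refine ⟨e'.extendSubtype, ?_⟩
  ext y
  constructor
  · rintro ⟨x, hx, rfl⟩
    exact e'.extendSubtype_mem x hx
  · intro hy
    refine ⟨e'.extendSubtype.symm y, ?_, by simp⟩
    by_contra hcon
    have := e'.extendSubtype_not_mem _ hcon
    apply this
    simpa using hy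

/-- (X-4) -/
theorem stabilizer_set_conj {α : Type u} [Fintype α] [DecidableEq α] (s t : Set α)
    (hst : s.ncard = t.ncard) :
    ∃ g : Perm α, stabilizer (Perm α) t = (stabilizer (Perm α) s).map (MulAut.conj g).toMonoidHom := by
  obtain ⟨g, hg⟩ := exists_smul_eq_of_ncard_eq s t hst
  exact ⟨g, by rw [← hg, MulAction.stabilizer_smul_eq_stabilizer_map_conj]⟩

/-- (X-5) -/
theorem stabilizer_bipartition_conj {α : Type u} [Fintype α] [DecidableEq α] (s t : Set α)
    (hst : s.ncard = t.ncard) :
    ∃ g : Perm α, stabilizer (Perm α) ({t, tᶜ} : Set (Set α)) =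
      (stabilizer (Perm α) ({s, sᶜ} : Set (Set α))).map (MulAut.conj g).toMonoidHom := by
  obtain ⟨g, hg⟩ := exists_smul_eq_of_ncard_eq s t hst
  refine ⟨g, ?_⟩
  have h1 : g • ({s, sᶜ} : Set (Set α)) = {t, tᶜ} := by
    rw [Set.smul_set_insert, Set.smul_set_singleton, Set.smul_set_compl, hg]
  rw [← h1, MulAction.stabilizer_smul_eq_stabilizer_map_conj]

end Cfsg.Agent.Helper32.HallSym
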