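import Mathlib
import Cfsg.Agent.Helper30.HallSym.Defs
import Cfsg.Agent.Helper32.HallSymX45

/-!
# Piece (X-3) of board post #6117 (helper30, S2536 cluster): the stabilizer of a bipartition of
shape `4 + 4` is a Hall `{2, 3}`-subgroup of `S_8`.
-/

set_option autoImplicit false

open Equiv Equiv.Perm MulAction Subgroup Cfsg Cfsg.Agent.Helper30.HallSym
open scoped Nat Pointwise

universe u

namespace Cfsg.Agent.Helper32.HallSym

/-- membership in the setwise stabilizer, pointwise -/
theorem mem_stabilizer_set_iff' {α : Type u} (s : Set α) (g : Perm α) :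
    g ∈ stabilizer (Perm α) s ↔ ∀ a, g a ∈ s ↔ a ∈ s := by
  rw [MulAction.mem_stabilizer_iff]
  constructor
  · intro h a
    constructor
    · intro ha
      have h1 : g a ∈ g • s := by rw [h]; exact ha
      rw [Set.mem_smul_set_iff_inv_smul_mem] at h1
      simpa using h1
    · intro ha
      rw [← h]
      exact ⟨a, ha, rfl⟩
  · intro h
    ext x
    rw [Set.mem_smul_set_iff_inv_smul_mem]
    have := h (g⁻¹ • x)
    have h2 : g (g⁻¹ • x) = x := by simp
    rw [h2] at this
    exact this.symm

/-- the order of the setwise stabilizer of `s` in the symmetric group -/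
theorem card_stabilizer_set {α : Type u} [Fintype α] [DecidableEq α] (s : Set α) :
    Nat.card (stabilizer (Perm α) s) = (s.ncard)! * (sᶜ.ncard)! := by
  classical
  let f : α → Bool := fun a => decide (a ∈ s)
  have h1 := DomMulAct.stabilizer_card f
  rw [Fintype.prod_bool] at h1
  have e : {g : Perm α // f ∘ g = f} ≃ stabilizer (Perm α) s :=
    Equiv.subtypeEquivRight (fun g => by
      rw [mem_stabilizer_set_iff']
      constructor
      · intro h a
        have := congrFun h a
        simp only [f, Function.comp_apply, decide_eq_decide] at this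
        exact this
      · intro h
        funext a
        simp only [f, Function.comp_apply, decide_eq_decide]
        exact h a)
  rw [← Nat.card_congr e, Nat.card_eq_fintype_card, h1]
  have h2 : Fintype.card {a // f a = true} = s.ncard := by
    rw [← Nat.card_eq_fintype_card, ← Nat.card_coe_set_eq]
    apply Nat.card_congr
    exact Equiv.subtypeEquivRight (fun a => by simp [f])
  have h3 : Fintype.card {a // f a = false} = sᶜ.ncard := by
    rw [← Nat.card_eq_fintype_card, ← Nat.card_coe_set_eq]
    apply Nat.card_congr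
    exact Equiv.subtypeEquivRight (fun a => by simp [f])
  rw [h2, h3]

/-- (X-3) -/
theorem isPiHall_stabilizer_bipartition {α : Type u} [Fintype α] [DecidableEq α] {π : Set ℕ}
    (h8 : Fintype.card α = 8) (h : TwoThree π 8) (s : Set α) (hs : s.ncard = 4) :
    IsPiHall π (stabilizer (Perm α) ({s, sᶜ} : Set (Set α))) := by
  classical
  have hsc : sᶜ.ncard = 4 := by
    have := Set.ncard_add_ncard_compl s
    rw [Nat.card_eq_fintype_card, h8, hs] at this
    omega
  set K := stabilizer (Perm α) s with hK
  set H := stabilizer (Perm α) ({s, sᶜ} : Set (Set α)) with hH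
  have hKcard : Nat.card K = 576 := by
    rw [hK, card_stabilizer_set, hs, hsc]; rfl
  have hne : s ≠ sᶜ := by
    intro hcon
    have hpos : 0 < s.ncard := by omega
    obtain ⟨a, ha⟩ := (Set.ncard_pos (Set.toFinite s)).1 hpos
    have : a ∈ sᶜ := hcon ▸ ha
    exact this ha
  have hpair : ∀ g : Perm α, g • ({s, sᶜ} : Set (Set α)) = {g • s, (g • s)ᶜ} := by
    intro g
    rw [Set.smul_set_insert, Set.smul_set_singleton, Set.smul_set_compl]
  have hKH : K ≤ H := by
    intro g hg
    rw [hK, MulAction.mem_stabilizer_iff] at hg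
    rw [hH, MulAction.mem_stabilizer_iff, hpair, hg]
  obtain ⟨σ, hσ⟩ := exists_smul_eq_of_ncard_eq s sᶜ (by rw [hs, hsc])
  have hσH : σ ∈ H := by
    rw [hH, MulAction.mem_stabilizer_iff, hpair, hσ, compl_compl, Set.pair_comm]
  have hσK : σ ∉ K := by
    intro hcon
    rw [hK, MulAction.mem_stabilizer_iff, hσ] at hcon
    exact hne hcon.symm
  have hrel : K.relIndex H = 2 := by
    rw [relIndex_eq_two_iff_exists_notMem_and]
    refine ⟨σ, hσH, hσK, ?_⟩
    intro b hb
    rw [hH, MulAction.mem_stabilizer_iff, hpair] at hb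
    have hbs : b • s ∈ ({b • s, (b • s)ᶜ} : Set (Set α)) := Set.mem_insert _ _
    rw [hb] at hbs
    rcases hbs with hbs | hbs
    · right
      rw [hK, MulAction.mem_stabilizer_iff]; exact hbs
    · left
      rw [Set.mem_singleton_iff] at hbs
      rw [hK, MulAction.mem_stabilizer_iff, mul_smul, hσ, Set.smul_set_compl, hbs, compl_compl]
  have hHcard : Nat.card H = 1152 := by
    have := relIndex_mul_relIndex ⊥ K H bot_le hKH
    rw [relIndex_bot_left, relIndex_bot_left, hrel, hKcard] at this
    omega
  have hidx : H.index = 35 := by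
    have h1 := H.card_mul_index
    rw [hHcard, Nat.card_eq_fintype_card, Fintype.card_perm, h8] at h1
    have h2 : (8 : ℕ)! = 1152 * 35 := by decide
    rw [h2] at h1
    exact Nat.eq_of_mul_eq_mul_left (by norm_num) h1
  refine ⟨fun p hp hpd => ?_, fun p hp hpπ hpd => ?_⟩
  · rw [hHcard] at hpd
    have h1 : (1152 : ℕ) = 2 ^ 7 * 3 ^ 2 := by norm_num
    rw [h1] at hpd
    rcases (Nat.Prime.dvd_mul hp).1 hpd with h2 | h2
    · have := (Nat.prime_dvd_prime_iff_eq hp Nat.prime_two).1 (hp.dvd_of_dvd_pow h2)
      exact (h p hp (by omega)).2 (Or.inl this)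
    · have := (Nat.prime_dvd_prime_iff_eq hp Nat.prime_three).1 (hp.dvd_of_dvd_pow h2)
      exact (h p hp (by omega)).2 (Or.inr this)
  · rw [hidx] at hpd
    have h1 : (35 : ℕ) = 5 * 7 := by norm_num
    rw [h1] at hpd
    rcases (Nat.Prime.dvd_mul hp).1 hpd with h2 | h2
    · have h3 := (Nat.prime_dvd_prime_iff_eq hp Nat.prime_five).1 h2
      rcases (h p hp (by omega)).1 hpπ with h4 | h4 <;> omega
    · have h3 := (Nat.prime_dvd_prime_iff_eq hp (by norm_num : Nat.Prime 7)).1 h2
      rcases (h p hp (by omega)).1 hpπ with h4 | h4 <;> omega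

end Cfsg.Agent.Helper32.HallSym
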