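import Mathlib
import Cfsg.Agent.Helper71.Alp.Defs

/-!
# Piece (PE3) for S3782 (Alperin), owner helper71: Shalev's interchange, easy direction
(core, with the conclusion of (PE2) as a hypothesis).
-/

set_option autoImplicit false

namespace Cfsg.Agent.Helper32.Alp

open Cfsg.Agent.Helper71.Alp
open scoped commutatorElement

/-- If `b` commutes with `⁅a, b⁆` then `⁅a, b ^ k⁆ = ⁅a, b⁆ ^ k`. -/
theorem commutatorElement_pow_right_of_commute {Q : Type*} [Group Q] (a b : Q)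
    (h : Commute b ⁅a, b⁆) (k : ℕ) : ⁅a, b ^ k⁆ = ⁅a, b⁆ ^ k := by
  induction k with
  | zero => simp
  | succ k ih =>
    have e : ⁅a, b * b ^ k⁆ = ⁅a, b⁆ * (b * ⁅a, b ^ k⁆ * b⁻¹) := by
      simp only [commutatorElement_def]; group
    rw [pow_succ' b, e, ih, pow_succ']
    congr 1
    have h2 := (h.pow_right k).eq
    rw [h2]; group

/-- The power subgroup of a normal subgroup is normal. -/
theorem pw_normal_of_normal {G : Type*} [Group G] (k : ℕ) (H : Subgroup G) [hH : H.Normal] :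
    (pw k H).Normal := by
  refine ⟨fun n hn g => ?_⟩
  unfold pw at hn ⊢
  induction hn using Subgroup.closure_induction with
  | mem y hy =>
    obtain ⟨x, hx, rfl⟩ := hy
    refine Subgroup.subset_closure ⟨g * x * g⁻¹, hH.conj_mem x hx g, ?_⟩
    rw [conj_pow]
  | one => simp
  | mul a b _ _ ha hb =>
    have e : g * (a * b) * g⁻¹ = (g * a * g⁻¹) * (g * b * g⁻¹) := by group
    rw [e]; exact mul_mem ha hb
  | inv a _ ha =>
    have e : g * a⁻¹ * g⁻¹ = (g * a * g⁻¹)⁻¹ := by group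
    rw [e]; exact inv_mem ha

/-- `H^{bp p} ≤ H^p`. -/
theorem pw_bp_le_pw {G : Type*} [Group G] (p : ℕ) (H : Subgroup G) : pw (bp p) H ≤ pw p H := by
  unfold pw bp
  split_ifs with h
  · subst h
    apply (Subgroup.closure_le _).2
    rintro y ⟨x, hx, rfl⟩
    have e : x ^ 4 = (x ^ 2) ^ 2 := by rw [← pow_mul]
    rw [e]
    exact Subgroup.subset_closure ⟨x ^ 2, pow_mem hx 2, rfl⟩
  · exact le_rfl

/-- (PE3) with the conclusion of (PE2) as an explicit hypothesis. -/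
theorem commutator_pw_le_of_PE {G : Type*} [Group G] {p : ℕ}
    {M N : Subgroup G} (hC : PE p ⁅N, M⁆) :
    ⁅N, pw p M⁆ ≤ pw p ⁅N, M⁆ := by
  have : (⁅N, M⁆).Normal := hC.1
  have hB : (pw p ⁅N, M⁆).Normal := pw_normal_of_normal p _
  have hcent : ⁅⁅N, M⁆, (⊤ : Subgroup G)⁆ ≤ pw p ⁅N, M⁆ := hC.2.trans (pw_bp_le_pw p _)
  rw [Subgroup.commutator_le]
  intro x hx y hy
  have key : ∀ m ∈ M, Commute (QuotientGroup.mk' (pw p ⁅N, M⁆) x)
      (QuotientGroup.mk' (pw p ⁅N, M⁆) (m ^ p)) := by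
    intro m hm
    have hc : ⁅x, m⁆ ∈ ⁅N, M⁆ := Subgroup.commutator_mem_commutator hx hm
    have hcomm : Commute (QuotientGroup.mk' (pw p ⁅N, M⁆) m)
        ⁅QuotientGroup.mk' (pw p ⁅N, M⁆) x, QuotientGroup.mk' (pw p ⁅N, M⁆) m⁆ := by
      have h3 : ⁅⁅x, m⁆, m⁆ ∈ pw p ⁅N, M⁆ :=
        hcent (Subgroup.commutator_mem_commutator hc (Subgroup.mem_top m))
      have h4 : ⁅⁅QuotientGroup.mk' (pw p ⁅N, M⁆) x, QuotientGroup.mk' (pw p ⁅N, M⁆) m⁆,
          QuotientGroup.mk' (pw p ⁅N, M⁆) m⁆ = 1 := by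
        rw [← map_commutatorElement, ← map_commutatorElement]
        exact (QuotientGroup.eq_one_iff _).2 h3
      exact (commutatorElement_eq_one_iff_commute.1 h4).symm
    have h1 := commutatorElement_pow_right_of_commute _ _ hcomm p
    have h2 : ⁅QuotientGroup.mk' (pw p ⁅N, M⁆) x, QuotientGroup.mk' (pw p ⁅N, M⁆) m⁆ ^ p = 1 := by
      rw [← map_commutatorElement, ← map_pow]
      exact (QuotientGroup.eq_one_iff _).2 (Subgroup.subset_closure ⟨_, hc, rfl⟩)
    rw [map_pow]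
    rw [h2] at h1
    exact commutatorElement_eq_one_iff_commute.1 h1
  have hy' : y ∈ (Subgroup.centralizer {QuotientGroup.mk' (pw p ⁅N, M⁆) x}).comap
      (QuotientGroup.mk' (pw p ⁅N, M⁆)) := by
    refine (Subgroup.closure_le _).2 ?_ hy
    rintro _ ⟨m, hm, rfl⟩
    simp only [Subgroup.coe_comap, Set.mem_preimage, SetLike.mem_coe,
      Subgroup.mem_centralizer_iff, Set.mem_singleton_iff, forall_eq]
    exact (key m hm).eq
  simp only [Subgroup.mem_comap, Subgroup.mem_centralizer_iff, Set.mem_singleton_iff,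
    forall_eq] at hy'
  have h5 : ⁅QuotientGroup.mk' (pw p ⁅N, M⁆) x, QuotientGroup.mk' (pw p ⁅N, M⁆) y⁆ = 1 :=
    commutatorElement_eq_one_iff_commute.2 hy'
  rw [← map_commutatorElement] at h5
  exact (QuotientGroup.eq_one_iff _).1 h5

end Cfsg.Agent.Helper32.Alp
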