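import Mathlib

/-!
# S0508 pieces (Z6), (Z9) for helper58: the action of a simple group on `G ⧸ N(Q)` is faithful, has no
regular normal subgroup, and is not `3`-transitive
-/

set_option autoImplicit false

namespace Cfsg.Agent.Helper32.BSWD

open Subgroup

section Z

variable {G : Type*} [Group G] [Finite G] (Q D : Subgroup G)

/-- (Z6) -/
theorem faithful_and_no_regular_normal [IsSimpleGroup G]
    (hidx : (normalizer (Q : Set G)).index = Nat.card ↥Q + 1) (hq : 3 ≤ Nat.card ↥Q) :
    FaithfulSMul G (G ⧸ normalizer (Q : Set G)) ∧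
      ∀ N : Subgroup G, N.Normal → MulAction.IsPretransitive ↥N (G ⧸ normalizer (Q : Set G)) →
        ∃ a : G ⧸ normalizer (Q : Set G), MulAction.stabilizer ↥N a ≠ ⊥ := by
  classical
  set H := normalizer (Q : Set G) with hH
  have hHtop : H ≠ ⊤ := by
    intro h
    rw [h, Subgroup.index_top] at hidx
    omega
  constructor
  · -- faithful
    have hker : (MulAction.toPermHom G (G ⧸ H)).ker = ⊥ := by
      rw [← Subgroup.normalCore_eq_ker]
      rcases (H.normalCore_normal).eq_bot_or_eq_top with h | h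
      · exact h
      · exfalso
        apply hHtop
        rw [eq_top_iff, ← h]
        exact Subgroup.normalCore_le H
    constructor
    intro g₁ g₂ hg
    have hinj : Function.Injective (MulAction.toPermHom G (G ⧸ H)) :=
      (MonoidHom.ker_eq_bot_iff _).1 hker
    apply hinj
    ext a
    exact hg a
  · intro N hN htr
    rcases hN.eq_bot_or_eq_top with h | h
    · exfalso
      -- the trivial group is not transitive on at least two points
      have hcard : Nat.card (G ⧸ H) = Nat.card ↥Q + 1 := by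
        rw [← Subgroup.index_eq_card]; exact hidx
      have h2 : 1 < Nat.card (G ⧸ H) := by omega
      obtain ⟨a, b, hab⟩ := (Finite.one_lt_card_iff_nontrivial.1 h2).exists_pair_ne
      obtain ⟨n, hn⟩ := htr.exists_smul_eq a b
      have hn1 : n = 1 := by
        have : (n : G) ∈ (⊥ : Subgroup G) := h ▸ n.2
        exact Subtype.ext (Subgroup.mem_bot.1 this)
      rw [hn1, one_smul] at hn
      exact hab hn
    · refine ⟨((1 : G) : G ⧸ H), ?_⟩
      -- `Q ≠ ⊥`
      have hQ : ∃ u ∈ Q, u ≠ 1 := by
        by_contra hcon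
        push Not at hcon
        have : Q = ⊥ := by
          rw [eq_bot_iff]
          intro u hu
          exact Subgroup.mem_bot.2 (hcon u hu)
        rw [this, Subgroup.card_bot] at hq
        omega
      obtain ⟨u, hu, hu1⟩ := hQ
      have huN : u ∈ N := h ▸ Subgroup.mem_top u
      intro hbot
      have hmem : (⟨u, huN⟩ : N) ∈ MulAction.stabilizer ↥N (((1 : G) : G ⧸ H)) := by
        rw [MulAction.mem_stabilizer_iff]
        change (u : G) • (((1 : G) : G ⧸ H)) = _
        rw [MulAction.Quotient.smul_coe, smul_eq_mul, mul_one, QuotientGroup.eq, mul_one]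
        exact H.inv_mem (Subgroup.le_normalizer hu)
      rw [hbot, Subgroup.mem_bot] at hmem
      exact hu1 (congrArg Subtype.val hmem)

/-- (Z9) -/
theorem not_three_transitive
    (hq : 3 ≤ Nat.card ↥Q)
    (hcard : Nat.card ↥(normalizer (Q : Set G)) = Nat.card ↥Q * Nat.card ↥D)
    (h4 : 2 * Nat.card ↥D + 1 = Nat.card ↥Q)
    (hidx : (normalizer (Q : Set G)).index = Nat.card ↥Q + 1) :
    ¬ MulAction.IsMultiplyPretransitive G (G ⧸ normalizer (Q : Set G)) 3 := by
  classical
  intro h3
  set H := normalizer (Q : Set G) with hH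
  letI : Fintype (G ⧸ H) := Fintype.ofFinite _
  have hΩ : Fintype.card (G ⧸ H) = Nat.card ↥Q + 1 := by
    rw [← Nat.card_eq_fintype_card, ← Subgroup.index_eq_card]; exact hidx
  have hG : Nat.card G = (Nat.card ↥Q + 1) * (Nat.card ↥Q * Nat.card ↥D) := by
    rw [← Subgroup.index_mul_card H, hidx, hcard]
  -- the set of injections `Fin 3 ↪ Ω`
  have hemb : Nat.card (Fin 3 ↪ (G ⧸ H)) = (Nat.card ↥Q + 1) * Nat.card ↥Q * (Nat.card ↥Q - 1) := by
    rw [Nat.card_eq_fintype_card, Fintype.card_embedding_eq, hΩ, Fintype.card_fin]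
    have : (Nat.card ↥Q + 1).descFactorial 3 =
        (Nat.card ↥Q + 1 - 2) * ((Nat.card ↥Q + 1 - 1) * ((Nat.card ↥Q + 1 - 0) * 1)) := by
      rw [Nat.descFactorial_succ, Nat.descFactorial_succ, Nat.descFactorial_succ,
        Nat.descFactorial_zero]
    rw [this]
    have h1 : Nat.card ↥Q + 1 - 2 = Nat.card ↥Q - 1 := by omega
    have h2 : Nat.card ↥Q + 1 - 1 = Nat.card ↥Q := by omega
    rw [h1, h2, Nat.sub_zero]
    ring
  -- transitivity gives a surjection `G → (Fin 3 ↪ Ω)`
  have hne : Nonempty (Fin 3 ↪ (G ⧸ H)) := by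
    have : Fintype.card (Fin 3) ≤ Fintype.card (G ⧸ H) := by
      rw [hΩ, Fintype.card_fin]; omega
    exact Function.Embedding.nonempty_of_card_le this
  obtain ⟨x⟩ := hne
  have hsurj : Function.Surjective (fun g : G => g • x) := by
    intro y
    exact MulAction.exists_smul_eq G x y
  have hle : Nat.card (Fin 3 ↪ (G ⧸ H)) ≤ Nat.card G := Nat.card_le_card_of_surjective _ hsurj
  rw [hemb, hG] at hle
  have hD : Nat.card ↥Q - 1 = 2 * Nat.card ↥D := by omega
  have hD1 : 1 ≤ Nat.card ↥D := by omega
  rw [hD] at hle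
  have hpos : 0 < (Nat.card ↥Q + 1) * Nat.card ↥Q := by positivity
  nlinarith

end Z

end Cfsg.Agent.Helper32.BSWD
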