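-- (G2) of helper95's WANTED #4845 (Blichfeldt / Jordan, S4465 + S4469): the subdirect-product step.
import Mathlib

set_option autoImplicit false

universe u

namespace Cfsg.Agent.Helper32.Blich

/-- Hall `π`-subgroups of a finite commutative group (`π` given by the predicate `P`). -/
theorem exists_hall_of_comm' {G : Type*} [Group G] [Finite G] (hcomm : ∀ x y : G, x * y = y * x)
    (P : ℕ → Prop) :
    ∃ A : Subgroup G, (∀ q : ℕ, q.Prime → q ∣ Nat.card A → P q) ∧
      (∀ q : ℕ, q.Prime → q ∣ A.index → ¬ P q) := by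
  let A : Subgroup G :=
    { carrier := {g | ∀ q : ℕ, q.Prime → q ∣ orderOf g → P q}
      mul_mem' := by
        intro x y hx hy q hq hdvd
        have h1 : orderOf (x * y) ∣ Nat.lcm (orderOf x) (orderOf y) :=
          (show Commute x y from hcomm x y).orderOf_mul_dvd_lcm
        have h2 : q ∣ orderOf x * orderOf y :=
          (hdvd.trans h1).trans (Nat.lcm_dvd_mul _ _)
        rcases (Nat.Prime.dvd_mul hq).1 h2 with h | h
        · exact hx q hq h
        · exact hy q hq h
      one_mem' := by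
        intro q hq hdvd
        rw [orderOf_one] at hdvd
        exact absurd (Nat.dvd_one.1 hdvd) hq.one_lt.ne'
      inv_mem' := by
        intro x hx q hq hdvd
        rw [orderOf_inv] at hdvd
        exact hx q hq hdvd }
  have hAmem : ∀ g : G, g ∈ A ↔ ∀ q : ℕ, q.Prime → q ∣ orderOf g → P q := fun g => Iff.rfl
  refine ⟨A, ?_, ?_⟩
  · intro q hq hdvd
    haveI : Fact q.Prime := ⟨hq⟩
    obtain ⟨a, ha⟩ := exists_prime_orderOf_dvd_card' q hdvd
    have h1 : orderOf (a : G) = q := by rw [Subgroup.orderOf_coe, ha]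
    exact (hAmem _).1 a.2 q hq (by rw [h1])
  · intro q hq hdvd hPq
    haveI : Fact q.Prime := ⟨hq⟩
    haveI : A.Normal := ⟨fun n hn g => by
      have : g * n * g⁻¹ = n := by rw [hcomm g n, mul_assoc, mul_inv_cancel, mul_one]
      rw [this]; exact hn⟩
    have hcard : q ∣ Nat.card (G ⧸ A) := by
      rw [← Subgroup.index_eq_card]; exact hdvd
    obtain ⟨gbar, hgbar⟩ := exists_prime_orderOf_dvd_card' q hcard
    obtain ⟨g, rfl⟩ := QuotientGroup.mk_surjective gbar
    have hgq : g ^ q ∈ A := by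
      rw [← QuotientGroup.eq_one_iff, QuotientGroup.mk_pow, ← hgbar, pow_orderOf_eq_one]
    have hgA : g ∉ A := by
      intro hg
      have h1 : (QuotientGroup.mk g : G ⧸ A) = 1 := (QuotientGroup.eq_one_iff g).2 hg
      rw [h1, orderOf_one] at hgbar
      exact hq.one_lt.ne' hgbar.symm
    apply hgA
    rw [hAmem]
    intro q' hq' hdvd'
    by_cases hqq : q' = q
    · rw [hqq]; exact hPq
    · have h1 : g ^ (q * orderOf (g ^ q)) = 1 := by
        rw [pow_mul, pow_orderOf_eq_one]
      have h2 : orderOf g ∣ q * orderOf (g ^ q) := orderOf_dvd_of_pow_eq_one h1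
      rcases (Nat.Prime.dvd_mul hq').1 (hdvd'.trans h2) with h | h
      · exact absurd ((Nat.prime_dvd_prime_iff_eq hq' hq).1 h) hqq
      · exact (hAmem _).1 hgq q' hq' h

/-- (G2) -/
theorem hall_step_subdirect {G : Type u} [Group G] [Finite G] (P : ℕ → Prop) (S : Finset (Subgroup G))
    (hinf : ∀ g : G, (∀ K ∈ S, g ∈ K) → g = 1)
    (hquot : ∀ (K : Subgroup G) [K.Normal], K ∈ S → ∃ Abar : Subgroup (G ⧸ K),
      (∀ x ∈ Abar, ∀ y ∈ Abar, x * y = y * x) ∧ (∀ q : ℕ, q.Prime → q ∣ Nat.card Abar → P q) ∧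
      (∀ q : ℕ, q.Prime → q ∣ Abar.index → ¬ P q))
    (hnorm : ∀ K ∈ S, K.Normal)
    (hIH : ∀ K : Subgroup G, K ≠ ⊤ → ∃ A : Subgroup G, A ≤ K ∧
      (∀ q : ℕ, q.Prime → q ∣ Nat.card A → P q) ∧ (∀ q : ℕ, q.Prime → q ∣ A.relIndex K → ¬ P q)) :
    ∃ A : Subgroup G, (∀ q : ℕ, q.Prime → q ∣ Nat.card A → P q) ∧
      (∀ q : ℕ, q.Prime → q ∣ A.index → ¬ P q) := by
  by_cases hc : ∀ x y : G, x * y = y * x
  · exact exists_hall_of_comm' hc P
  · push_neg at hc
    obtain ⟨x, y, hxy⟩ := hc
    have hne : x * y * x⁻¹ * y⁻¹ ≠ 1 := by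
      intro h
      apply hxy
      have : x * y = x * y * x⁻¹ * y⁻¹ * (y * x) := by group
      rw [this, h, one_mul]
    have : ∃ K ∈ S, x * y * x⁻¹ * y⁻¹ ∉ K := by
      by_contra hcon
      push_neg at hcon
      exact hne (hinf _ hcon)
    obtain ⟨K, hKS, hK⟩ := this
    haveI : K.Normal := hnorm K hKS
    obtain ⟨Abar, hab, hcard, hindex⟩ := hquot K hKS
    set AK : Subgroup G := Abar.comap (QuotientGroup.mk' K) with hAK
    have hAKtop : AK ≠ ⊤ := by
      intro htop
      apply hK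
      have hx : (QuotientGroup.mk' K x) ∈ Abar := by
        have : x ∈ AK := by rw [htop]; trivial
        exact this
      have hy : (QuotientGroup.mk' K y) ∈ Abar := by
        have : y ∈ AK := by rw [htop]; trivial
        exact this
      have h1 := hab _ hx _ hy
      rw [← QuotientGroup.eq_one_iff]
      have h2 : ((x * y * x⁻¹ * y⁻¹ : G) : G ⧸ K) =
          QuotientGroup.mk' K x * QuotientGroup.mk' K y * (QuotientGroup.mk' K x)⁻¹ *
            (QuotientGroup.mk' K y)⁻¹ := by
        simp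
      rw [h2, h1]
      group
    have hidx : AK.index = Abar.index :=
      Subgroup.index_comap_of_surjective Abar (QuotientGroup.mk'_surjective K)
    obtain ⟨A, hle, hAcard, hArel⟩ := hIH AK hAKtop
    refine ⟨A, hAcard, ?_⟩
    intro q hq hdvd
    rw [← Subgroup.relIndex_mul_index hle] at hdvd
    rcases (Nat.Prime.dvd_mul hq).1 hdvd with h | h
    · exact hArel q hq h
    · rw [hidx] at h
      exact hindex q hq h

end Cfsg.Agent.Helper32.Blich
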