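import Mathlib
import Cfsg.Agent.Helper3.Cov2P4Defs

/-!
# (K0) for helper3's S2500 part (4) (helper32): an element of `SU_n(q)` mapping a subspace into itself
stabilises it
-/

set_option autoImplicit false

namespace Cfsg.Agent.Helper32.Cov2P4

open Polynomial Module Matrix Cfsg.Agent.Helper3.Cov2

variable {F : Type*} [Field F] [Fintype F] {q : ℕ}

/-- (K0) -/
theorem mem_stabSU_of_forall {n : ℕ} (W : Submodule F (Fin n → F)) (A : Cfsg.SU n F q)
    (h : ∀ v ∈ W, (A.1.1 : Matrix (Fin n) (Fin n) F) *ᵥ v ∈ W) : A ∈ stabSU W := by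
  rw [mem_stabSU]
  have hdet : (A.1.1 : Matrix (Fin n) (Fin n) F).det = 1 := A.1.2
  have hunit : IsUnit (A.1.1 : Matrix (Fin n) (Fin n) F) := by
    rw [Matrix.isUnit_iff_isUnit_det, hdet]
    exact isUnit_one
  have hinj : Function.Injective (Matrix.toLin' (A.1.1 : Matrix (Fin n) (Fin n) F)) := by
    have := (Matrix.mulVec_injective_iff_isUnit (A := (A.1.1 : Matrix (Fin n) (Fin n) F))).2 hunit
    intro x y hxy
    apply this
    simpa [Matrix.toLin'_apply] using hxy
  have hle : W.map (Matrix.toLin' (A.1.1 : Matrix (Fin n) (Fin n) F)) ≤ W := by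
    rintro _ ⟨w, hw, rfl⟩
    rw [Matrix.toLin'_apply]
    exact h w hw
  have hrank : finrank F (W.map (Matrix.toLin' (A.1.1 : Matrix (Fin n) (Fin n) F))) = finrank F W :=
    LinearEquiv.finrank_eq (Submodule.equivMapOfInjective _ hinj W).symm
  have heq : W.map (Matrix.toLin' (A.1.1 : Matrix (Fin n) (Fin n) F)) = W :=
    Submodule.eq_of_le_of_finrank_eq hle hrank
  intro v
  constructor
  · intro hv
    rw [← heq] at hv
    obtain ⟨w, hw, hwv⟩ := hv
    rw [Matrix.toLin'_apply] at hwv
    have : w = v := by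
      apply hinj
      rw [Matrix.toLin'_apply, Matrix.toLin'_apply, hwv]
    rwa [← this]
  · exact h v

end Cfsg.Agent.Helper32.Cov2P4
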