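import Mathlib
import Cfsg.Agent.S0700
import Cfsg.Agent.S0496
import Cfsg.Agent.Helper17.PrimeDegree

/-!
# (R660) of S0679 (helper54's farm #8994): a 2-transitive group of degree 11 and order 660
without a normal Sylow 11-subgroup is simple
-/

set_option autoImplicit false

namespace Cfsg.Agent.Helper32.D11

open Equiv MulAction

variable {α : Type*} [Fintype α] [DecidableEq α]

theorem exists_minimal_normal_aux {H : Type*} [Group H] [Finite H] [Nontrivial H] :
    ∃ N : Subgroup H, N.Normal ∧ N ≠ ⊥ ∧
      ∀ M : Subgroup H, M.Normal → M ≤ N → M = ⊥ ∨ M = N := by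
  obtain ⟨N, hN⟩ := exists_minimal_of_wellFoundedLT (fun N : Subgroup H => N.Normal ∧ N ≠ ⊥)
    ⟨⊤, inferInstance, top_ne_bot⟩
  refine ⟨N, hN.prop.1, hN.prop.2, fun M hM hMN => ?_⟩
  by_cases h : M = ⊥
  · exact Or.inl h
  · exact Or.inr (le_antisymm hMN (hN.le_of_le ⟨hM, h⟩ hMN))

/-- a normal subgroup of order `11` forces a unique Sylow `11`-subgroup -/
theorem card_sylow_eq_one_of_normal_card [Fact (Nat.Prime 11)] {H : Type*} [Group H] [Finite H]
    (hH : ∀ P : Sylow 11 H, Nat.card (P : Subgroup H) = 11)
    (M : Subgroup H) [hMn : M.Normal] (hM : Nat.card M = 11) : Nat.card (Sylow 11 H) = 1 := by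
  have hp : IsPGroup 11 M := IsPGroup.of_card (n := 1) (by rw [hM, pow_one])
  obtain ⟨Q, hQ⟩ := hp.exists_le_sylow
  have hMQ : M = (Q : Subgroup H) := by
    apply Subgroup.eq_of_le_of_card_ge hQ
    rw [hH Q, hM]
  have hQn : (Q : Subgroup H).Normal := hMQ ▸ hMn
  have := Sylow.unique_of_normal Q hQn
  exact Nat.card_unique

/-- (R660) -/
theorem simple_of_card_660 [Fact (Nat.Prime 11)] (hα : Fintype.card α = 11)
    (G : Subgroup (Perm α)) (h2 : IsMultiplyPretransitive G α 2) (hcard : Nat.card G = 660)
    (hsyl : Nat.card (Sylow 11 G) ≠ 1) : IsSimpleGroup G := by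
  classical
  have hnt : Nontrivial G := by
    rw [← Finite.one_lt_card_iff_nontrivial, hcard]
    norm_num
  have htr : IsPretransitive G α := isPretransitive_of_is_two_pretransitive
  obtain ⟨M, hMn, hMne, hmin⟩ := exists_minimal_normal_aux (H := G)
  have h11M : 11 ∣ Nat.card M := Cfsg.Agent.Helper17.prime_dvd_card_normal hα M hMne
  have hMdvd : Nat.card M ∣ 660 := hcard ▸ Subgroup.card_subgroup_dvd_card M
  have hsylcard : ∀ P : Sylow 11 G, Nat.card (P : Subgroup G) = 11 :=
    fun P => Cfsg.Agent.Helper17.card_sylow_of_prime_degree hα P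
  -- order 11 is impossible
  have hne11 : Nat.card M ≠ 11 := fun h =>
    hsyl (card_sylow_eq_one_of_normal_card hsylcard M h)
  rcases Cfsg.Agent.S0700.result G h2 M hMne hmin with ⟨_, _, hreg⟩ | ⟨hsimple, _⟩
  · -- semiregular: `|M| ≤ 11`
    exfalso
    have hne : Nonempty α := by
      rw [← Fintype.card_pos_iff, hα]
      norm_num
    obtain ⟨a⟩ := hne
    have h1 := MulAction.index_stabilizer (G := M) (x := a)
    rw [hreg a, Subgroup.index_bot] at h1
    have h4 : Nat.card M ≤ 11 := by
      rw [h1, ← hα, ← Nat.card_eq_fintype_card]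
      exact Set.ncard_le_card _
    have hpos : 0 < Nat.card M := Nat.card_pos
    obtain ⟨k, hk⟩ := h11M
    apply hne11
    have : k = 1 := by
      rcases k with _ | _ | k <;> omega
    rw [hk, this]
  · -- simple
    haveI := hsimple
    by_cases hprime : (Nat.card M).Prime
    · -- prime order, divisible by 11
      exfalso
      exact hne11 (((Nat.prime_dvd_prime_iff_eq (Fact.out : Nat.Prime 11) hprime).mp h11M).symm)
    · have hcomm : ¬ IsMulCommutative M :=
        Cfsg.Agent.Helper17.not_comm_of_simple_of_not_prime hprime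
      have hle : Nat.card M ≤ 1092 := by
        have := Nat.le_of_dvd (by norm_num) hMdvd
        omega
      have hcases := Cfsg.Agent.S0496.result (G := M) hcomm hle
      have h660 : Nat.card M = 660 := by
        rcases hcases with h | h | h | h | h | h
        · rw [h] at h11M; omega
        · rw [h] at h11M; omega
        · rw [h] at h11M; omega
        · rw [h] at h11M; omega
        · exact h
        · rw [h] at hMdvd; omega
      have htop : M = ⊤ := by
        apply Subgroup.eq_top_of_card_eq
        rw [h660, hcard]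
      subst htop
      exact (Subgroup.topEquiv (G := G)).symm.isSimpleGroup

end Cfsg.Agent.Helper32.D11
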