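import Mathlib
import Cfsg.Agent.Helper12.Deg7Aux
import Cfsg.Agent.Helper17.PrimeDegree

/-!
# (S11) of S0679 (helper54's farm #8994): the Sylow 11-normaliser of an even non-solvable
transitive group of degree 11 has order 55
-/

set_option autoImplicit false

namespace Cfsg.Agent.Helper32.D11

open Equiv MulAction
open Cfsg.Agent.Helper12

variable {α : Type*} [Fintype α] [DecidableEq α]

/-- (S11) -/
theorem card_eq_55_mul [Fact (Nat.Prime 11)] (hα : Fintype.card α = 11) (G : Subgroup (Perm α))
    [IsPretransitive G α] (hG : ¬ Group.IsSolvable G)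
    (hev : ∀ g ∈ G, Perm.sign g = 1) :
    Nat.card G = 55 * Nat.card (Sylow 11 G) := by
  classical
  obtain ⟨P⟩ : Nonempty (Sylow 11 G) := inferInstance
  obtain ⟨hPcard, hd10, hNcard⟩ := PDNorm.card_normalizer hα G P
  set d := ((P : Subgroup G).subgroupOf
    (Subgroup.normalizer ((P : Subgroup G) : Set G))).index with hd
  have hn11idx : Nat.card (Sylow 11 G) =
      (Subgroup.normalizer ((P : Subgroup G) : Set G)).index :=
    P.card_eq_index_normalizer
  have hN : Nat.card G = 11 * d * Nat.card (Sylow 11 G) := by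
    rw [hn11idx, ← hNcard]
    exact (Subgroup.card_mul_index _).symm
  have hd_cases : d = 1 ∨ d = 2 ∨ d = 5 ∨ d = 10 := by
    have h1110 : 11 - 1 = 10 := rfl
    rw [h1110] at hd10
    have key : ∀ m : ℕ, m ∣ 10 → m = 1 ∨ m = 2 ∨ m = 5 ∨ m = 10 := by
      intro m hm
      have hle : m ≤ 10 := Nat.le_of_dvd (by norm_num) hm
      interval_cases m <;> revert hm <;> decide
    exact key d hd10
  -- the even case: an odd involution
  have heven_case : Even d → False := by
    intro hdeven
    have hNeven : Even (Nat.card (Subgroup.normalizer ((P : Subgroup G) : Set G))) := by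
      rw [hNcard]
      exact hdeven.mul_left 11
    obtain ⟨σ, τ, hσ, hτ2, hτ1, k, hτσ⟩ := SylowInvol.sylow_invol hα G P hNeven
    have hσ' : orderOf σ.1 = 11 := by
      rw [← hσ]
      exact Subgroup.orderOf_coe σ
    have hτ2' : τ.1 * τ.1 = 1 := by
      rw [← Subgroup.coe_mul, hτ2, Subgroup.coe_one]
    have hτ1' : τ.1 ≠ 1 := fun h => hτ1 (Subtype.ext h)
    have hτσ' : τ.1 * σ.1 * τ.1⁻¹ = σ.1 ^ k := by
      rw [← Subgroup.coe_inv, ← Subgroup.coe_mul, ← Subgroup.coe_mul, hτσ, Subgroup.coe_pow]
    obtain ⟨e, c, hσlab, hτlab⟩ :=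
      SylowInvol.exists_label_invol hα (by norm_num) σ.1 τ.1 hσ' hτ2' hτ1' k hτσ'
    have hsign : Equiv.Perm.sign τ.1 = -1 := by
      rw [PDNorm.sign_reflection hα (by norm_num) e c τ.1 hτlab]
      decide
    have h1 := hev τ.1 τ.2
    rw [hsign] at h1
    exact absurd h1 (by decide)
  rcases hd_cases with h1 | h2 | h5 | h10
  · exfalso
    have hNleP : Subgroup.normalizer ((P : Subgroup G) : Set G) ≤ (P : Subgroup G) :=
      Subgroup.subgroupOf_eq_top.mp (Subgroup.index_eq_one.mp h1)
    have : IsCyclic (P : Subgroup G) := isCyclic_of_prime_card hPcard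
    have hNP : Subgroup.normalizer ((P : Subgroup G) : Set G) ≤
        Subgroup.centralizer ((P : Subgroup G) : Set G) := by
      intro g hg
      have hgP := hNleP hg
      rw [Subgroup.mem_centralizer_iff]
      intro h hh
      have := mul_comm' (⟨h, hh⟩ : (P : Subgroup G)) ⟨g, hgP⟩
      exact congrArg Subtype.val this
    have hcompl := MonoidHom.ker_transferSylow_isComplement' P hNP
    have hnd : ¬ 11 ∣ Nat.card (MonoidHom.transferSylow P hNP).ker :=
      MonoidHom.not_dvd_card_ker_transferSylow P hNP
    have hKbot : (MonoidHom.transferSylow P hNP).ker = ⊥ := by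
      by_contra hne
      exact hnd (Cfsg.Agent.Helper17.prime_dvd_card_normal hα _ hne)
    have hcardG : Nat.card G = 11 := by
      have := hcompl.card_mul_card
      rw [hKbot, Subgroup.card_bot, one_mul, hPcard] at this
      exact this.symm
    apply hG
    have : IsCyclic G := isCyclic_of_prime_card hcardG
    exact Group.isSolvable_of_comm (fun a b => mul_comm' a b)
  · exact absurd (by rw [h2]; decide) heven_case
  · rw [hN, h5]
  · exact absurd (by rw [h10]; decide) heven_case

end Cfsg.Agent.Helper32.D11
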