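import Cfsg.Agent.Helper40.E6Tor.Defs

/-!
# (EIGCOX) for helper40's S2373 farm E6Tor (helper32): an element of `W(E₆)` with an eigenvector
mod `r` whose eigenvalue has order `12` is Coxeter-like
-/

set_option autoImplicit false
set_option linter.unusedVariables false

namespace Cfsg.Agent.Helper32.E6Tor

open Cfsg Cfsg.Lie Cfsg.Agent.Helper36.TorD Cfsg.Agent.Helper40.E6Tor
open Polynomial

/-- (EIGCOX) an element of `W(E₆)` with an eigenvector mod `r` whose eigenvalue has order `12` is
Coxeter-like -/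
theorem coxLike_of_eigen {r : ℕ} [Fact r.Prime] (M : Matrix (Fin 6) (Fin 6) ℤ) (hM : WeylAlt M)
    (v : Fin 6 → ZMod r) (hv : v ≠ 0) (lam : ZMod r) (hlam : orderOf lam = 12)
    (heig : Matrix.vecMul v (M.map (Int.cast : ℤ → ZMod r)) = lam • v) : CoxLike M := by
  obtain ⟨i, hi⟩ : ∃ i, v i ≠ 0 := by
    by_contra hne
    push Not at hne
    exact hv (funext hne)
  obtain ⟨φ, hφ⟩ : ∃ φ : Matrix (Fin 6) (Fin 6) ℤ →+* Matrix (Fin 6) (Fin 6) (ZMod r),
      ∀ X, φ X = X.map (Int.cast : ℤ → ZMod r) :=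
    ⟨(Int.castRingHom (ZMod r)).mapMatrix, fun X => rfl⟩
  rw [← hφ] at heig
  have hpow : ∀ k : ℕ, Matrix.vecMul v (φ M ^ k) = lam ^ k • v := by
    intro k
    induction k with
    | zero => rw [pow_zero, pow_zero, Matrix.vecMul_one, one_smul]
    | succ k ih =>
      rw [pow_succ, ← Matrix.vecMul_vecMul, ih, Matrix.smul_vecMul, heig, smul_smul, ← pow_succ]
  have hord : ∀ k : ℕ, lam ^ k = 1 → 12 ∣ k := by
    intro k hk
    rw [← hlam]
    exact orderOf_dvd_of_pow_eq_one hk
  have hone : ∀ k : ℕ, M ^ k = 1 → lam ^ k = 1 := by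
    intro k hk
    have h1 := congrArg φ hk
    rw [map_pow, map_one] at h1
    have h2 := congrArg (fun X => Matrix.vecMul v X i) h1
    simp only [hpow, Matrix.vecMul_one, Pi.smul_apply, smul_eq_mul] at h2
    have h3 : (lam ^ k - 1) * v i = 0 := by linear_combination h2
    rcases mul_eq_zero.1 h3 with h4 | h4
    · exact sub_eq_zero.1 h4
    · exact absurd h4 hi
  unfold WeylAlt at hM
  rcases hM with h | h | h | h | h
  · exfalso
    have := hord 8 (hone 8 h)
    omega
  · exfalso
    have := hord 9 (hone 9 h)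
    omega
  · exfalso
    have := hord 10 (hone 10 h)
    omega
  · exfalso
    have h1 := congrArg φ h
    rw [map_add, map_sub, map_sub, map_pow, map_pow, map_pow, map_one, map_zero] at h1
    have h2 := congrArg (fun X => Matrix.vecMul v X i) h1
    simp only [Matrix.vecMul_add, Matrix.vecMul_sub, hpow, Matrix.vecMul_one, Matrix.vecMul_zero,
      Pi.add_apply, Pi.sub_apply, Pi.smul_apply, Pi.zero_apply, smul_eq_mul] at h2
    have h3 : (lam ^ 4 - 1) * (lam ^ 6 - 1) * v i = 0 := by linear_combination h2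
    rcases mul_eq_zero.1 h3 with h4 | h4
    · rcases mul_eq_zero.1 h4 with h5 | h5
      · have := hord 4 (sub_eq_zero.1 h5)
        omega
      · have := hord 6 (sub_eq_zero.1 h5)
        omega
    · exact hi h4
  · exact h

end Cfsg.Agent.Helper32.E6Tor
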