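import Cfsg.Agent.Helper40.E6Tor.Defs

/-!
# (WINV) for helper40's S2373 farm E6Tor (helper32): `WeylAlt` is invariant under conjugation
-/

set_option autoImplicit false
set_option linter.unusedVariables false

namespace Cfsg.Agent.Helper32.E6Tor

open Cfsg Cfsg.Lie Cfsg.Agent.Helper36.TorD Cfsg.Agent.Helper40.E6Tor

/-- (WINV) `WeylAlt` is invariant under conjugation -/
theorem weylAlt_conj {n : Type*} [Fintype n] [DecidableEq n] (M U V : Matrix n n ℤ)
    (hUV : U * V = 1) (hVU : V * U = 1) (h : WeylAlt (V * M * U)) : WeylAlt M := by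
  -- the conjugation `f X = V X U` and its inverse
  have hpow : ∀ k : ℕ, (V * M * U) ^ k = V * M ^ k * U := by
    intro k
    induction k with
    | zero => rw [pow_zero, pow_zero, Matrix.mul_one, hVU]
    | succ k ih =>
      rw [pow_succ, ih, pow_succ]
      calc V * M ^ k * U * (V * M * U) = V * M ^ k * (U * V) * M * U := by
            simp only [Matrix.mul_assoc]
        _ = V * (M ^ k * M) * U := by rw [hUV, Matrix.mul_one, Matrix.mul_assoc V]
  have hback : ∀ X : Matrix n n ℤ, U * (V * X * U) * V = X := by
    intro X
    calc U * (V * X * U) * V = (U * V) * X * (U * V) := by simp only [Matrix.mul_assoc]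
      _ = X := by rw [hUV, Matrix.one_mul, Matrix.mul_one]
  have hinj : ∀ X : Matrix n n ℤ, V * X * U = 0 → X = 0 := by
    intro X hX
    rw [← hback X, hX, Matrix.mul_zero, Matrix.zero_mul]
  have hone : V * (1 : Matrix n n ℤ) * U = 1 := by rw [Matrix.mul_one, hVU]
  have hinj1 : ∀ X : Matrix n n ℤ, V * X * U = 1 → X = 1 := by
    intro X hX
    rw [← hback X, hX, Matrix.mul_one, hUV]
  unfold WeylAlt at h ⊢
  rcases h with h | h | h | h | h
  · left
    rw [hpow] at h
    exact hinj1 _ h
  · right; left
    rw [hpow] at h
    exact hinj1 _ h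
  · right; right; left
    rw [hpow] at h
    exact hinj1 _ h
  · right; right; right; left
    apply hinj
    rw [← h, hpow, hpow, hpow]
    simp only [Matrix.mul_add, Matrix.mul_sub, Matrix.add_mul, Matrix.sub_mul, hone]
  · right; right; right; right
    unfold CoxLike at h ⊢
    obtain ⟨h1, h2, h3⟩ := h
    refine ⟨?_, ?_, ?_⟩
    · apply hinj
      rw [← h1, hpow, hpow, hpow]
      simp only [Matrix.mul_add, Matrix.mul_sub, Matrix.add_mul, Matrix.sub_mul, hone]
    · intro h0
      apply h2
      rw [hpow, hpow]
      have := congrArg (fun X => V * X * U) h0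
      simp only [Matrix.mul_add, Matrix.mul_sub, Matrix.add_mul, Matrix.sub_mul, hone,
        Matrix.mul_zero, Matrix.zero_mul] at this
      exact this
    · intro h0
      apply h3
      rw [hpow]
      have := congrArg (fun X => V * X * U) h0
      simp only [Matrix.mul_add, Matrix.mul_sub, Matrix.add_mul, Matrix.sub_mul, hone,
        Matrix.mul_zero, Matrix.zero_mul] at this
      exact this

end Cfsg.Agent.Helper32.E6Tor
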