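import Mathlib

/-!
# Piece (EE1b) of board post #6806 (helper45, S5988), abstract part: lines through a vector
of norm one in a finite quadratic space.
-/

set_option autoImplicit false

namespace Cfsg.Agent.Helper32.Ell

universe u v

variable {F : Type u} [Field F] [Fintype F]
variable {W : Type v} [AddCommGroup W] [Module F W]

omit [Fintype F] in
/-- the restriction of `Q` to the line `v + F u`, `Q u = 1` -/
theorem q_line (Q : QuadraticForm F W) (u v : W) (hu : Q u = 1) (s : F) :
    Q (s • u + v) = s * s + s * QuadraticMap.polar Q u v + Q v := by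
  have h1 : Q (s • u + v) = Q (s • u) + Q v + QuadraticMap.polar Q (s • u) v := by
    unfold QuadraticMap.polar; ring
  rw [h1, QuadraticMap.map_smul, QuadraticMap.polar_smul_left, hu]
  simp only [smul_eq_mul]; ring

omit [Fintype F] in
/-- if two distinct points of the line `v + F u` are singular, the polar form is determined -/
theorem polar_of_two_roots (Q : QuadraticForm F W) (u v : W) (hu : Q u = 1) {s s' : F}
    (hss : s ≠ s') (h1 : Q (s • u + v) = 0) (h2 : Q (s' • u + v) = 0) :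
    QuadraticMap.polar Q u (s • u + v) = s - s' := by
  have h3 : s' • u + v = (s' - s) • u + (s • u + v) := by
    rw [sub_smul]; abel
  rw [h3, q_line Q u _ hu, h1, add_zero] at h2
  have h4 : (s' - s) * ((s' - s) + QuadraticMap.polar Q u (s • u + v)) = 0 := by
    linear_combination h2
  rcases mul_eq_zero.1 h4 with h5 | h5
  · exact absurd (sub_eq_zero.1 h5).symm hss
  · linear_combination h5

omit [Fintype F] in
/-- a monic quadratic has at most two roots -/
theorem card_roots_le_two [DecidableEq F] (b c : F) (R : Finset F)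
    (hR : ∀ s ∈ R, s * s + s * b + c = 0) : R.card ≤ 2 := by
  by_cases h : R = ∅
  · rw [h]; simp
  obtain ⟨s₁, hs₁⟩ := Finset.nonempty_iff_ne_empty.2 h
  have h1 : s₁ * s₁ + s₁ * b + c = 0 := hR s₁ hs₁
  have hsub : R ⊆ {s₁, -b - s₁} := by
    intro s hs
    have h2 : s * s + s * b + c = 0 := hR s hs
    rw [Finset.mem_insert, Finset.mem_singleton]
    by_cases hss : s = s₁
    · left; exact hss
    · right
      have h3 : (s - s₁) * (s + s₁ + b) = 0 := by linear_combination h2 - h1
      rcases mul_eq_zero.1 h3 with h4 | h4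
      · exact absurd (sub_eq_zero.1 h4) hss
      · linear_combination h4
  exact (Finset.card_le_card hsub).trans Finset.card_le_two

variable [Finite W]

/-- the pairs (point of the line, parameter) with singular point -/
noncomputable def lineEquiv1 (Q : QuadraticForm F W) (u : W) :
    {p : W × F // Q (p.2 • u + p.1) = 0} ≃ {w : W // Q w = 0} × F where
  toFun p := (⟨p.1.2 • u + p.1.1, p.2⟩, p.1.2)
  invFun x := ⟨(x.1.1 - x.2 • u, x.2), by
    have : x.2 • u + (x.1.1 - x.2 • u) = x.1.1 := by abel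
    show Q (x.2 • u + (x.1.1 - x.2 • u)) = 0
    rw [this]; exact x.1.2⟩
  left_inv p := by
    apply Subtype.ext
    apply Prod.ext
    · show p.1.2 • u + p.1.1 - p.1.2 • u = p.1.1
      abel
    · rfl
  right_inv x := by
    apply Prod.ext
    · apply Subtype.ext
      show x.2 • u + (x.1.1 - x.2 • u) = x.1.1
      abel
    · rfl

/-- the triples (point, two distinct parameters giving singular vectors) -/
noncomputable def lineEquiv2 (Q : QuadraticForm F W) (u : W) (hu : Q u = 1) :
    {p : W × (F × F) // p.2.1 ≠ p.2.2 ∧ Q (p.2.1 • u + p.1) = 0 ∧ Q (p.2.2 • u + p.1) = 0} ≃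
      {w : W // Q w = 0 ∧ QuadraticMap.polar Q u w ≠ 0} × F where
  toFun p := (⟨p.1.2.1 • u + p.1.1, p.2.2.1, by
    rw [polar_of_two_roots Q u p.1.1 hu p.2.1 p.2.2.1 p.2.2.2]
    exact sub_ne_zero.2 p.2.1⟩, p.1.2.1)
  invFun x := ⟨(x.1.1 - x.2 • u, (x.2, x.2 - QuadraticMap.polar Q u x.1.1)), by
    have h0 : x.2 • u + (x.1.1 - x.2 • u) = x.1.1 := by abel
    refine ⟨?_, ?_, ?_⟩
    · show x.2 ≠ x.2 - QuadraticMap.polar Q u x.1.1
      intro h
      apply x.1.2.2
      linear_combination h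
    · show Q (x.2 • u + (x.1.1 - x.2 • u)) = 0
      rw [h0]; exact x.1.2.1
    · show Q ((x.2 - QuadraticMap.polar Q u x.1.1) • u + (x.1.1 - x.2 • u)) = 0
      have h1 : (x.2 - QuadraticMap.polar Q u x.1.1) • u + (x.1.1 - x.2 • u) =
          (-QuadraticMap.polar Q u x.1.1) • u + x.1.1 := by
        rw [sub_smul, neg_smul]; abel
      rw [h1, q_line Q u _ hu, x.1.2.1]
      ring⟩
  left_inv p := by
    apply Subtype.ext
    apply Prod.ext
    · show p.1.2.1 • u + p.1.1 - p.1.2.1 • u = p.1.1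
      abel
    · apply Prod.ext
      · rfl
      · show p.1.2.1 - QuadraticMap.polar Q u (p.1.2.1 • u + p.1.1) = p.1.2.2
        rw [polar_of_two_roots Q u p.1.1 hu p.2.1 p.2.2.1 p.2.2.2]
        ring
  right_inv x := by
    apply Prod.ext
    · apply Subtype.ext
      show x.2 • u + (x.1.1 - x.2 • u) = x.1.1
      abel
    · rfl


/-- Lemma A: the lines through `v` in direction `u` (`Q u = 1`) without singular points -/
theorem two_card_good (Q : QuadraticForm F W) (u : W) (hu : Q u = 1) :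
    2 * Nat.card {v : W // ∀ s : F, Q (s • u + v) ≠ 0} +
        2 * (Nat.card {w : W // Q w = 0} * Fintype.card F) =
      2 * Nat.card W +
        Nat.card {w : W // Q w = 0 ∧ QuadraticMap.polar Q u w ≠ 0} * Fintype.card F := by
  classical
  haveI : Fintype W := Fintype.ofFinite W
  let R : W → Finset F := fun v => Finset.univ.filter (fun s => Q (s • u + v) = 0)
  have hmem : ∀ v s, s ∈ R v ↔ Q (s • u + v) = 0 := by intro v s; simp [R]
  have ha : ∀ v, (R v).card ≤ 2 := by
    intro v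
    apply card_roots_le_two (QuadraticMap.polar Q u v) (Q v)
    intro s hs
    rw [← q_line Q u v hu]; exact (hmem v s).1 hs
  have hT1 : Nat.card {w : W // Q w = 0} * Fintype.card F = ∑ v : W, (R v).card := by
    rw [← Nat.card_eq_fintype_card (α := F), ← Nat.card_prod, ← Nat.card_congr (lineEquiv1 Q u),
      Nat.card_congr (Equiv.subtypeProdEquivSigmaSubtype
        (fun (v : W) (s : F) => Q (s • u + v) = 0)),
      Nat.card_eq_fintype_card, Fintype.card_sigma]
    refine Finset.sum_congr rfl fun v _ => ?_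
    rw [Fintype.card_subtype]
  have hT2 : Nat.card {w : W // Q w = 0 ∧ QuadraticMap.polar Q u w ≠ 0} * Fintype.card F =
      ∑ v : W, ((R v).card * (R v).card - (R v).card) := by
    rw [← Nat.card_eq_fintype_card (α := F), ← Nat.card_prod,
      ← Nat.card_congr (lineEquiv2 Q u hu),
      Nat.card_congr (Equiv.subtypeProdEquivSigmaSubtype
        (fun (v : W) (ss : F × F) => ss.1 ≠ ss.2 ∧ Q (ss.1 • u + v) = 0 ∧ Q (ss.2 • u + v) = 0)),
      Nat.card_eq_fintype_card, Fintype.card_sigma]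
    refine Finset.sum_congr rfl fun v _ => ?_
    rw [Fintype.card_subtype, ← Finset.offDiag_card]
    congr 1
    ext ss
    simp only [Finset.mem_filter, Finset.mem_univ, true_and, Finset.mem_offDiag, hmem]
    tauto
  have hG : Nat.card {v : W // ∀ s : F, Q (s • u + v) ≠ 0} =
      ∑ v : W, if (R v).card = 0 then 1 else 0 := by
    rw [Nat.card_eq_fintype_card, Fintype.card_subtype, Finset.card_filter]
    refine Finset.sum_congr rfl fun v _ => ?_
    have : (∀ s : F, Q (s • u + v) ≠ 0) ↔ (R v).card = 0 := by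
      rw [Finset.card_eq_zero, Finset.eq_empty_iff_forall_notMem]
      exact forall_congr' fun s => by rw [hmem]
    simp only [this]
  rw [hG, hT1, hT2, Nat.card_eq_fintype_card, ← Finset.card_univ, Finset.card_eq_sum_ones,
    Finset.mul_sum, Finset.mul_sum, Finset.mul_sum, ← Finset.sum_add_distrib,
    ← Finset.sum_add_distrib]
  refine Finset.sum_congr rfl fun v _ => ?_
  have := ha v
  interval_cases h : (R v).card <;> simp

omit [Fintype F] [Finite W] in
theorem q_comb (Q : QuadraticForm F W) (a b : F) (x y : W) :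
    Q (a • x + b • y) = a * a * Q x + b * b * Q y + a * b * QuadraticMap.polar Q x y := by
  have h1 : Q (a • x + b • y) = Q (a • x) + Q (b • y) + QuadraticMap.polar Q (a • x) (b • y) := by
    unfold QuadraticMap.polar; ring
  rw [h1, QuadraticMap.map_smul, QuadraticMap.map_smul, QuadraticMap.polar_smul_left,
    QuadraticMap.polar_smul_right]
  simp only [smul_eq_mul]; ring

omit [Fintype F] [Finite W] in
theorem polar_comb (Q : QuadraticForm F W) (a b : F) (x y z : W) :
    QuadraticMap.polar Q (a • x + b • y) z =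
      a * QuadraticMap.polar Q x z + b * QuadraticMap.polar Q y z := by
  rw [QuadraticMap.polar_add_left, QuadraticMap.polar_smul_left, QuadraticMap.polar_smul_left]
  simp only [smul_eq_mul]

/-- Lemma B: pairs (norm one vector, singular vector, not orthogonal) against hyperbolic pairs -/
noncomputable def oneSingEquiv (Q : QuadraticForm F W) :
    {p : W × W // Q p.1 = 1 ∧ Q p.2 = 0 ∧ QuadraticMap.polar Q p.1 p.2 ≠ 0} ≃
      Fˣ × {p : W × W // Q p.1 = 0 ∧ Q p.2 = 0 ∧ QuadraticMap.polar Q p.1 p.2 = 1} where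
  toFun p := (Units.mk0 (QuadraticMap.polar Q p.1.1 p.1.2) p.2.2.2,
    ⟨(p.1.2, (QuadraticMap.polar Q p.1.1 p.1.2)⁻¹ • p.1.1 +
      (-((QuadraticMap.polar Q p.1.1 p.1.2)⁻¹ * (QuadraticMap.polar Q p.1.1 p.1.2)⁻¹)) • p.1.2), by
      have hc := p.2.2.2
      refine ⟨p.2.2.1, ?_, ?_⟩
      · show Q ((QuadraticMap.polar Q p.1.1 p.1.2)⁻¹ • p.1.1 +
          (-((QuadraticMap.polar Q p.1.1 p.1.2)⁻¹ * (QuadraticMap.polar Q p.1.1 p.1.2)⁻¹)) • p.1.2) = 0
        rw [q_comb, p.2.1, p.2.2.1]
        field_simp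
        ring
      · show QuadraticMap.polar Q p.1.2 ((QuadraticMap.polar Q p.1.1 p.1.2)⁻¹ • p.1.1 +
          (-((QuadraticMap.polar Q p.1.1 p.1.2)⁻¹ * (QuadraticMap.polar Q p.1.1 p.1.2)⁻¹)) • p.1.2) = 1
        rw [QuadraticMap.polar_comm, polar_comb, QuadraticMap.polar_self, p.2.2.1, smul_zero,
          mul_zero, add_zero, inv_mul_cancel₀ hc]⟩)
  invFun x := ⟨((x.1 : F) • x.2.1.2 + ((x.1 : F))⁻¹ • x.2.1.1, x.2.1.1), by
    have hc : (x.1 : F) ≠ 0 := x.1.ne_zero
    have hxy : QuadraticMap.polar Q x.2.1.2 x.2.1.1 = 1 := by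
      rw [QuadraticMap.polar_comm]; exact x.2.2.2.2
    refine ⟨?_, x.2.2.1, ?_⟩
    · show Q ((x.1 : F) • x.2.1.2 + ((x.1 : F))⁻¹ • x.2.1.1) = 1
      rw [q_comb, x.2.2.1, x.2.2.2.1, hxy]
      field_simp
      ring
    · show QuadraticMap.polar Q ((x.1 : F) • x.2.1.2 + ((x.1 : F))⁻¹ • x.2.1.1) x.2.1.1 ≠ 0
      rw [polar_comb, hxy, QuadraticMap.polar_self, x.2.2.1]
      simp⟩
  left_inv p := by
    have hc := p.2.2.2
    apply Subtype.ext
    apply Prod.ext
    · show (QuadraticMap.polar Q p.1.1 p.1.2) • ((QuadraticMap.polar Q p.1.1 p.1.2)⁻¹ • p.1.1 +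
          (-((QuadraticMap.polar Q p.1.1 p.1.2)⁻¹ * (QuadraticMap.polar Q p.1.1 p.1.2)⁻¹)) • p.1.2)
          + (QuadraticMap.polar Q p.1.1 p.1.2)⁻¹ • p.1.2 = p.1.1
      rw [smul_add, smul_smul, smul_smul, mul_inv_cancel₀ hc, one_smul, add_assoc, ← add_smul]
      have : QuadraticMap.polar Q p.1.1 p.1.2 * -((QuadraticMap.polar Q p.1.1 p.1.2)⁻¹ *
          (QuadraticMap.polar Q p.1.1 p.1.2)⁻¹) + (QuadraticMap.polar Q p.1.1 p.1.2)⁻¹ = 0 := by
        field_simp
        ring
      rw [this, zero_smul, add_zero]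
    · rfl
  right_inv x := by
    have hc : (x.1 : F) ≠ 0 := x.1.ne_zero
    have hxy : QuadraticMap.polar Q x.2.1.2 x.2.1.1 = 1 := by
      rw [QuadraticMap.polar_comm]; exact x.2.2.2.2
    have hpol : QuadraticMap.polar Q ((x.1 : F) • x.2.1.2 + ((x.1 : F))⁻¹ • x.2.1.1) x.2.1.1 =
        (x.1 : F) := by
      rw [polar_comb, hxy, QuadraticMap.polar_self, x.2.2.1]
      simp
    apply Prod.ext
    · apply Units.ext
      exact hpol
    · apply Subtype.ext
      apply Prod.ext
      · rfl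
      · show (QuadraticMap.polar Q ((x.1 : F) • x.2.1.2 + ((x.1 : F))⁻¹ • x.2.1.1) x.2.1.1)⁻¹ •
            ((x.1 : F) • x.2.1.2 + ((x.1 : F))⁻¹ • x.2.1.1) +
          (-((QuadraticMap.polar Q ((x.1 : F) • x.2.1.2 + ((x.1 : F))⁻¹ • x.2.1.1) x.2.1.1)⁻¹ *
            (QuadraticMap.polar Q ((x.1 : F) • x.2.1.2 + ((x.1 : F))⁻¹ • x.2.1.1) x.2.1.1)⁻¹)) •
            x.2.1.1 = x.2.1.2
        rw [hpol, smul_add, smul_smul, smul_smul, inv_mul_cancel₀ hc, one_smul, add_assoc,
          ← add_smul]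
        have : ((x.1 : F))⁻¹ * ((x.1 : F))⁻¹ + -(((x.1 : F))⁻¹ * ((x.1 : F))⁻¹) = 0 := by ring
        rw [this, zero_smul, add_zero]

omit [Finite W] in
theorem card_one_sing_pairs (Q : QuadraticForm F W) :
    Nat.card {p : W × W // Q p.1 = 1 ∧ Q p.2 = 0 ∧ QuadraticMap.polar Q p.1 p.2 ≠ 0} =
      (Fintype.card F - 1) *
        Nat.card {p : W × W // Q p.1 = 0 ∧ Q p.2 = 0 ∧ QuadraticMap.polar Q p.1 p.2 = 1} := by
  classical
  rw [Nat.card_congr (oneSingEquiv Q), Nat.card_prod, Nat.card_eq_fintype_card (α := Fˣ),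
    Fintype.card_units]

end Cfsg.Agent.Helper32.Ell
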