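import Mathlib
import Cfsg.Agent.Helper45.EllDefs
import Cfsg.Agent.Helper94.TpD
import Cfsg.Agent.Helper32.EllEE1bAux

/-!
# Piece (EE1b) of board post #6806 (helper45, S5988): counting the pairs `(u, v)` of a
nondegenerate `2g`-space of type `ε` with `Q u = 1` spanning an anisotropic plane.
-/

set_option autoImplicit false
set_option linter.unusedSectionVars false

namespace Cfsg.Agent.Helper32.Ell

open Module Polynomial
open Cfsg.Agent.Helper59.InvChain Cfsg.Agent.Helper59.Elusive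
open Cfsg.Agent.Helper99.SpStruct Cfsg.Agent.Helper99.RDecomp
open Cfsg.Agent.Helper44 Cfsg.Agent.Helper44.QType
open Cfsg.Agent.Helper99.QSp
open Cfsg.Agent.Helper45.Ell

universe u v

variable {F : Type u} [Field F] [Fintype F]
variable {V : Type v} [AddCommGroup V] [Module F V] [FiniteDimensional F V]

/-- pairs of vectors of a submodule as pairs of the subtype -/
def pairEquiv (X : Submodule F V) (P : V → V → Prop) :
    {p : V × V // p.1 ∈ X ∧ p.2 ∈ X ∧ P p.1 p.2} ≃ {p : ↥X × ↥X // P p.1.1 p.2.1} where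
  toFun p := ⟨(⟨p.1.1, p.2.1⟩, ⟨p.1.2, p.2.2.1⟩), p.2.2.2⟩
  invFun p := ⟨(p.1.1.1, p.1.2.1), p.1.1.2, p.1.2.2, p.2⟩
  left_inv _ := rfl
  right_inv _ := rfl

/-- fibring pairs over the first component -/
def pairSigmaEquiv {α : Type*} (A : α → Prop) (B : α → α → Prop) :
    {p : α × α // A p.1 ∧ B p.1 p.2} ≃ Σ a : {a : α // A a}, {b : α // B a.1 b} where
  toFun p := ⟨⟨p.1.1, p.2.1⟩, ⟨p.1.2, p.2.2⟩⟩
  invFun x := ⟨(x.1.1, x.2.1), x.1.2, x.2.2⟩
  left_inv _ := rfl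
  right_inv _ := rfl

/-- (EE1b) the same pairs, counted by `u` -/
theorem card_ell_pairs (Q : QuadraticForm F V) {X : Submodule F V} (hX : Nd (pB Q) X) {g : ℕ}
    (hg : 1 ≤ g) (hdim : finrank F ↥X = 2 * g) {ε : ℤ} (hε : QType Q X g ε) :
    2 * (Nat.card {p : V × V // p.1 ∈ X ∧ p.2 ∈ X ∧ Q p.1 = 1 ∧
        ∀ s : F, Q (s • p.1 + p.2) ≠ 0} : ℤ) =
      (Fintype.card F : ℤ) * ((Fintype.card F : ℤ) - 1) *
        ((Fintype.card F : ℤ) ^ (2 * g - 2) * ((Fintype.card F : ℤ) ^ g - ε) *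
          ((Fintype.card F : ℤ) ^ (g - 1) - ε)) := by
  classical
  haveI : Finite V := Module.finite_of_finite F
  haveI : Fintype ↥X := Fintype.ofFinite _
  set Q' : QuadraticForm F ↥X := qSub Q X with hQ'
  haveI : Fintype {u : ↥X // Q' u = 1} := Fintype.ofFinite _
  -- the pairs, fibred over `u`
  have hP : Nat.card {p : V × V // p.1 ∈ X ∧ p.2 ∈ X ∧ Q p.1 = 1 ∧
        ∀ s : F, Q (s • p.1 + p.2) ≠ 0} =
      ∑ u : {u : ↥X // Q' u = 1}, Nat.card {v : ↥X // ∀ s : F, Q' (s • u.1 + v) ≠ 0} := by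
    rw [Nat.card_congr (pairEquiv X (fun a b => Q a = 1 ∧ ∀ s : F, Q (s • a + b) ≠ 0)),
      ← Nat.card_sigma]
    exact Nat.card_congr (pairSigmaEquiv (fun a : ↥X => Q' a = 1)
      (fun (a b : ↥X) => ∀ s : F, Q' (s • a + b) ≠ 0))
  -- the (norm one, singular, non-orthogonal) pairs, fibred over `u`
  have hS : (Fintype.card F - 1) * Nat.card {p : V × V // IsQPair Q p ∧ p.1 ∈ X ∧ p.2 ∈ X} =
      ∑ u : {u : ↥X // Q' u = 1},
        Nat.card {w : ↥X // Q' w = 0 ∧ QuadraticMap.polar Q' u.1 w ≠ 0} := by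
    rw [← Nat.card_sigma, ← Nat.card_congr (pairSigmaEquiv (fun a : ↥X => Q' a = 1)
      (fun (a b : ↥X) => Q' b = 0 ∧ QuadraticMap.polar Q' a b ≠ 0)), card_one_sing_pairs Q']
    congr 1
    refine Nat.card_congr (Equiv.trans (Equiv.subtypeEquivRight (fun p => ?_))
      (pairEquiv X (fun a b => Q a = 0 ∧ Q b = 0 ∧ QuadraticMap.polar Q a b = 1)))
    unfold IsQPair
    rw [pB_apply]
    tauto
  -- Lemma A for every `u`
  have hA : ∀ u : {u : ↥X // Q' u = 1},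
      2 * Nat.card {v : ↥X // ∀ s : F, Q' (s • u.1 + v) ≠ 0} +
        2 * (Nat.card {w : ↥X // Q' w = 0} * Fintype.card F) =
      2 * Nat.card ↥X +
        Nat.card {w : ↥X // Q' w = 0 ∧ QuadraticMap.polar Q' u.1 w ≠ 0} * Fintype.card F :=
    fun u => two_card_good Q' u.1 u.2
  have hsum : 2 * ∑ u : {u : ↥X // Q' u = 1},
        Nat.card {v : ↥X // ∀ s : F, Q' (s • u.1 + v) ≠ 0} +
      Fintype.card {u : ↥X // Q' u = 1} * (2 * (Nat.card {w : ↥X // Q' w = 0} * Fintype.card F)) =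
      Fintype.card {u : ↥X // Q' u = 1} * (2 * Nat.card ↥X) +
        (∑ u : {u : ↥X // Q' u = 1},
          Nat.card {w : ↥X // Q' w = 0 ∧ QuadraticMap.polar Q' u.1 w ≠ 0}) * Fintype.card F := by
    rw [Finset.mul_sum, Finset.sum_mul]
    have h1 : ∀ c : ℕ, Fintype.card {u : ↥X // Q' u = 1} * c =
        ∑ _u : {u : ↥X // Q' u = 1}, c := by
      intro c; rw [Finset.sum_const, Finset.card_univ, smul_eq_mul]
    rw [h1, h1, ← Finset.sum_add_distrib, ← Finset.sum_add_distrib]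
    exact Finset.sum_congr rfl fun u _ => hA u
  rw [← hP, ← hS] at hsum
  -- the numbers
  have hn1 := fc_one_mul Q' hdim (qSub_nd Q hX) hε
  have hZ : (fc (⇑Q') 0 : ℤ) * (Nat.card F : ℤ) = (Nat.card F : ℤ) ^ (2 * g) +
      ε * ((Nat.card F : ℤ) ^ (g + 1) - (Nat.card F : ℤ) ^ g) := hε
  have hπ := Cfsg.Agent.Helper99.QSpGlue.card_qpairs Q hX hg hdim hε
  have hcardX : Nat.card ↥X = Fintype.card F ^ (2 * g) := by
    rw [Module.natCard_eq_pow_finrank (K := F), hdim, Nat.card_eq_fintype_card]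
  have hfc1 : fc (⇑Q') 1 = Fintype.card {u : ↥X // Q' u = 1} := by
    unfold fc; rw [Nat.card_eq_fintype_card]
  have hfc0 : fc (⇑Q') 0 = Nat.card {w : ↥X // Q' w = 0} := rfl
  rw [Nat.card_eq_fintype_card] at hn1 hZ
  rw [hfc1] at hn1
  rw [hfc0] at hZ
  have hq1 : 1 ≤ Fintype.card F := Fintype.card_pos
  have hsumZ : (2 * (Nat.card {p : V × V // p.1 ∈ X ∧ p.2 ∈ X ∧ Q p.1 = 1 ∧
        ∀ s : F, Q (s • p.1 + p.2) ≠ 0} : ℤ) +
      (Fintype.card {u : ↥X // Q' u = 1} : ℤ) *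
        (2 * ((Nat.card {w : ↥X // Q' w = 0} : ℤ) * (Fintype.card F : ℤ))) =
      (Fintype.card {u : ↥X // Q' u = 1} : ℤ) * (2 * (Fintype.card F : ℤ) ^ (2 * g)) +
        (((Fintype.card F : ℤ) - 1) *
          (Nat.card {p : V × V // IsQPair Q p ∧ p.1 ∈ X ∧ p.2 ∈ X} : ℤ)) *
            (Fintype.card F : ℤ)) := by
    have := congrArg (fun n : ℕ => (n : ℤ)) hsum
    simp only [hcardX] at this
    push_cast [Nat.cast_sub hq1] at this
    exact this
  rw [hπ] at hsumZ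
  obtain ⟨k, rfl⟩ := Nat.exists_eq_add_of_le' hg
  have e1 : 2 * (k + 1) - 2 = 2 * k := by omega
  have e2 : k + 1 - 1 = k := by omega
  rw [e1, e2] at hsumZ ⊢
  have hq0 : (Fintype.card F : ℤ) ≠ 0 := by
    have : 0 < Fintype.card F := Fintype.card_pos
    exact_mod_cast this.ne'
  apply mul_left_cancel₀ hq0
  set q : ℤ := (Fintype.card F : ℤ) with hq
  set N : ℤ := (Nat.card {p : V × V // p.1 ∈ X ∧ p.2 ∈ X ∧ Q p.1 = 1 ∧
        ∀ s : F, Q (s • p.1 + p.2) ≠ 0} : ℤ) with hN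
  set n₁ : ℤ := (Fintype.card {u : ↥X // Q' u = 1} : ℤ) with hn₁
  set Z : ℤ := (Nat.card {w : ↥X // Q' w = 0} : ℤ) with hZdef
  have hstep : q * (2 * N) = 2 * (n₁ * q) * q ^ (2 * (k + 1)) - 2 * (n₁ * q) * (Z * q) +
      q * ((q - 1) * ((q ^ (k + 1) - ε) * (q ^ k + ε) * q ^ (2 * k)) * q) := by
    linear_combination q * hsumZ
  rw [hstep, hn1, hZ]
  ring

end Cfsg.Agent.Helper32.Ell
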