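import Mathlib
import Cfsg.Agent.Helper45.EllDefs
import Cfsg.Agent.Helper94.TpD
import Cfsg.Agent.Helper32.EllEE1b

/-!
# Piece (EE1a) of board post #6806 (helper45, S5988): the pairs `(u, v)` with `Q u = 1`
spanning an anisotropic plane, counted by planes.
-/

set_option autoImplicit false
set_option linter.unusedSectionVars false

namespace Cfsg.Agent.Helper32.Ell

open Module Polynomial
open Cfsg.Agent.Helper59.InvChain Cfsg.Agent.Helper59.Elusive
open Cfsg.Agent.Helper99.SpStruct Cfsg.Agent.Helper99.RDecomp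
open Cfsg.Agent.Helper44 Cfsg.Agent.Helper44.QType
open Cfsg.Agent.Helper99.QSp
open Cfsg.Agent.Helper45.Ell

universe u v

variable {F : Type u} [Field F] [Fintype F]
variable {V : Type v} [AddCommGroup V] [Module F V] [FiniteDimensional F V]

/-- an anisotropic plane over a finite field is nondegenerate -/
theorem nd_of_aniso (Q : QuadraticForm F V) (A : Submodule F V) (hA2 : finrank F ↥A = 2)
    (han : ∀ w ∈ A, Q w = 0 → w = 0) : Nd (pB Q) A := by
  rw [nd_iff]
  intro w hw hrad
  by_contra hw0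
  by_cases h2 : (2 : F) = 0
  · -- characteristic two
    obtain ⟨a, haA, haw⟩ : ∃ a ∈ A, a ∉ Submodule.span F {w} := by
      by_contra hcon
      push Not at hcon
      have hle : A ≤ Submodule.span F {w} := fun a ha => hcon a ha
      have h1 := Submodule.finrank_mono hle
      rw [hA2, finrank_span_singleton hw0] at h1
      omega
    have hQw : Q w ≠ 0 := fun h => hw0 (han w hw h)
    have hchar : ringChar F = 2 := CharP.ringChar_of_prime_eq_zero Nat.prime_two h2
    obtain ⟨r, hr⟩ := FiniteField.isSquare_of_char_two hchar (Q a / Q w)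
    have hpol : QuadraticMap.polar Q w a = 0 := by
      have := hrad a haA
      rw [pB_apply] at this
      exact this ▸ (QuadraticMap.polar_comm Q w a)
    have hz : Q (r • w + (1 : F) • a) = 0 := by
      rw [q_comb, hpol, mul_zero, add_zero, ← hr]
      field_simp
      linear_combination Q a * h2
    have hzA : r • w + (1 : F) • a ∈ A := A.add_mem (A.smul_mem r hw) (A.smul_mem 1 haA)
    have hz0 := han _ hzA hz
    apply haw
    rw [one_smul] at hz0
    have : a = (-r) • w := by
      rw [neg_smul]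
      exact eq_neg_of_add_eq_zero_right hz0
    rw [this]
    exact Submodule.smul_mem _ _ (Submodule.mem_span_singleton_self w)
  · -- odd characteristic
    have h1 := hrad w hw
    rw [pB_self] at h1
    rcases mul_eq_zero.1 h1 with h3 | h3
    · exact h2 h3
    · exact hw0 (han w hw h3)

omit [Fintype F] [FiniteDimensional F V] in
/-- a pair as in (EE1a) spans an anisotropic subspace -/
theorem aniso_of_pair (Q : QuadraticForm F V) {u v : V} (hu : Q u = 1)
    (huv : ∀ s : F, Q (s • u + v) ≠ 0) (a b : F) (h : Q (a • u + b • v) = 0) : a = 0 ∧ b = 0 := by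
  by_cases hb : b = 0
  · subst hb
    rw [zero_smul, add_zero, QuadraticMap.map_smul, hu] at h
    simp only [smul_eq_mul, mul_one, mul_self_eq_zero] at h
    exact ⟨h, rfl⟩
  · exfalso
    apply huv (a / b)
    have h1 : a • u + b • v = b • ((a / b) • u + v) := by
      rw [smul_add, smul_smul, mul_div_cancel₀ a hb]
    rw [h1, QuadraticMap.map_smul] at h
    simp only [smul_eq_mul] at h
    rcases mul_eq_zero.1 h with h2 | h2
    · exact absurd (mul_self_eq_zero.1 h2) hb
    · exact h2

omit [Fintype F] [FiniteDimensional F V] in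
theorem aniso_span_of_pair (Q : QuadraticForm F V) {u v : V} (hu : Q u = 1)
    (huv : ∀ s : F, Q (s • u + v) ≠ 0) :
    ∀ w ∈ Submodule.span F ({u, v} : Set V), Q w = 0 → w = 0 := by
  intro w hw hQ
  obtain ⟨a, b, rfl⟩ := Submodule.mem_span_pair.1 hw
  obtain ⟨rfl, rfl⟩ := aniso_of_pair Q hu huv a b hQ
  simp

omit [Fintype F] [FiniteDimensional F V] in
theorem finrank_span_of_pair (Q : QuadraticForm F V) {u v : V} (hu : Q u = 1)
    (huv : ∀ s : F, Q (s • u + v) ≠ 0) :
    finrank F ↥(Submodule.span F ({u, v} : Set V)) = 2 := by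
  have hli : LinearIndependent F ![u, v] := by
    rw [LinearIndependent.pair_iff]
    intro s t hst
    apply aniso_of_pair Q hu huv s t
    rw [hst, map_zero]
  have := finrank_span_eq_card hli
  rw [Matrix.range_cons_cons_empty] at this
  simpa using this

omit [Fintype F] in
/-- a plane which is not hyperbolic is anisotropic -/
theorem aniso_of_not_hyp (Q : QuadraticForm F V) {A : Submodule F V} (hA2 : finrank F ↥A = 2)
    (hH : ¬ Hyp Q A) : ∀ w ∈ A, Q w = 0 → w = 0 := by
  intro w hw hQ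
  by_contra hw0
  apply hH
  refine ⟨Submodule.span F {w}, ?_, ?_, ?_⟩
  · rw [Submodule.span_le]
    intro x hx
    rw [Set.mem_singleton_iff] at hx
    rw [hx]; exact hw
  · intro x hx
    obtain ⟨t, rfl⟩ := Submodule.mem_span_singleton.1 hx
    rw [QuadraticMap.map_smul, hQ, smul_zero]
  · rw [finrank_span_singleton hw0, hA2]

omit [Fintype F] in
/-- an anisotropic plane is not hyperbolic -/
theorem not_hyp_of_aniso (Q : QuadraticForm F V) {A : Submodule F V} (hA2 : finrank F ↥A = 2)
    (han : ∀ w ∈ A, Q w = 0 → w = 0) : ¬ Hyp Q A := by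
  rintro ⟨U, hUA, hTS, hdim⟩
  rw [hA2] at hdim
  have hU1 : finrank F ↥U = 1 := by omega
  have hUne : U ≠ ⊥ := by
    intro h
    rw [h, finrank_bot] at hU1
    omega
  obtain ⟨w, hwU, hw0⟩ := Submodule.exists_mem_ne_zero_of_ne_bot hUne
  exact hw0 (han w (hUA hwU) (hTS w hwU))

/-- the pairs inside an elliptic plane -/
theorem card_pairs_plane (Q : QuadraticForm F V) {A : Submodule F V} (hA2 : finrank F ↥A = 2)
    (hAnd : Nd (pB Q) A) (hH : ¬ Hyp Q A) :
    (Nat.card {p : V × V // p.1 ∈ A ∧ p.2 ∈ A ∧ Q p.1 = 1 ∧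
        ∀ s : F, Q (s • p.1 + p.2) ≠ 0} : ℤ) =
      ((Fintype.card F : ℤ) + 1) * ((Fintype.card F : ℤ) ^ 2 - (Fintype.card F : ℤ)) := by
  have hdim : finrank F ↥A = 2 * 1 := by rw [hA2]
  have hty : QType Q A 1 (-1) := (not_hyp_iff_qType Q hAnd hdim).1 hH
  have h := card_ell_pairs Q hAnd (le_refl 1) hdim hty
  norm_num at h
  linarith

/-- (EE1a) pairs `(u, v)` with `Q u = 1` spanning an anisotropic plane, counted by planes:
each elliptic plane `A` carries `(q + 1) (q² - q)` of them -/
theorem card_ell_pairs_eq_planes (Q : QuadraticForm F V) (X : Submodule F V) :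
    (Nat.card {p : V × V // p.1 ∈ X ∧ p.2 ∈ X ∧ Q p.1 = 1 ∧
        ∀ s : F, Q (s • p.1 + p.2) ≠ 0} : ℤ) =
      (Nat.card {A : Submodule F V // A ≤ X ∧ finrank F ↥A = 2 ∧ Nd (pB Q) A ∧ ¬ Hyp Q A} : ℤ) *
        (((Fintype.card F : ℤ) + 1) * ((Fintype.card F : ℤ) ^ 2 - (Fintype.card F : ℤ))) := by
  classical
  haveI : Finite V := Module.finite_of_finite F
  haveI : Finite (Submodule F V) := Finite.of_injective (fun A : Submodule F V => (A : Set V))
    SetLike.coe_injective
  haveI : Fintype {A : Submodule F V // A ≤ X ∧ finrank F ↥A = 2 ∧ Nd (pB Q) A ∧ ¬ Hyp Q A} :=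
    Fintype.ofFinite _
  -- the plane spanned by a pair
  let f : {p : V × V // p.1 ∈ X ∧ p.2 ∈ X ∧ Q p.1 = 1 ∧ ∀ s : F, Q (s • p.1 + p.2) ≠ 0} →
      {A : Submodule F V // A ≤ X ∧ finrank F ↥A = 2 ∧ Nd (pB Q) A ∧ ¬ Hyp Q A} := fun p =>
    ⟨Submodule.span F ({p.1.1, p.1.2} : Set V), by
      have han := aniso_span_of_pair Q p.2.2.2.1 p.2.2.2.2
      have hfr := finrank_span_of_pair Q p.2.2.2.1 p.2.2.2.2
      refine ⟨?_, hfr, nd_of_aniso Q _ hfr han, not_hyp_of_aniso Q hfr han⟩
      rw [Submodule.span_le]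
      intro x hx
      rcases hx with rfl | hx
      · exact p.2.1
      · rw [Set.mem_singleton_iff] at hx
        rw [hx]; exact p.2.2.1⟩
  -- the fibres
  have hfib : ∀ A : {A : Submodule F V // A ≤ X ∧ finrank F ↥A = 2 ∧ Nd (pB Q) A ∧ ¬ Hyp Q A},
      Nat.card {p // f p = A} = Nat.card {p : V × V // p.1 ∈ A.1 ∧ p.2 ∈ A.1 ∧ Q p.1 = 1 ∧
        ∀ s : F, Q (s • p.1 + p.2) ≠ 0} := by
    intro A
    refine Nat.card_congr
      { toFun := fun p => ⟨p.1.1, ?_, ?_, p.1.2.2.2.1, p.1.2.2.2.2⟩
        invFun := fun q => ⟨⟨q.1, A.2.1 q.2.1, A.2.1 q.2.2.1, q.2.2.2.1, q.2.2.2.2⟩, ?_⟩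
        left_inv := fun p => rfl
        right_inv := fun q => rfl }
    · have h := congrArg Subtype.val p.2
      show p.1.1.1 ∈ A.1
      rw [← h]
      exact Submodule.subset_span (Set.mem_insert _ _)
    · have h := congrArg Subtype.val p.2
      show p.1.1.2 ∈ A.1
      rw [← h]
      exact Submodule.subset_span (Set.mem_insert_of_mem _ (Set.mem_singleton _))
    · apply Subtype.ext
      show Submodule.span F ({q.1.1, q.1.2} : Set V) = A.1
      apply Submodule.eq_of_le_of_finrank_eq
      · rw [Submodule.span_le]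
        intro x hx
        rcases hx with rfl | hx
        · exact q.2.1
        · rw [Set.mem_singleton_iff] at hx
          rw [hx]; exact q.2.2.1
      · rw [finrank_span_of_pair Q q.2.2.2.1 q.2.2.2.2, A.2.2.1]
  have hcount : Nat.card {p : V × V // p.1 ∈ X ∧ p.2 ∈ X ∧ Q p.1 = 1 ∧
        ∀ s : F, Q (s • p.1 + p.2) ≠ 0} =
      ∑ A : {A : Submodule F V // A ≤ X ∧ finrank F ↥A = 2 ∧ Nd (pB Q) A ∧ ¬ Hyp Q A},
        Nat.card {p // f p = A} := by
    rw [← Nat.card_sigma]
    exact Nat.card_congr (Equiv.sigmaFiberEquiv f).symm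
  rw [hcount]
  push_cast
  rw [Finset.sum_congr rfl (fun A _ => by rw [hfib A, card_pairs_plane Q A.2.2.1 A.2.2.2.1 A.2.2.2.2]),
    Finset.sum_const, Finset.card_univ, nsmul_eq_mul, Nat.card_eq_fintype_card]

end Cfsg.Agent.Helper32.Ell
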