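import Mathlib
import Cfsg.Agent.Helper13.FExtDefs
import Cfsg.Agent.Helper13.Symp
import Cfsg.Agent.Helper13.SpMax1
import Cfsg.Agent.Helper43.SpOrthA
import Cfsg.Agent.Helper32.FExtKVec

/-!
# Piece (I1b) for S5975 (owner helper13): `Sp_{2n}(q^k)` embeds into `N(K) ∩ Sp_{2d}(q)`.
-/

set_option autoImplicit false
set_option linter.style.haveILetI false

namespace Cfsg.Agent.Helper32.FExtI1b

open Matrix Cfsg Cfsg.Geo Module
open Cfsg.Agent.Helper13 Cfsg.Agent.Helper13.FExt
open Cfsg.Agent.Helper32.FExtKVec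

variable {F : Type*} [Field F]

/-- `J` over an extension is the image of `J`. -/
theorem J_algebraMap {K : Type*} [Field K] [Algebra F K] (n : ℕ) (s t : Fin n ⊕ Fin n) :
    Matrix.J (Fin n) K s t = algebraMap F K (Matrix.J (Fin n) F s t) := by
  rcases s with i | i <;> rcases t with j | j
  · simp [Matrix.J]
  · simp only [Matrix.J, Matrix.fromBlocks_apply₁₂, Matrix.neg_apply, Matrix.one_apply]
    by_cases h : i = j <;> simp [h]
  · simp only [Matrix.J, Matrix.fromBlocks_apply₂₁, Matrix.one_apply]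
    by_cases h : i = j <;> simp [h]
  · simp [Matrix.J]

/-- sums in the first argument of `sympForm` -/
theorem sympForm_sum_left {m : ℕ} {ι : Type*} (s : Finset ι) (u : ι → (Fin m ⊕ Fin m → F))
    (v : Fin m ⊕ Fin m → F) :
    sympForm m F (∑ i ∈ s, u i) v = ∑ i ∈ s, sympForm m F (u i) v := by
  classical
  induction s using Finset.induction_on with
  | empty => simp [sympForm_def]
  | insert a s ha ih => rw [Finset.sum_insert ha, Finset.sum_insert ha, sympForm_add_left, ih]

/-- sums in the second argument of `sympForm` -/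
theorem sympForm_sum_right {m : ℕ} {ι : Type*} (s : Finset ι) (u : Fin m ⊕ Fin m → F)
    (v : ι → (Fin m ⊕ Fin m → F)) :
    sympForm m F u (∑ i ∈ s, v i) = ∑ i ∈ s, sympForm m F u (v i) := by
  classical
  induction s using Finset.induction_on with
  | empty => simp [sympForm_def]
  | insert a s ha ih => rw [Finset.sum_insert ha, Finset.sum_insert ha, sympForm_add_right, ih]

/-- the "trace" of the symplectic form over the extension field -/
theorem phi_sympForm {K : Type*} [Field K] [Algebra F K] (φ : K →ₗ[F] F) (n : ℕ)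
    (c c' : Fin n ⊕ Fin n → K) :
    φ (sympForm n K c c') = ∑ s, ∑ t, φ (c s * c' t) * Matrix.J (Fin n) F s t := by
  rw [sympForm_def]
  simp only [dotProduct, mulVec, Finset.mul_sum, map_sum]
  refine Finset.sum_congr rfl (fun s _ => Finset.sum_congr rfl (fun t _ => ?_))
  rw [J_algebraMap (F := F), ← mul_assoc, mul_comm (c s), mul_assoc, ← Algebra.smul_def, map_smul,
    smul_eq_mul, mul_comm]

/-- The monoid homomorphism from the matrices over an extension field `K` to the matrices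
over `F`, given by a `K`-basis of a `K`-space `V` and an `F`-linear identification of `V` with
`ι → F`. -/
theorem exists_matrix_hom {K V : Type*} [Field K] [Algebra F K] [AddCommGroup V] [Module F V]
    [Module K V] [IsScalarTower F K V] {m ι : Type*} [Fintype m] [DecidableEq m] [Fintype ι]
    [DecidableEq ι] (bK : Basis m K V) (e : V ≃ₗ[F] (ι → F)) :
    ∃ ρ : Matrix m m K →* Matrix ι ι F, Function.Injective ρ ∧
      ∀ (M : Matrix m m K) (v : V), ρ M *ᵥ (e v) = e (Matrix.toLin bK bK M v) := by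
  classical
  let r : Matrix m m K → Matrix ι ι F := fun M =>
    LinearMap.toMatrix' ((e.toLinearMap.comp ((Matrix.toLin bK bK M).restrictScalars F)).comp
      e.symm.toLinearMap)
  have hr : ∀ (M : Matrix m m K) (v : V), r M *ᵥ (e v) = e (Matrix.toLin bK bK M v) := by
    intro M v
    simp only [r, LinearMap.toMatrix'_mulVec, LinearMap.comp_apply, LinearEquiv.coe_coe,
      LinearEquiv.symm_apply_apply, LinearMap.restrictScalars_apply]
  have hr' : ∀ (M : Matrix m m K) (w : ι → F),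
      r M *ᵥ w = e (Matrix.toLin bK bK M (e.symm w)) := by
    intro M w
    have h1 := hr M (e.symm w)
    rwa [LinearEquiv.apply_symm_apply] at h1
  have hext : ∀ A B : Matrix ι ι F, (∀ w, A *ᵥ w = B *ᵥ w) → A = B := by
    intro A B h
    apply Matrix.toLin'.injective
    apply LinearMap.ext
    intro w
    rw [Matrix.toLin'_apply, Matrix.toLin'_apply, h]
  refine ⟨{ toFun := r, map_one' := ?_, map_mul' := ?_ }, ?_, hr⟩
  · apply hext
    intro w
    rw [hr', Matrix.toLin_one, LinearMap.id_apply, LinearEquiv.apply_symm_apply, one_mulVec]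
  · intro M N
    apply hext
    intro w
    rw [hr', Matrix.toLin_mul bK bK bK, LinearMap.comp_apply, ← mulVec_mulVec, hr' N, hr M]
  · intro M N hMN
    have hMN' : r M = r N := hMN
    apply (Matrix.toLin bK bK).injective
    apply LinearMap.ext
    intro v
    apply e.injective
    rw [← hr, ← hr, hMN']

/-- (I1b) `Sp_{2n}(q^k)` embeds into the normalizer -/
theorem card_dvd_of_basis [Fintype F] (q : ℕ) (hq : Fintype.card F = q) (d k : ℕ) (hk : 0 < k)
    (K : Subalgebra F (Matrix (Fin d ⊕ Fin d) (Fin d ⊕ Fin d) F)) (hK : IsFieldSubalgebra k K)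
    (n : ℕ) (φ : ↥K →ₗ[F] F) (b : Fin n ⊕ Fin n → (Fin d ⊕ Fin d → F))
    (h1 : ∀ v : Fin d ⊕ Fin d → F, ∃! c : Fin n ⊕ Fin n → ↥K,
        v = ∑ s, (c s : Matrix (Fin d ⊕ Fin d) (Fin d ⊕ Fin d) F) *ᵥ b s)
    (h2 : ∀ a : ↥K, (∀ a' : ↥K, φ (a * a') = 0) → a = 0)
    (h3 : ∀ (a a' : ↥K) (s t : Fin n ⊕ Fin n),
        sympForm d F ((a : Matrix (Fin d ⊕ Fin d) (Fin d ⊕ Fin d) F) *ᵥ b s)
          ((a' : Matrix (Fin d ⊕ Fin d) (Fin d ⊕ Fin d) F) *ᵥ b t) =
          φ (a * a') * Matrix.J (Fin n) F s t) :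
    n * k = d ∧
      (q ^ k) ^ (n ^ 2) * ∏ i ∈ Finset.range n, ((q ^ k) ^ (2 * (i + 1)) - 1) ∣
        Nat.card ↥((subalgebraNormalizer K).subgroupOf (spGL d F)) := by
  classical
  letI : Field ↥K := (isField_sub hK hk).toField
  haveI : FiniteDimensional F ↥K :=
    Module.finite_of_finrank_pos (by rw [hK.finrank_eq]; exact hk)
  haveI : Finite ↥K := Module.finite_of_finite F
  letI : Fintype ↥K := Fintype.ofFinite ↥K
  have hcardK : Fintype.card ↥K = q ^ k := by
    rw [← Nat.card_eq_fintype_card, Module.natCard_eq_pow_finrank (K := F) (V := ↥K),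
      hK.finrank_eq, Nat.card_eq_fintype_card, hq]
  -- the basis
  let b' : Fin n ⊕ Fin n → KVec K := fun s => toKVec K (b s)
  have hli : LinearIndependent ↥K b' := by
    rw [Fintype.linearIndependent_iff]
    intro c hc
    obtain ⟨c0, -, huniq⟩ := h1 0
    have e1 : c = c0 := huniq c hc.symm
    have e2 : (fun _ => 0) = c0 := huniq (fun _ => 0) (by simp)
    intro s
    rw [e1, ← e2]
  have hsp : ⊤ ≤ Submodule.span ↥K (Set.range b') := by
    intro v _
    obtain ⟨c, hc, -⟩ := h1 (ofKVec K v)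
    have h4 : v = ∑ s, c s • b' s := hc
    rw [h4]
    exact Submodule.sum_mem _ (fun s _ => Submodule.smul_mem _ _ (Submodule.subset_span ⟨s, rfl⟩))
  let bK : Basis (Fin n ⊕ Fin n) ↥K (KVec K) := Basis.mk hli hsp
  have hbK : ∀ s, bK s = b' s := fun s => by simp only [bK, Basis.mk_apply]
  have hnk : n * k = d := by
    have h4 : finrank F ↥K * finrank ↥K (KVec K) = finrank F (KVec K) :=
      Module.finrank_mul_finrank F ↥K (KVec K)
    have h5 : finrank F (KVec K) = d + d := by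
      show finrank F (Fin d ⊕ Fin d → F) = d + d
      rw [Module.finrank_fintype_fun_eq_card, Fintype.card_sum, Fintype.card_fin]
    have h6 : finrank ↥K (KVec K) = n + n := by
      rw [Module.finrank_eq_card_basis bK, Fintype.card_sum, Fintype.card_fin]
    rw [h5, hK.finrank_eq, h6] at h4
    have h7 : 2 * (n * k) = 2 * d := by
      calc 2 * (n * k) = k * (n + n) := by ring
        _ = d + d := h4
        _ = 2 * d := by ring
    omega
  refine ⟨hnk, ?_⟩
  let e : KVec K ≃ₗ[F] (Fin d ⊕ Fin d → F) := LinearEquiv.refl F (Fin d ⊕ Fin d → F)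
  have he : ∀ v : KVec K, e v = ofKVec K v := fun _ => rfl
  obtain ⟨ρ, hρinj, hρ⟩ := exists_matrix_hom bK e
  have hcard1 : Nat.card ↥(spGL n ↥K) =
      (q ^ k) ^ (n ^ 2) * ∏ i ∈ Finset.range n, ((q ^ k) ^ (2 * (i + 1)) - 1) := by
    rw [Cfsg.Agent.Helper43.SpOrth.card_spGL, hcardK]
  rw [← hcard1]
  have hinj : Function.Injective (Units.map ρ) := Units.map_injective hρinj
  have hgram : ∀ c c' : Fin n ⊕ Fin n → ↥K,
      sympForm d F (e (∑ s, c s • bK s)) (e (∑ t, c' t • bK t)) = φ (sympForm n ↥K c c') := by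
    intro c c'
    rw [phi_sympForm]
    have e1 : ∀ c : Fin n ⊕ Fin n → ↥K, e (∑ s, c s • bK s) =
        ∑ s, (c s : Matrix (Fin d ⊕ Fin d) (Fin d ⊕ Fin d) F) *ᵥ b s := by
      intro c
      rw [map_sum]
      refine Finset.sum_congr rfl (fun s _ => ?_)
      rw [hbK]
      rfl
    rw [e1, e1, sympForm_sum_left]
    refine Finset.sum_congr rfl (fun s _ => ?_)
    rw [sympForm_sum_right]
    refine Finset.sum_congr rfl (fun t _ => ?_)
    exact h3 (c s) (c' t) s t
  have hext : ∀ A B : Matrix (Fin d ⊕ Fin d) (Fin d ⊕ Fin d) F,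
      (∀ w, A *ᵥ w = B *ᵥ w) → A = B := by
    intro A B h
    apply Matrix.toLin'.injective
    apply LinearMap.ext
    intro w
    rw [Matrix.toLin'_apply, Matrix.toLin'_apply, h]
  have hle : (spGL n ↥K).map (Units.map ρ) ≤ subalgebraNormalizer K ⊓ spGL d F := by
    rintro _ ⟨M, hM, rfl⟩
    have hM' : ∀ u v : Fin n ⊕ Fin n → ↥K,
        sympForm n ↥K ((M : Matrix (Fin n ⊕ Fin n) (Fin n ⊕ Fin n) ↥K) *ᵥ u)
          ((M : Matrix (Fin n ⊕ Fin n) (Fin n ⊕ Fin n) ↥K) *ᵥ v) = sympForm n ↥K u v := hM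
    have hcoe : ((Units.map ρ M : GL (Fin d ⊕ Fin d) F) :
        Matrix (Fin d ⊕ Fin d) (Fin d ⊕ Fin d) F) =
        ρ (M : Matrix (Fin n ⊕ Fin n) (Fin n ⊕ Fin n) ↥K) := rfl
    refine ⟨?_, ?_⟩
    · -- the normalizer
      have hcomm : ∀ a ∈ K, ρ (M : Matrix (Fin n ⊕ Fin n) (Fin n ⊕ Fin n) ↥K) * a =
          a * ρ (M : Matrix (Fin n ⊕ Fin n) (Fin n ⊕ Fin n) ↥K) := by
        intro a ha
        apply hext
        intro w
        show (ρ (M : Matrix (Fin n ⊕ Fin n) (Fin n ⊕ Fin n) ↥K) * a) *ᵥ e (toKVec K w) =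
          (a * ρ (M : Matrix (Fin n ⊕ Fin n) (Fin n ⊕ Fin n) ↥K)) *ᵥ e (toKVec K w)
        rw [← mulVec_mulVec, ← mulVec_mulVec, hρ]
        have h5 : a *ᵥ e (toKVec K w) = e ((⟨a, ha⟩ : ↥K) • toKVec K w) := rfl
        rw [h5, hρ, map_smul]
        rfl
      intro x
      have hg1 : ((Units.map ρ M : GL (Fin d ⊕ Fin d) F) :
          Matrix (Fin d ⊕ Fin d) (Fin d ⊕ Fin d) F) *
          (((Units.map ρ M)⁻¹ : GL (Fin d ⊕ Fin d) F) :
          Matrix (Fin d ⊕ Fin d) (Fin d ⊕ Fin d) F) = 1 := Units.mul_inv _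
      have hg2 : (((Units.map ρ M)⁻¹ : GL (Fin d ⊕ Fin d) F) :
          Matrix (Fin d ⊕ Fin d) (Fin d ⊕ Fin d) F) *
          ((Units.map ρ M : GL (Fin d ⊕ Fin d) F) :
          Matrix (Fin d ⊕ Fin d) (Fin d ⊕ Fin d) F) = 1 := Units.inv_mul _
      rw [hcoe] at hg1 hg2
      rw [hcoe]
      constructor
      · intro hx
        rw [hcomm x hx, mul_assoc, hg1, mul_one]
        exact hx
      · intro hx
        have h6 := hcomm _ hx
        have h7 : x = ρ (M : Matrix (Fin n ⊕ Fin n) (Fin n ⊕ Fin n) ↥K) * x *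
            (((Units.map ρ M)⁻¹ : GL (Fin d ⊕ Fin d) F) :
            Matrix (Fin d ⊕ Fin d) (Fin d ⊕ Fin d) F) := by
          have h8 := congrArg (fun z => (((Units.map ρ M)⁻¹ : GL (Fin d ⊕ Fin d) F) :
            Matrix (Fin d ⊕ Fin d) (Fin d ⊕ Fin d) F) * z) h6
          beta_reduce at h8
          rw [← mul_assoc, hg2, one_mul, mul_assoc (_ * x), hg2, mul_one, ← mul_assoc,
            hg2, one_mul] at h8
          exact h8.symm
        rw [h7]
        exact hx
    · -- the symplectic group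
      intro u v
      have key : ∀ w : KVec K, ρ (M : Matrix (Fin n ⊕ Fin n) (Fin n ⊕ Fin n) ↥K) *ᵥ (e w) =
          e (∑ j, ((M : Matrix (Fin n ⊕ Fin n) (Fin n ⊕ Fin n) ↥K) *ᵥ ⇑(bK.repr w)) j • bK j) := by
        intro w
        rw [hρ, Matrix.toLin_apply]
      have hrep : ∀ w : KVec K, e w = e (∑ s, (⇑(bK.repr w)) s • bK s) := by
        intro w
        rw [bK.sum_repr]
      show sympForm d F (ρ (M : Matrix (Fin n ⊕ Fin n) (Fin n ⊕ Fin n) ↥K) *ᵥ e (toKVec K u))
        (ρ (M : Matrix (Fin n ⊕ Fin n) (Fin n ⊕ Fin n) ↥K) *ᵥ e (toKVec K v)) =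
        sympForm d F (e (toKVec K u)) (e (toKVec K v))
      rw [key, key, hgram, hM', ← hgram, ← hrep, ← hrep]
  calc Nat.card ↥(spGL n ↥K) = Nat.card ↥((spGL n ↥K).map (Units.map ρ)) :=
        (Subgroup.card_map_of_injective hinj).symm
    _ ∣ Nat.card ↥(subalgebraNormalizer K ⊓ spGL d F) := Subgroup.card_dvd_of_le hle
    _ = Nat.card ↥((subalgebraNormalizer K).subgroupOf (spGL d F)) := by
        rw [← Subgroup.inf_subgroupOf_right]
        exact (Nat.card_congr (Subgroup.subgroupOfEquivOfLe inf_le_right).toEquiv).symm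

end Cfsg.Agent.Helper32.FExtI1b
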