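import Mathlib

/-!
# Piece (I2) for S5975 (owner helper13): arithmetic of the index of `Sp_{2n}(q^k)` in `Sp_{2d}(q)`.
-/

set_option autoImplicit false

namespace Cfsg.Agent.Helper32.FExtI2

/-- (I2) arithmetic of the index -/
theorem exists_of_dvd_quot (p r q e : ℕ) (hp : p.Prime) (hr : r.Prime) (hrp : r ≠ p)
    (he : 0 < e) (hqe : q = p ^ e) (n k d : ℕ) (hk : 0 < k) (hnk : n * k = d) (t : ℕ)
    (hrt : r ∣ t)
    (ht : t * ((q ^ k) ^ (n ^ 2) * ∏ i ∈ Finset.range n, ((q ^ k) ^ (2 * (i + 1)) - 1)) =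
      q ^ (d ^ 2) * ∏ i ∈ Finset.range d, (q ^ (2 * (i + 1)) - 1)) :
    ∃ j, 1 ≤ j ∧ j ≤ d ∧ ¬ k ∣ j ∧ r ∣ q ^ (2 * j) - 1 := by
  classical
  have hq2 : 2 ≤ q := by
    rw [hqe]
    calc 2 ≤ p := hp.two_le
      _ = p ^ 1 := (pow_one p).symm
      _ ≤ p ^ e := Nat.pow_le_pow_right hp.pos he
  have hrq : ∀ m, ¬ r ∣ q ^ m := by
    intro m h
    have h1 := hr.dvd_of_dvd_pow h
    rw [hqe] at h1
    have h2 := hr.dvd_of_dvd_pow h1
    exact hrp ((Nat.prime_dvd_prime_iff_eq hr hp).1 h2)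
  set f : ℕ → ℕ := fun i => q ^ (2 * (i + 1)) - 1 with hf
  have hfpos : ∀ i, f i ≠ 0 := by
    intro i
    have h1 : 1 < q ^ (2 * (i + 1)) := Nat.one_lt_pow (by omega) (by omega)
    simp only [hf]; omega
  have hsplit := Finset.prod_filter_mul_prod_filter_not (Finset.range d) (fun i => k ∣ i + 1) f
  have himg : (Finset.range d).filter (fun i => k ∣ i + 1) =
      (Finset.range n).image (fun i' => k * (i' + 1) - 1) := by
    ext i
    simp only [Finset.mem_filter, Finset.mem_range, Finset.mem_image]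
    constructor
    · rintro ⟨hid, c, hc⟩
      have hc1 : 1 ≤ c := by
        rcases Nat.eq_zero_or_pos c with h | h
        · subst h; simp at hc
        · exact h
      refine ⟨c - 1, ?_, ?_⟩
      · have h1 : k * c ≤ k * n := by rw [← hc, mul_comm k n, hnk]; omega
        have h2 := Nat.le_of_mul_le_mul_left h1 hk
        omega
      · have h1 : c - 1 + 1 = c := by omega
        rw [h1, ← hc]; rfl
    · rintro ⟨i', hi', rfl⟩
      have h1 : 1 ≤ k * (i' + 1) := Nat.mul_pos hk (by omega)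
      have h2 : k * (i' + 1) ≤ d := by
        rw [← hnk, mul_comm n k]; exact Nat.mul_le_mul_left k (by omega)
      refine ⟨by omega, ?_⟩
      have h3 : k * (i' + 1) - 1 + 1 = k * (i' + 1) := by omega
      rw [h3]; exact dvd_mul_right _ _
  have hA : ∏ i ∈ (Finset.range d).filter (fun i => k ∣ i + 1), f i =
      ∏ i ∈ Finset.range n, ((q ^ k) ^ (2 * (i + 1)) - 1) := by
    rw [himg, Finset.prod_image]
    · refine Finset.prod_congr rfl (fun i' _ => ?_)
      have h1 : 1 ≤ k * (i' + 1) := Nat.mul_pos hk (by omega)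
      have h3 : k * (i' + 1) - 1 + 1 = k * (i' + 1) := by omega
      simp only [hf, h3]
      congr 1
      rw [← pow_mul]; congr 1; ring
    · intro a _ b _ hab
      have h1 : 1 ≤ k * (a + 1) := Nat.mul_pos hk (by omega)
      have h2 : 1 ≤ k * (b + 1) := Nat.mul_pos hk (by omega)
      have h3 : k * (a + 1) = k * (b + 1) := by simp only at hab; omega
      have h4 := Nat.eq_of_mul_eq_mul_left hk h3
      omega
  have hApos : ∏ i ∈ (Finset.range d).filter (fun i => k ∣ i + 1), f i ≠ 0 :=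
    Finset.prod_ne_zero_iff.2 (fun i _ => hfpos i)
  rw [← hsplit, ← hA] at ht
  set A := ∏ i ∈ (Finset.range d).filter (fun i => k ∣ i + 1), f i with hAdef
  set R := ∏ i ∈ (Finset.range d).filter (fun i => ¬ k ∣ i + 1), f i with hRdef
  have h5 : A * (t * (q ^ k) ^ (n ^ 2)) = A * (q ^ (d ^ 2) * R) := by
    calc A * (t * (q ^ k) ^ (n ^ 2)) = t * ((q ^ k) ^ (n ^ 2) * A) := by ring
      _ = q ^ (d ^ 2) * (A * R) := ht
      _ = A * (q ^ (d ^ 2) * R) := by ring
  have h6 : t * (q ^ k) ^ (n ^ 2) = q ^ (d ^ 2) * R :=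
    Nat.eq_of_mul_eq_mul_left (Nat.pos_of_ne_zero hApos) h5
  have h7 : r ∣ q ^ (d ^ 2) * R := by rw [← h6]; exact dvd_mul_of_dvd_left hrt _
  rcases (Nat.Prime.dvd_mul hr).1 h7 with h8 | h8
  · exact absurd h8 (hrq _)
  · obtain ⟨i, hi, hri⟩ := (Prime.dvd_finsetProd_iff hr.prime _).1 h8
    simp only [Finset.mem_filter, Finset.mem_range] at hi
    exact ⟨i + 1, by omega, by omega, hi.2, hri⟩

end Cfsg.Agent.Helper32.FExtI2
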