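import Cfsg.Agent.Helper25.FSwan.Defs2
import Cfsg.Agent.Helper15.CliffordCorr
import Cfsg.Agent.Helper81.CliffordInd
import Cfsg.Agent.Helper48.FS_S2a
import Cfsg.Agent.Helper29.FS_S2b

/-!
# (S2c) for helper25's Fong–Swan farm (#15059, S4440), by helper32:
the Clifford correspondent is the `θ`-part of the restriction
-/

set_option autoImplicit false
set_option linter.unusedSectionVars false
set_option linter.unusedVariables false

namespace Cfsg.Agent.Helper32.FS

open Cfsg Cfsg.Agent.Helper16 Cfsg.Agent.Helper16.DT Cfsg.Agent.Helper25.FS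

universe u

variable {p : ℕ} [Fact p.Prime] {M : Ideal AlgInt} [M.IsMaximal] {G : Type u} [Group G]

section ST2

variable [Fintype G] (N : Subgroup G) [hN : N.Normal] [Fintype N]

omit [Fintype G] hN [M.IsMaximal] in
/-- the `θ`-part of a finite sum -/
theorem S2c_thetaProj_sum (T : Subgroup G) (hNT : N ≤ T) (θ : N → ℂ) {ι : Type*}
    (s : Finset ι) (c : ι → ℂ) (f : ι → T → ℂ) :
    thetaProj N T hNT θ (∑ i ∈ s, c i • f i) = ∑ i ∈ s, c i • thetaProj N T hNT θ (f i) := by
  classical
  induction s using Finset.induction_on with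
  | empty =>
    rw [Finset.sum_empty, Finset.sum_empty]
    have := Cfsg.Agent.Helper29.FS.thetaProj_smul N T hNT θ 0 (0 : T → ℂ)
    rw [zero_smul, zero_smul] at this
    exact this
  | insert a s ha ih =>
    rw [Finset.sum_insert ha, Finset.sum_insert ha, Cfsg.Agent.Helper29.FS.thetaProj_add,
      Cfsg.Agent.Helper29.FS.thetaProj_smul, ih]

omit [M.IsMaximal] in
/-- (S2c) the Clifford correspondent is the `θ`-part of the restriction. -/
theorem indFun_thetaProj_restrict (T : Subgroup G) [Fintype T] (θ : IrrCharacter N)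
    (hT : T = Helper15.inertia N (θ : N → ℂ)) (hNT : N ≤ T) (χ : IrrCharacter G)
    (hχθ : classInner (fun n : N => (χ : G → ℂ) n) (θ : N → ℂ) ≠ 0) :
    indFun T (thetaProj N T hNT (θ : N → ℂ) (fun t : T => (χ : G → ℂ) t)) = (χ : G → ℂ) := by
  classical
  letI := Helper74.irrFintype T
  have hχc : IsCharacter G (χ : G → ℂ) := Helper74.irr_isCharacter χ
  have hχcf : IsClassFunction G (χ : G → ℂ) := Helper74.isClassFunction_of_isCharacter hχc
  have hχT : IsCharacter T (fun t : T => (χ : G → ℂ) t) := Helper74.isCharacter_restrict T hχc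
  have hinv : ∀ t ∈ T, Helper15.conjFun N t (θ : N → ℂ) = (θ : N → ℂ) := by
    intro t ht
    rw [hT] at ht
    exact ht
  -- the Clifford correspondent
  obtain ⟨ψ, hψirr, hψind, hψθ⟩ :=
    Helper15.clifford_correspondence_exists N θ.2 T hT hNT χ.2 hχθ
  -- its multiplicity in `χ_T` is one
  have hmult : classInner (fun t : T => (χ : G → ℂ) t) ψ = 1 := by
    rw [← Helper15.frobenius_reciprocity' T ψ (χ : G → ℂ) hχcf, hψind]
    exact Helper74.irr_inner_self χ
  have hψθ' : classInner (Helper15.resTo N T hNT ψ) (θ : N → ℂ) ≠ 0 := by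
    have : Helper15.resTo N T hNT ψ = fun n : N => ψ ⟨(n : G), hNT n.2⟩ := rfl
    rw [this, hψθ]
    exact hχθ
  have hfull : classInner (Helper15.resTo N T hNT ψ) (θ : N → ℂ)
      = classInner (fun n : N => (χ : G → ℂ) n) (θ : N → ℂ) := hψθ
  -- decompose `χ_T`
  have hdec := Helper74.isCharacter_eq_sum_irr hχT
  have hproj : thetaProj N T hNT (θ : N → ℂ) (fun t : T => (χ : G → ℂ) t) = ψ := by
    rw [hdec, S2c_thetaProj_sum]
    rw [Finset.sum_eq_single (⟨ψ, hψirr⟩ : IrrCharacter T)]
    · rw [(Cfsg.Agent.Helper48.FS.thetaProj_irr N T hNT θ hinv ⟨ψ, hψirr⟩).1 hψθ']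
      show classInner (fun t : T => (χ : G → ℂ) t) ψ • ψ = ψ
      rw [hmult, one_smul]
    · intro ξ _ hne
      by_cases hc : classInner (fun t : T => (χ : G → ℂ) t) (ξ : T → ℂ) = 0
      · rw [hc, zero_smul]
      · by_cases hθξ : classInner (Helper15.resTo N T hNT (ξ : T → ℂ)) (θ : N → ℂ) = 0
        · rw [(Cfsg.Agent.Helper48.FS.thetaProj_irr N T hNT θ hinv ξ).2 hθξ, smul_zero]
        · exfalso
          apply hne
          apply Subtype.ext
          refine Helper81.clifford_unique_constituent N θ.2 T hNT hχc hψirr ?_ hfull ξ.2 hc hθξ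
          rw [hmult]
          exact one_ne_zero
    · intro h
      exact absurd (Finset.mem_univ _) h
  rw [hproj, hψind]

end ST2

end Cfsg.Agent.Helper32.FS
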