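import Cfsg.Agent.Helper79.Mult.Defs

/-!
# (DIVC) for helper79's S4756 farm (helper32): a character vanishing off `p` has degree divisible by
the `p'`-part of `|G|` (given piece (DIV) as a hypothesis)
-/

set_option autoImplicit false

universe u

namespace Cfsg.Agent.Helper32.Mult

open Cfsg Cfsg.Agent.Helper79.Mult

variable {G : Type u} [Group G] [Finite G]

/-- (DIVC) a character vanishing off `p` has degree divisible by the `p'`-part of `|G|`.
`hDIV` is piece (DIV). -/
theorem ordCompl_dvd_degree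
    (hDIV : ∀ (R : Subgroup G) (χ : IrrCharacter G),
      (∀ g ∈ R, g ≠ 1 → (χ : G → ℂ) g = 0) → Nat.card R ∣ Cfsg.charDegree (χ : G → ℂ))
    (p : ℕ) (hp : p.Prime) (χ : IrrCharacter G)
    (hv : ∀ y : G, y ≠ 1 → OffP p y → (χ : G → ℂ) y = 0) :
    ordCompl[p] (Nat.card G) ∣ Cfsg.charDegree (χ : G → ℂ) := by
  by_cases hd0 : Cfsg.charDegree (χ : G → ℂ) = 0
  · rw [hd0]
    exact dvd_zero _
  have hN0 : Nat.card G ≠ 0 := Nat.card_pos.ne'
  have hc0 : ordCompl[p] (Nat.card G) ≠ 0 := (Nat.ordCompl_pos p hN0).ne'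
  rw [← Nat.factorization_prime_le_iff_dvd hc0 hd0]
  intro r hr
  rw [Nat.factorization_ordCompl]
  by_cases hrp : r = p
  · rw [hrp, Finsupp.erase_same]
    exact Nat.zero_le _
  · rw [Finsupp.erase_ne hrp]
    haveI : Fact r.Prime := ⟨hr⟩
    obtain ⟨R⟩ : Nonempty (Sylow r G) := inferInstance
    have hcard : Nat.card (R : Subgroup G) = r ^ (Nat.card G).factorization r :=
      Sylow.card_eq_multiplicity R
    have hdvd := hDIV (R : Subgroup G) χ (by
      intro g hg hg1
      apply hv g hg1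
      obtain ⟨k, hk⟩ := R.isPGroup' ⟨g, hg⟩
      have hk' : g ^ r ^ k = 1 := by
        have := congrArg Subtype.val hk
        simpa using this
      obtain ⟨b, -, hb⟩ := (Nat.dvd_prime_pow hr).1 (orderOf_dvd_of_pow_eq_one hk')
      exact ⟨r, b, hr, hrp, hb⟩)
    rw [hcard] at hdvd
    exact (hr.pow_dvd_iff_le_factorization hd0).1 hdvd

end Cfsg.Agent.Helper32.Mult
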