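import Cfsg.Agent.Helper79.Mult.Defs
import Cfsg.Agent.Helper3.QuatKer
import Cfsg.Agent.Helper74.CharBasic

/-!
# (KEY) for helper79's S4756 farm (helper32): under `Mult G` a nonlinear irreducible character has
`χ x * χ y = 0` for `x, y ≠ 1` of prime power orders for two different primes
-/

set_option autoImplicit false

universe u

namespace Cfsg.Agent.Helper32.Mult

open Cfsg Cfsg.Agent.Helper79.Mult

variable {G : Type u} [Group G] [Finite G]

theorem KEY_orderOf_conj (g y : G) : orderOf (g * y * g⁻¹) = orderOf y := by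
  have := orderOf_injective (MulAut.conj g).toMonoidHom (MulAut.conj g).injective y
  simpa [MulAut.conj_apply] using this

/-- (KEY) Under `Mult G` a nonlinear irreducible character has `χ x * χ y = 0`. -/
theorem mul_eq_zero_of_mult (h : Mult G) (χ : IrrCharacter G) (hχ : (χ : G → ℂ) 1 ≠ 1) (x y : G)
    (hx : x ≠ 1) (hy : y ≠ 1) (hxy : CopPP x y) : (χ : G → ℂ) x * (χ : G → ℂ) y = 0 := by
  classical
  haveI : Fintype G := Fintype.ofFinite G
  have hcf : IsClassFunction G (χ : G → ℂ) :=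
    Cfsg.Agent.Helper74.isClassFunction_of_isCharacter (Cfsg.Agent.Helper74.isCharacter_of_isIrr χ.2)
  have hsum := Cfsg.Agent.Helper3.Quat.sum_irr_mul_conj χ.2 x y
  have hterm : ∀ g : G, (χ : G → ℂ) (x * (g * y * g⁻¹)) = (χ : G → ℂ) x * (χ : G → ℂ) y := by
    intro g
    have hne : g * y * g⁻¹ ≠ 1 := by
      intro h1
      apply hy
      have : y = g⁻¹ * (g * y * g⁻¹) * g := by group
      rw [this, h1]
      group
    have hcop : CopPP x (g * y * g⁻¹) := by
      obtain ⟨p, q, a, b, hp, hq, hpq, hxa, hyb⟩ := hxy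
      exact ⟨p, q, a, b, hp, hq, hpq, hxa, by rw [KEY_orderOf_conj, hyb]⟩
    rw [h x (g * y * g⁻¹) χ hx hne hcop, hcf y g]
  rw [Finset.sum_congr rfl (fun g _ => hterm g), Finset.sum_const, Finset.card_univ, nsmul_eq_mul,
    Nat.card_eq_fintype_card] at hsum
  have hN : (Fintype.card G : ℂ) ≠ 0 := by
    exact_mod_cast Fintype.card_ne_zero
  set c : ℂ := (χ : G → ℂ) x * (χ : G → ℂ) y with hc
  by_cases h1 : (χ : G → ℂ) 1 = 0
  · rw [h1, div_zero, zero_mul] at hsum
    exact (mul_eq_zero.1 hsum).resolve_left hN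
  · have h2 : (Fintype.card G : ℂ) * c * ((χ : G → ℂ) 1 - 1) = 0 := by
      have h3 : (Fintype.card G : ℂ) * c * (χ : G → ℂ) 1 = (Fintype.card G : ℂ) * c := by
        have h5 : (Fintype.card G : ℂ) * c * (χ : G → ℂ) 1 =
            ((Fintype.card G : ℂ) * (χ : G → ℂ) y / (χ : G → ℂ) 1 * (χ : G → ℂ) x) * (χ : G → ℂ) 1 := by
          rw [← hsum]
        rw [h5, hc]
        field_simp
      linear_combination h3
    rcases mul_eq_zero.1 h2 with h4 | h4
    · exact (mul_eq_zero.1 h4).resolve_left hN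
    · exact absurd (sub_eq_zero.1 h4) hχ

end Cfsg.Agent.Helper32.Mult
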