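import Mathlib

/-!
# (SELFN) of S4931 (helper78's farm #9400): a self-normalizing Sylow subgroup of `R` stays
self-normalizing modulo `M`
-/

set_option autoImplicit false

namespace Cfsg.Agent.Helper32.NC

universe u

variable {G : Type u} [Group G] [Fintype G]

/-- (SELFN) a self-normalizing Sylow subgroup of `R` stays self-normalizing modulo `M`. -/
theorem mem_sup_of_mk_mem_normalizer (p : ℕ) [Fact p.Prime] (R M : Subgroup G) [M.Normal]
    (hMR : M ≤ R) (P : Sylow p G) (hPR : (P : Subgroup G) ≤ R)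
    (hself : ∀ r ∈ R, r ∈ Subgroup.normalizer ((P : Subgroup G) : Set G) → r ∈ (P : Subgroup G))
    (r : G) (hr : r ∈ R)
    (hn : QuotientGroup.mk' M r ∈ Subgroup.normalizer
      ((((P : Subgroup G).map (QuotientGroup.mk' M) : Subgroup (G ⧸ M))) : Set (G ⧸ M))) :
    r ∈ (P : Subgroup G) ⊔ M := by
  classical
  set H : Subgroup G := (P : Subgroup G) ⊔ M with hH
  have hHcomap : H =
      ((P : Subgroup G).map (QuotientGroup.mk' M)).comap (QuotientGroup.mk' M) := by
    rw [Subgroup.comap_map_eq, QuotientGroup.ker_mk']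
  have hPH : (P : Subgroup G) ≤ H := le_sup_left
  have hHR : H ≤ R := sup_le hPR hMR
  -- `r • P ≤ H`
  have hQH : ((r • P : Sylow p G) : Subgroup G) ≤ H := by
    intro y hy
    rw [Sylow.coe_subgroup_smul, Subgroup.mem_pointwise_smul_iff_inv_smul_mem] at hy
    have hy' : r⁻¹ * y * r ∈ (P : Subgroup G) := by
      simpa [MulAut.smul_def, MulAut.conj_inv_apply] using hy
    rw [hHcomap, Subgroup.mem_comap]
    have h1 : QuotientGroup.mk' M (r⁻¹ * y * r) ∈ (P : Subgroup G).map (QuotientGroup.mk' M) :=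
      Subgroup.mem_map_of_mem _ hy'
    have h2 := (Subgroup.mem_normalizer_iff.mp hn _).mp h1
    have h3 : QuotientGroup.mk' M r * QuotientGroup.mk' M (r⁻¹ * y * r) *
        (QuotientGroup.mk' M r)⁻¹ = QuotientGroup.mk' M y := by
      rw [← map_inv, ← map_mul, ← map_mul]
      congr 1
      group
    rwa [h3] at h2
  -- conjugate inside `H`
  obtain ⟨h, hh⟩ := MulAction.exists_smul_eq H (P.subtype hPH) ((r • P).subtype hQH)
  rw [Sylow.smul_subtype] at hh
  have h1 : h • P = r • P := Sylow.subtype_injective hh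
  have h2 : ((h : G)⁻¹ * r) • P = P := by
    rw [mul_smul, ← h1]
    show (h : G)⁻¹ • ((h : G) • P) = P
    rw [inv_smul_smul]
  have h3 : (h : G)⁻¹ * r ∈ Subgroup.normalizer ((P : Subgroup G) : Set G) :=
    Sylow.smul_eq_iff_mem_normalizer.mp h2
  have h4 : (h : G)⁻¹ * r ∈ R := R.mul_mem (R.inv_mem (hHR h.2)) hr
  have h5 := hself _ h4 h3
  have h6 : r = (h : G) * ((h : G)⁻¹ * r) := by group
  rw [h6]
  exact H.mul_mem h.2 (hPH h5)

end Cfsg.Agent.Helper32.NC
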