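import Mathlib
import Cfsg.Agent.Helper50.HSubgroup
import Cfsg.Agent.Helper2.Basic

/-!
# (TATE) of S4931 (helper78's farm #9400): Tate's theorem in focal form inside a subgroup `R`
-/

set_option autoImplicit false

namespace Cfsg.Agent.Helper32.NC

open Cfsg

universe u

variable {G : Type u} [Group G] [Fintype G]

/-- (TATE) Tate's theorem in focal form inside the normal subgroup `R`. -/
theorem hasNormalPComplement_of_focal (p : ℕ) [Fact p.Prime] (R : Subgroup G)
    (P : Sylow p G) (hPR : (P : Subgroup G) ≤ R)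
    (hfoc : ∀ u ∈ (P : Subgroup G), u ∈ ⁅R, R⁆ → u ∈ ⁅(P : Subgroup G), (P : Subgroup G)⁆) :
    HasNormalPComplement p ↥R := by
  classical
  set PR : Sylow p ↥R := P.subtype hPR with hPRdef
  have hPRcoe : (PR : Subgroup ↥R) = (P : Subgroup G).subgroupOf R := rfl
  apply Cfsg.Agent.Helper50.hasNormalPComplement_of_inf_commutator_le_frattini PR
  intro x hx
  obtain ⟨hxP, hxc⟩ := hx
  have hxP' : (x : G) ∈ (P : Subgroup G) := by
    have h0 : x ∈ (PR : Subgroup ↥R) := hxP
    rw [hPRcoe] at h0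
    exact Subgroup.mem_subgroupOf.mp h0
  have hxR : (x : G) ∈ ⁅R, R⁆ := by
    have h1 : (commutator ↥R).map R.subtype = ⁅R, R⁆ := by
      rw [commutator_def, Subgroup.map_commutator, ← MonoidHom.range_eq_map,
        Subgroup.range_subtype]
    rw [← h1]
    exact Subgroup.mem_map_of_mem _ hxc
  have hxPP := hfoc _ hxP' hxR
  have h2 : (⁅(PR : Subgroup ↥R), (PR : Subgroup ↥R)⁆).map R.subtype =
      ⁅(P : Subgroup G), (P : Subgroup G)⁆ := by
    rw [Subgroup.map_commutator, hPRcoe, Subgroup.map_subgroupOf_eq_of_le hPR]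
  have hx2 : x ∈ ⁅(PR : Subgroup ↥R), (PR : Subgroup ↥R)⁆ := by
    rw [← h2] at hxPP
    obtain ⟨y, hy, hyx⟩ := hxPP
    have : y = x := Subtype.ext hyx
    rwa [← this]
  have h3 : ⁅(PR : Subgroup ↥R), (PR : Subgroup ↥R)⁆ =
      (commutator ↥(PR : Subgroup ↥R)).map (PR : Subgroup ↥R).subtype := by
    rw [commutator_def, Subgroup.map_commutator, ← MonoidHom.range_eq_map,
      Subgroup.range_subtype]
  rw [h3] at hx2
  haveI : Group.IsNilpotent ↥(PR : Subgroup ↥R) := PR.isPGroup'.isNilpotent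
  exact Subgroup.map_mono Cfsg.Agent.Helper2.commutator_le_frattini hx2

end Cfsg.Agent.Helper32.NC
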