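import Mathlib
import Cfsg.Agent.Helper62.Ore.Defs

/-!
# (SCA) for helper62's S2444 farm (helper32): a scalar matrix `α • 1 ∈ SL_n(F)` with
`α ^ (n (n - 1) / 2) = 1` is a commutator: `a` = weighted cyclic shift, `b = diag(α^i)`
-/

set_option autoImplicit false

namespace Cfsg.Agent.Helper32.Ore

open Polynomial Module Cfsg.Agent.Helper62.Ore

variable {F : Type*} [Field F] {V : Type*} [AddCommGroup V] [Module F V]

/-- the diagonal matrix `diag(α^i)` -/
def SCA_D (m : ℕ) (α : F) : Matrix (Fin (m + 1)) (Fin (m + 1)) F :=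
  Matrix.diagonal (fun i : Fin (m + 1) => α ^ (i : ℕ))

/-- the sign correction -/
def SCA_E (m : ℕ) : Matrix (Fin (m + 1)) (Fin (m + 1)) F :=
  Matrix.diagonal (fun j : Fin (m + 1) => if j = 0 then (-1 : F) ^ m else 1)

/-- the weighted cyclic shift -/
def SCA_P (m : ℕ) : Matrix (Fin (m + 1)) (Fin (m + 1)) F :=
  (finRotate (m + 1)).permMatrix F * SCA_E m

theorem SCA_det_D (m : ℕ) (α : F) : (SCA_D m α).det = α ^ ((m + 1) * (m + 1 - 1) / 2) := by
  unfold SCA_D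
  rw [Matrix.det_diagonal, Finset.prod_pow_eq_pow_sum, Fin.sum_univ_eq_sum_range (fun i => i) (m + 1),
    Finset.sum_range_id]

theorem SCA_det_E (m : ℕ) : (SCA_E (F := F) m).det = (-1) ^ m := by
  unfold SCA_E
  rw [Matrix.det_diagonal, Finset.prod_ite_eq' Finset.univ (0 : Fin (m + 1)) (fun _ => (-1 : F) ^ m)]
  simp

theorem SCA_det_P (m : ℕ) : (SCA_P (F := F) m).det = 1 := by
  unfold SCA_P
  rw [Matrix.det_mul, Matrix.det_permutation, sign_finRotate, SCA_det_E]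
  push_cast
  rw [← mul_pow]
  simp

theorem SCA_P_apply (m : ℕ) (i j : Fin (m + 1)) :
    SCA_P (F := F) m i j = if i + 1 = j then (if j = 0 then (-1 : F) ^ m else 1) else 0 := by
  unfold SCA_P SCA_E
  rw [Matrix.mul_diagonal, Equiv.Perm.permMatrix, PEquiv.toMatrix_apply]
  simp only [Equiv.toPEquiv_apply, Option.mem_def, Option.some.injEq, finRotate_succ_apply]
  split_ifs <;> simp

/-- (SCA) scalar case, `det D = 1`. -/
theorem scalar_easy {F : Type*} [Field F] (n : ℕ) (hn : 1 ≤ n)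
    (g : Matrix.SpecialLinearGroup (Fin n) F) (α : F)
    (hg : (g : Matrix (Fin n) (Fin n) F) = α • (1 : Matrix (Fin n) (Fin n) F))
    (h : α ^ (n * (n - 1) / 2) = 1) :
    ∃ a b : Matrix.SpecialLinearGroup (Fin n) F, g = a * b * a⁻¹ * b⁻¹ := by
  obtain ⟨m, rfl⟩ : ∃ m, n = m + 1 := ⟨n - 1, by omega⟩
  have hαn : α ^ (m + 1) = 1 := by
    have h1 := g.2
    rw [hg, Matrix.det_smul, Matrix.det_one, mul_one, Fintype.card_fin] at h1
    exact h1
  obtain ⟨a, ha⟩ : ∃ a : Matrix.SpecialLinearGroup (Fin (m + 1)) F,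
      (a : Matrix (Fin (m + 1)) (Fin (m + 1)) F) = SCA_P m := ⟨⟨SCA_P m, SCA_det_P m⟩, rfl⟩
  obtain ⟨b, hb⟩ : ∃ b : Matrix.SpecialLinearGroup (Fin (m + 1)) F,
      (b : Matrix (Fin (m + 1)) (Fin (m + 1)) F) = SCA_D m α :=
    ⟨⟨SCA_D m α, by rw [SCA_det_D, h]⟩, rfl⟩
  refine ⟨a, b, ?_⟩
  rw [eq_mul_inv_iff_mul_eq, eq_mul_inv_iff_mul_eq]
  apply Subtype.ext
  rw [Matrix.SpecialLinearGroup.coe_mul, Matrix.SpecialLinearGroup.coe_mul,
    Matrix.SpecialLinearGroup.coe_mul, ha, hb]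
  show (g : Matrix (Fin (m + 1)) (Fin (m + 1)) F) * SCA_D m α * SCA_P m = SCA_P m * SCA_D m α
  rw [hg, Matrix.smul_mul, Matrix.one_mul, Matrix.smul_mul]
  ext i j
  rw [Matrix.smul_apply, smul_eq_mul]
  unfold SCA_D
  rw [Matrix.diagonal_mul, Matrix.mul_diagonal, SCA_P_apply]
  by_cases hij : i + 1 = j
  · rw [if_pos hij]
    have hval : α * α ^ (i : ℕ) = α ^ (j : ℕ) := by
      rw [← hij, Fin.val_add_one]
      split_ifs with hl
      · rw [hl, Fin.val_last, ← pow_succ', hαn, pow_zero]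
      · rw [pow_succ']
    rw [← hval]
    ring
  · rw [if_neg hij]
    ring

end Cfsg.Agent.Helper32.Ore
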