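import Mathlib.GroupTheory.PGroup
import Mathlib.GroupTheory.Sylow
import Mathlib.GroupTheory.GroupAction.ConjAct
import Mathlib.GroupTheory.QuotientGroup.Basic

set_option autoImplicit false

namespace Cfsg.Agent.Helper32

open MulAction in
/-- In a finite `p`-group, a nontrivial normal subgroup contains a nontrivial central element. -/
theorem exists_mem_center_of_normal {Q : Type*} [Group Q] [Finite Q] {p : ℕ} [Fact p.Prime]
    (hQ : IsPGroup p Q) (D : Subgroup Q) [D.Normal] (hD : D ≠ ⊥) :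
    ∃ b ∈ D, b ≠ 1 ∧ b ∈ Subgroup.center Q := by
  have hQ' : IsPGroup p (ConjAct Q) := hQ.of_equiv ConjAct.toConjAct
  have hDp : IsPGroup p D := hQ.to_subgroup D
  haveI : Nontrivial D := (Subgroup.nontrivial_iff_ne_bot D).mpr hD
  have hdvd : p ∣ Nat.card D := by
    obtain ⟨n, hn0, hn⟩ := hDp.nontrivial_iff_card.mp inferInstance
    exact hn.symm ▸ dvd_pow_self _ (ne_of_gt hn0)
  have h1 : (1 : D) ∈ fixedPoints (ConjAct Q) D := by
    intro g
    exact smul_one g
  obtain ⟨b, hb, hb1⟩ := hQ'.exists_fixed_point_of_prime_dvd_card_of_fixed_point D hdvd h1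
  refine ⟨b, b.2, ?_, ?_⟩
  · intro h
    apply hb1
    exact (Subtype.ext h).symm
  · rw [Subgroup.mem_center_iff]
    intro g
    have := hb (ConjAct.toConjAct g)
    have h2 : ((ConjAct.toConjAct g • b : D) : Q) = (b : Q) := by rw [this]
    rw [ConjAct.Subgroup.val_conj_smul, ConjAct.smul_def, ConjAct.ofConjAct_toConjAct] at h2
    calc g * (b : Q) = g * (b : Q) * g⁻¹ * g := by group
      _ = (b : Q) * g := by rw [h2]

/-- In a finite `p`-group, if `C < D` are normal subgroups, there is `x ∈ D \ C` whose commutators with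
everything lie in `C` (that is, `x` is central modulo `C`). -/
theorem exists_central_mod {P : Type*} [Group P] [Finite P] {p : ℕ} [Fact p.Prime] (hP : IsPGroup p P)
    (C D : Subgroup P) [C.Normal] [D.Normal] (hCD : C < D) :
    ∃ x ∈ D, x ∉ C ∧ ∀ g : P, g * x * g⁻¹ * x⁻¹ ∈ C := by
  have hQ : IsPGroup p (P ⧸ C) := hP.to_quotient C
  let Dbar : Subgroup (P ⧸ C) := D.map (QuotientGroup.mk' C)
  haveI : Dbar.Normal := Subgroup.Normal.map inferInstance _ (QuotientGroup.mk'_surjective C)
  have hDbar : Dbar ≠ ⊥ := by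
    intro h
    have h1 : D ≤ C := by
      intro d hd
      have : QuotientGroup.mk' C d ∈ Dbar := Subgroup.mem_map_of_mem _ hd
      rw [h, Subgroup.mem_bot] at this
      exact (QuotientGroup.eq_one_iff d).mp this
    exact (not_le_of_gt hCD) h1
  obtain ⟨b, hbD, hb1, hbZ⟩ := exists_mem_center_of_normal hQ Dbar hDbar
  obtain ⟨x, hxD, rfl⟩ := Subgroup.mem_map.mp hbD
  refine ⟨x, hxD, ?_, ?_⟩
  · intro hxC
    apply hb1
    exact (QuotientGroup.eq_one_iff x).mpr hxC
  · intro g
    rw [Subgroup.mem_center_iff] at hbZ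
    have := hbZ (QuotientGroup.mk' C g)
    rw [← QuotientGroup.eq_one_iff]
    have h2 : ((g * x * g⁻¹ * x⁻¹ : P) : P ⧸ C) =
        QuotientGroup.mk' C g * QuotientGroup.mk' C x * (QuotientGroup.mk' C g)⁻¹ * (QuotientGroup.mk' C x)⁻¹ := by
      simp
    rw [h2, this]
    group

end Cfsg.Agent.Helper32
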