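import Mathlib
import Cfsg.Agent.Helper52.PQDefs
import Cfsg.Agent.Helper31.WardW34
import Cfsg.Agent.Helper71.QuotImage

/-!
# S4306, piece (SQ): structure of `Q` in the minimal tower (helper32, for helper52)
-/

set_option autoImplicit false

namespace Cfsg.Agent.Helper32.PQ

open Subgroup Cfsg.Agent.Helper1.Shult Cfsg.Agent.Helper52.PQ
open scoped commutatorElement

variable {H : Type*} [Group H] [Finite H]

/-- conjugation by an element normalizing `A` and `B` preserves `⁅A, B⁆`. -/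
theorem conj_mem_commutator_of_normalizer {g : H} {A B : Subgroup H}
    (hA : g ∈ normalizer (A : Set H)) (hB : g ∈ normalizer (B : Set H)) :
    ∀ h ∈ ⁅A, B⁆, g * h * g⁻¹ ∈ ⁅A, B⁆ := by
  have key : ⁅A, B⁆ ≤ (⁅A, B⁆).comap (MulAut.conj g).toMonoidHom := by
    rw [commutator_le]
    intro a ha b hb
    rw [mem_comap]
    have h1 : (MulAut.conj g).toMonoidHom ⁅a, b⁆ = ⁅g * a * g⁻¹, g * b * g⁻¹⁆ := by
      simp only [MulEquiv.toMonoidHom_eq_coe, MonoidHom.coe_coe, MulAut.conj_apply,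
        commutatorElement_def]
      group
    rw [h1]
    exact commutator_mem_commutator ((mem_normalizer_iff.1 hA a).1 ha)
      ((mem_normalizer_iff.1 hB b).1 hb)
  intro h hh
  exact key hh

theorem mem_normalizer_commutator {g : H} {A B : Subgroup H}
    (hA : g ∈ normalizer (A : Set H)) (hB : g ∈ normalizer (B : Set H)) :
    g ∈ normalizer ((⁅A, B⁆ : Subgroup H) : Set H) := by
  rw [mem_normalizer_iff]
  intro h
  constructor
  · exact conj_mem_commutator_of_normalizer hA hB h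
  · intro hh
    have h1 := conj_mem_commutator_of_normalizer (inv_mem hA) (inv_mem hB) _ hh
    have h2 : g⁻¹ * (g * h * g⁻¹) * g⁻¹⁻¹ = h := by group
    rwa [h2] at h1

/-- `N` with `⁅Q, Q⁆ ≤ N ≤ Q` is normal in `Q`. -/
theorem le_normalizer_of_commutator_le {Q N : Subgroup H} (hQ1N : ⁅Q, Q⁆ ≤ N) (hNQ : N ≤ Q) :
    Q ≤ normalizer (N : Set H) := by
  intro q hq
  rw [mem_normalizer_iff]
  intro n
  constructor
  · intro hn
    have h1 : ⁅q, n⁆ ∈ N := hQ1N (commutator_mem_commutator hq (hNQ hn))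
    have h2 : q * n * q⁻¹ = ⁅q, n⁆ * n := by rw [commutatorElement_def]; group
    rw [h2]; exact N.mul_mem h1 hn
  · intro hn
    have hm : q * n * q⁻¹ ∈ Q := hNQ hn
    have h1 : ⁅q⁻¹, q * n * q⁻¹⁆ ∈ N := hQ1N (commutator_mem_commutator (Q.inv_mem hq) hm)
    have h2 : n = ⁅q⁻¹, q * n * q⁻¹⁆ * (q * n * q⁻¹) := by rw [commutatorElement_def]; group
    rw [h2]; exact N.mul_mem h1 hn

/-- `C_{Q/N}(R) = 1` whenever `Q = [Q, R]`, `Q / N` abelian and the action is coprime. -/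
theorem fix_quot_trivial {w u : ℕ} [Fact w.Prime] [Fact u.Prime] (hwu : w ≠ u)
    {Q R N : Subgroup H} (hQ : IsPGroup w Q) (hR : IsPGroup u R)
    (hRQ : R ≤ normalizer (Q : Set H)) (hQR : Q ≤ ⁅Q, R⁆)
    (hQ1N : ⁅Q, Q⁆ ≤ N) (hNQ : N ≤ Q) (hRN : R ≤ normalizer (N : Set H)) (g : H) (hg : g ∈ Q)
    (hfix : ∀ x ∈ R, g⁻¹ * (x * g * x⁻¹) ∈ N) : g ∈ N := by
  classical
  have hQN : Q ≤ normalizer (N : Set H) := le_normalizer_of_commutator_le hQ1N hNQ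
  have hVab : ∀ a ∈ Cfsg.Agent.Helper71.QI.img N Q, ∀ b ∈ Cfsg.Agent.Helper71.QI.img N Q,
      a * b = b * a := by
    intro a ha b hb
    obtain ⟨s, hs, hsQ, rfl⟩ := Cfsg.Agent.Helper71.QI.mem_img.mp ha
    obtain ⟨t, ht, htQ, rfl⟩ := Cfsg.Agent.Helper71.QI.mem_img.mp hb
    rw [← map_mul, ← map_mul, Cfsg.Agent.Helper71.QI.proj_eq_proj_iff]
    have h1 : ⁅t⁻¹, s⁻¹⁆ ∈ N :=
      hQ1N (commutator_mem_commutator (Q.inv_mem htQ) (Q.inv_mem hsQ))
    have h2 : ((⟨s, hs⟩ * ⟨t, ht⟩ : ↥(normalizer (N : Set H))) : H)⁻¹ *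
        ((⟨t, ht⟩ * ⟨s, hs⟩ : ↥(normalizer (N : Set H))) : H) = ⁅t⁻¹, s⁻¹⁆ := by
      rw [commutatorElement_def]
      simp only [Subgroup.coe_mul]
      group
    rw [h2]; exact h1
  have hTV := Cfsg.Agent.Helper71.QI.img_le_normalizer (N := N) hRQ
  have hcop : (Nat.card (Cfsg.Agent.Helper71.QI.img N Q)).Coprime
      (Nat.card (Cfsg.Agent.Helper71.QI.img N R)) := by
    obtain ⟨a, ha⟩ := (IsPGroup.iff_card).1 (Cfsg.Agent.Helper71.QI.isPGroup_img (N := N) hQ)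
    obtain ⟨b, hb⟩ := (IsPGroup.iff_card).1 (Cfsg.Agent.Helper71.QI.isPGroup_img (N := N) hR)
    rw [ha, hb]
    exact Nat.Coprime.pow _ _ ((Nat.coprime_primes (Fact.out) (Fact.out)).2 hwu)
  have hsplit := (Cfsg.Agent.Helper31.Ward.abelian_coprime_split _ _ hVab hTV hcop).2
  -- the image of `g`
  have hgbar : Cfsg.Agent.Helper71.QI.proj N ⟨g, hQN hg⟩ ∈
      (Cfsg.Agent.Helper71.QI.img N Q ⊓
        centralizer ((Cfsg.Agent.Helper71.QI.img N R : Subgroup _) : Set _)) ⊓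
      ⁅Cfsg.Agent.Helper71.QI.img N Q, Cfsg.Agent.Helper71.QI.img N R⁆ := by
    refine mem_inf.2 ⟨mem_inf.2 ⟨?_, ?_⟩, ?_⟩
    · exact Cfsg.Agent.Helper71.QI.mem_img.mpr ⟨g, hQN hg, hg, rfl⟩
    · rw [mem_centralizer_iff]
      intro y hy
      obtain ⟨x, hx, hxR, rfl⟩ := Cfsg.Agent.Helper71.QI.mem_img.mp hy
      rw [← map_mul, ← map_mul, Cfsg.Agent.Helper71.QI.proj_eq_proj_iff]
      have h1 := hfix x⁻¹ (R.inv_mem hxR)
      have h2 : ((⟨x, hx⟩ * ⟨g, hQN hg⟩ : ↥(normalizer (N : Set H))) : H)⁻¹ *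
          ((⟨g, hQN hg⟩ * ⟨x, hx⟩ : ↥(normalizer (N : Set H))) : H) =
          g⁻¹ * (x⁻¹ * g * x⁻¹⁻¹) := by
        simp only [Subgroup.coe_mul]
        group
      rw [h2]; exact h1
    · have h1 : map (normalizer (N : Set H)).subtype
          ⁅Q.subgroupOf (normalizer (N : Set H)), R.subgroupOf (normalizer (N : Set H))⁆ =
          ⁅Q, R⁆ := by
        rw [map_commutator, subgroupOf_map_subtype, subgroupOf_map_subtype,
          inf_of_le_left hQN, inf_of_le_left hRN]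
      have h2 : g ∈ map (normalizer (N : Set H)).subtype
          ⁅Q.subgroupOf (normalizer (N : Set H)), R.subgroupOf (normalizer (N : Set H))⁆ := by
        rw [h1]; exact hQR hg
      obtain ⟨g', hg', hgg'⟩ := h2
      have h3 : g' = ⟨g, hQN hg⟩ := Subtype.ext hgg'
      rw [← h3]
      have h4 : Cfsg.Agent.Helper71.QI.proj N g' ∈ map (Cfsg.Agent.Helper71.QI.proj N)
          ⁅Q.subgroupOf (normalizer (N : Set H)), R.subgroupOf (normalizer (N : Set H))⁆ :=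
        mem_map_of_mem _ hg'
      rw [map_commutator] at h4
      exact h4
  rw [hsplit, mem_bot, Cfsg.Agent.Helper71.QI.proj_eq_one_iff] at hgbar
  exact hgbar

/-- class two: `⁅a ^ n, b⁆ = ⁅a, b⁆ ^ n` when `⁅a, b⁆` commutes with `a`. -/
theorem commutatorElement_pow_left_of_commute {a b : H} (h : Commute ⁅a, b⁆ a) (n : ℕ) :
    ⁅a ^ n, b⁆ = ⁅a, b⁆ ^ n := by
  induction n with
  | zero => simp [commutatorElement_def]
  | succ n ih =>
    have h1 : ⁅a ^ (n + 1), b⁆ = a * ⁅a ^ n, b⁆ * a⁻¹ * ⁅a, b⁆ := by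
      simp only [commutatorElement_def]
      group
    rw [h1, ih, ← (h.pow_left n).eq, mul_inv_cancel_right, pow_succ]

/-- the subgroup `{g ∈ Q | g ^ w ∈ ⁅Q, Q⁆}`. -/
theorem exists_omega (w : ℕ) (Q : Subgroup H) :
    ∃ Ω : Subgroup H, ∀ g : H, g ∈ Ω ↔ g ∈ Q ∧ g ^ w ∈ ⁅Q, Q⁆ := by
  refine ⟨(((powMonoidHom w).comp Abelianization.of :
    ↥Q →* Abelianization ↥Q).ker).map Q.subtype, fun g => ?_⟩
  constructor
  · rintro ⟨g', hg', rfl⟩
    refine ⟨g'.2, ?_⟩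
    have h1 : Abelianization.of (g' ^ w) = 1 := by
      rw [map_pow]; exact (MonoidHom.mem_ker).1 hg'
    have h2 : g' ^ w ∈ commutator ↥Q := by
      rw [← Abelianization.ker_of]; exact MonoidHom.mem_ker.2 h1
    have h3 : Q.subtype (g' ^ w) ∈ map Q.subtype (commutator ↥Q) := mem_map_of_mem _ h2
    rw [map_subtype_commutator] at h3
    simpa using h3
  · rintro ⟨hgQ, hgw⟩
    refine ⟨⟨g, hgQ⟩, ?_, rfl⟩
    rw [← map_subtype_commutator] at hgw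
    obtain ⟨z, hz, hzg⟩ := hgw
    have h1 : z = (⟨g, hgQ⟩ : ↥Q) ^ w := Subtype.ext (by simpa using hzg)
    rw [SetLike.mem_coe, MonoidHom.mem_ker]
    show (Abelianization.of (⟨g, hgQ⟩ : ↥Q)) ^ w = 1
    rw [← map_pow, ← h1, ← MonoidHom.mem_ker, Abelianization.ker_of]; exact hz

/-- an element of order `w` modulo `⁅Q, Q⁆`. -/
theorem exists_pow_mem_commutator {w : ℕ} [Fact w.Prime] {Q : Subgroup H} (hQ : IsPGroup w Q)
    (hne : ⁅Q, Q⁆ ≠ Q) : ∃ g ∈ Q, g ∉ ⁅Q, Q⁆ ∧ g ^ w ∈ ⁅Q, Q⁆ := by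
  have hP : IsPGroup w (↥Q ⧸ commutator ↥Q) := hQ.to_quotient (commutator ↥Q)
  have hcard : Nat.card (↥Q ⧸ commutator ↥Q) ≠ 1 := by
    intro h1
    rw [← Subgroup.index_eq_card, Subgroup.index_eq_one] at h1
    apply hne
    rw [← map_subtype_commutator, h1, ← MonoidHom.range_eq_map, Q.range_subtype]
  obtain ⟨x, hx⟩ := exists_prime_orderOf_dvd_card' w (hP.card_eq_or_dvd.resolve_left hcard)
  obtain ⟨g, rfl⟩ := QuotientGroup.mk_surjective x
  have hx1 : (QuotientGroup.mk g : ↥Q ⧸ commutator ↥Q) ≠ 1 := by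
    intro h1
    rw [h1, orderOf_one] at hx
    exact (Fact.out : w.Prime).one_lt.ne hx
  have hxw : (QuotientGroup.mk g : ↥Q ⧸ commutator ↥Q) ^ w = 1 := by
    rw [← hx]; exact pow_orderOf_eq_one _
  refine ⟨g.1, g.2, ?_, ?_⟩
  · intro hg
    apply hx1
    rw [QuotientGroup.eq_one_iff]
    rw [← map_subtype_commutator] at hg
    obtain ⟨z, hz, hzg⟩ := hg
    have : z = g := Subtype.ext hzg
    rwa [← this]
  · rw [← QuotientGroup.mk_pow, QuotientGroup.eq_one_iff] at hxw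
    have h3 : Q.subtype (g ^ w) ∈ map Q.subtype (commutator ↥Q) := mem_map_of_mem _ hxw
    rw [map_subtype_commutator] at h3
    simpa using h3

/-- **(SQ)** structure of `Q`. -/
theorem struct_Q {s t ℓ w u : ℕ} [Fact ℓ.Prime] [Fact w.Prime] [Fact u.Prime] {σ τ : H}
    {V Q R : Subgroup H} (c : CoreCfg s t ℓ w u σ τ V Q R) :
    ⁅Q, Q⁆ ≤ centralizer (R : Set H) ∧ ⁅Q, Q⁆ ≤ centralizer (Q : Set H) ∧
    (∀ g ∈ Q, g ^ w ∈ ⁅Q, Q⁆) ∧ (∀ z ∈ ⁅Q, Q⁆, z ^ w = 1) ∧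
    (∀ N : Subgroup H, ⁅Q, Q⁆ ≤ N → N ≤ Q → R ≤ normalizer (N : Set H) →
      ∀ g ∈ Q, (∀ x ∈ R, g⁻¹ * (x * g * x⁻¹) ∈ N) → g ∈ N) := by
  have hQ1Q : ⁅Q, Q⁆ ≤ Q := Q.commutator_le_self
  have hQ1ne : ⁅Q, Q⁆ ≠ Q := by
    haveI : Nontrivial ↥Q := (Subgroup.nontrivial_iff_ne_bot Q).2 c.hQne
    haveI : Group.IsNilpotent ↥Q := c.hQ.isNilpotent
    have h1 : commutator ↥Q < ⊤ := Group.IsSolvable.commutator_lt_top_of_nontrivial ↥Q
    intro h2
    apply h1.ne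
    apply Subgroup.map_injective Q.subtype_injective
    rw [map_subtype_commutator, h2, ← MonoidHom.range_eq_map, Q.range_subtype]
  have hQ1inv : Inv σ τ ⁅Q, Q⁆ :=
    ⟨mem_normalizer_commutator c.hQinv.1 c.hQinv.1, mem_normalizer_commutator c.hQinv.2 c.hQinv.2⟩
  have hRQ1 : R ≤ normalizer ((⁅Q, Q⁆ : Subgroup H) : Set H) :=
    fun x hx => mem_normalizer_commutator (c.hRQ hx) (c.hRQ hx)
  have h1 : ⁅Q, Q⁆ ≤ centralizer (R : Set H) := c.hminQ _ hQ1Q hQ1ne hQ1inv hRQ1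
  have h2 : ⁅Q, Q⁆ ≤ centralizer (Q : Set H) := by
    have e1 : ⁅⁅R, ⁅Q, Q⁆⁆, Q⁆ = ⊥ := by
      have e0 : ⁅R, ⁅Q, Q⁆⁆ = ⊥ := by
        rw [commutator_comm, commutator_eq_bot_iff_le_centralizer]; exact h1
      rw [e0, commutator_bot_left]
    have e2 : ⁅⁅⁅Q, Q⁆, Q⁆, R⁆ = ⊥ := by
      rw [commutator_eq_bot_iff_le_centralizer]
      exact le_trans (commutator_mono hQ1Q le_rfl) h1
    have e3 : ⁅⁅Q, R⁆, ⁅Q, Q⁆⁆ = ⊥ := commutator_commutator_eq_bot_of_rotate e1 e2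
    have e4 : ⁅Q, ⁅Q, Q⁆⁆ = ⊥ := by
      rw [eq_bot_iff, ← e3]; exact commutator_mono c.hQR le_rfl
    rw [commutator_comm, commutator_eq_bot_iff_le_centralizer] at e4
    exact e4
  have h5 : ∀ N : Subgroup H, ⁅Q, Q⁆ ≤ N → N ≤ Q → R ≤ normalizer (N : Set H) →
      ∀ g ∈ Q, (∀ x ∈ R, g⁻¹ * (x * g * x⁻¹) ∈ N) → g ∈ N :=
    fun N hQ1N hNQ hRN g hg hfix =>
      fix_quot_trivial c.hwu c.hQ c.hR c.hRQ c.hQR hQ1N hNQ hRN g hg hfix
  have h3 : ∀ g ∈ Q, g ^ w ∈ ⁅Q, Q⁆ := by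
    obtain ⟨Ω, hΩ⟩ := exists_omega w Q
    obtain ⟨g0, hg0Q, hg0n, hg0w⟩ := exists_pow_mem_commutator c.hQ hQ1ne
    have hΩQ : Ω ≤ Q := fun g hg => ((hΩ g).1 hg).1
    have key : ∀ y : H, y ∈ normalizer (Q : Set H) → ∀ g ∈ Ω, y * g * y⁻¹ ∈ Ω := by
      intro y hy g hg
      obtain ⟨hgQ, hgw⟩ := (hΩ g).1 hg
      have hy1 : y ∈ normalizer ((⁅Q, Q⁆ : Subgroup H) : Set H) :=
        mem_normalizer_commutator hy hy
      refine (hΩ _).2 ⟨(mem_normalizer_iff.1 hy g).1 hgQ, ?_⟩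
      rw [conj_pow]
      exact (mem_normalizer_iff.1 hy1 _).1 hgw
    have hΩnorm : ∀ x : H, x ∈ normalizer (Q : Set H) → x ∈ normalizer (Ω : Set H) := by
      intro x hx
      rw [mem_normalizer_iff]
      intro g
      refine ⟨key x hx g, fun hg => ?_⟩
      have h := key x⁻¹ (inv_mem hx) _ hg
      have e : x⁻¹ * (x * g * x⁻¹) * x⁻¹⁻¹ = g := by group
      rwa [e] at h
    by_cases hΩeq : Ω = Q
    · intro g hg
      exact ((hΩ g).1 (hΩeq ▸ hg)).2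
    · exfalso
      have hΩc : Ω ≤ centralizer (R : Set H) :=
        c.hminQ Ω hΩQ hΩeq ⟨hΩnorm σ c.hQinv.1, hΩnorm τ c.hQinv.2⟩
          (fun x hx => hΩnorm x (c.hRQ hx))
      apply hg0n
      have hg0Ω : g0 ∈ Ω := (hΩ g0).2 ⟨hg0Q, hg0w⟩
      refine h5 _ le_rfl hQ1Q hRQ1 g0 hg0Q ?_
      intro x hx
      have h : x * g0 = g0 * x := (mem_centralizer_iff.1 (hΩc hg0Ω)) x hx
      have e : g0⁻¹ * (x * g0 * x⁻¹) = 1 := by rw [h]; group
      rw [e]; exact one_mem _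
  have h4 : ∀ z ∈ ⁅Q, Q⁆, z ^ w = 1 := by
    let S : Subgroup H :=
      { carrier := {z | z ∈ ⁅Q, Q⁆ ∧ z ^ w = 1}
        mul_mem' := by
          rintro a b ⟨ha, ha1⟩ ⟨hb, hb1⟩
          refine ⟨mul_mem ha hb, ?_⟩
          have hc : Commute a b := (mem_centralizer_iff.1 (h2 hb)) a (hQ1Q ha)
          rw [hc.mul_pow, ha1, hb1, one_mul]
        one_mem' := ⟨one_mem _, one_pow _⟩
        inv_mem' := by
          rintro a ⟨ha, ha1⟩
          exact ⟨inv_mem ha, by rw [inv_pow, ha1, inv_one]⟩ }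
    have hle : ⁅Q, Q⁆ ≤ S := by
      rw [commutator_le]
      intro a ha b hb
      refine ⟨commutator_mem_commutator ha hb, ?_⟩
      have hcomm : Commute ⁅a, b⁆ a :=
        ((mem_centralizer_iff.1 (h2 (commutator_mem_commutator ha hb))) a ha).symm
      rw [← commutatorElement_pow_left_of_commute hcomm w]
      have haw : a ^ w ∈ centralizer (Q : Set H) := h2 (h3 a ha)
      have h : b * a ^ w = a ^ w * b := (mem_centralizer_iff.1 haw) b hb
      rw [commutatorElement_def, ← h]; group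
    intro z hz
    exact (hle hz).2
  exact ⟨h1, h2, h3, h4, h5⟩

end Cfsg.Agent.Helper32.PQ
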