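-- (S4) of helper88's WANTED #4677 for S5318: fusion generation for a semidihedral Sylow 2-subgroup of GL₂(F),
-- q ≡ 3 mod 4.
import Cfsg.Agent.Helper88.PSL3Fus

set_option autoImplicit false

namespace Cfsg.Agent.Helper32.PSL3S

open Matrix Cfsg.Agent.Helper37.PSL3Inv Cfsg.Agent.Helper37.SU3Inv Cfsg.Agent.Helper37.GL2S2
  Cfsg.Agent.Helper85 Cfsg.Agent.Helper88.PSL3F

variable {F : Type*} [Field F]

/-- the matrix `J = [[0,-1],[1,0]]` as an element of `GL₂(F)`. -/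
noncomputable def Jm : GL (Fin 2) F :=
  Matrix.GeneralLinearGroup.mkOfDetNeZero !![0, -1; 1, 0] (by
    rw [Matrix.det_fin_two]; simp)

lemma Jm_val : (Jm (F := F)).1 = !![0, -1; 1, 0] := rfl

/-- If `-1` is not a square in `F`, every `A ∈ GL₂(F)` with `A² = -1` is conjugate to `J`. -/
lemma exists_conj_Jm (hns : ¬ IsSquare (-1 : F)) (A : GL (Fin 2) F) (hA : A * A = -1) :
    ∃ M : GL (Fin 2) F, A = M * Jm * M⁻¹ := by
  have hval : A.1 * A.1 = -1 := by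
    have := congrArg Units.val hA
    simpa using this
  have e00 := congrFun (congrFun hval 0) 0
  have e01 := congrFun (congrFun hval 0) 1
  have e10 := congrFun (congrFun hval 1) 0
  have e11 := congrFun (congrFun hval 1) 1
  simp [Matrix.mul_apply, Fin.sum_univ_two] at e00 e01 e10 e11
  have hc : A.1 1 0 ≠ 0 := by
    intro hc0
    apply hns
    refine ⟨A.1 0 0, ?_⟩
    rw [hc0, mul_zero, add_zero] at e00
    exact e00.symm
  have hdet : (!![1, A.1 0 0; 0, A.1 1 0] : Matrix (Fin 2) (Fin 2) F).det ≠ 0 := by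
    rw [Matrix.det_fin_two]
    simpa using hc
  let M : GL (Fin 2) F := Matrix.GeneralLinearGroup.mkOfDetNeZero !![1, A.1 0 0; 0, A.1 1 0] hdet
  have hMval : M.1 = !![1, A.1 0 0; 0, A.1 1 0] := rfl
  refine ⟨M, ?_⟩
  rw [eq_mul_inv_iff_mul_eq]
  apply Units.ext
  rw [Units.val_mul, Units.val_mul, hMval, Jm_val]
  ext i j
  fin_cases i <;> fin_cases j
  · simp [Matrix.mul_apply, Fin.sum_univ_two]
  · simp [Matrix.mul_apply, Fin.sum_univ_two]
    linear_combination e00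
  · simp [Matrix.mul_apply, Fin.sum_univ_two]
  · simp [Matrix.mul_apply, Fin.sum_univ_two]
    linear_combination e10

/-- two elements of `GL₂(F)` with square `-1` are conjugate when `-1` is a nonsquare. -/
lemma exists_conj_of_sq_neg_one (hns : ¬ IsSquare (-1 : F)) (A B : GL (Fin 2) F) (hA : A * A = -1)
    (hB : B * B = -1) : ∃ k : GL (Fin 2) F, k * A * k⁻¹ = B := by
  obtain ⟨M, hM⟩ := exists_conj_Jm hns A hA
  obtain ⟨N, hN⟩ := exists_conj_Jm hns B hB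
  refine ⟨N * M⁻¹, ?_⟩
  rw [hM, hN]
  group

variable [Fintype F]

/-- (S4) -/
theorem sd_fus (h3 : Fintype.card F % 4 = 3) {P : Subgroup (GL (Fin 2) F)} {x y : GL (Fin 2) F} {b : ℕ}
    (h : SdData P x y b)
    (T₀ : Subgroup (GL (Fin 2) F)) (hT : T₀ ≤ P) (hinv : ∀ t ∈ P, t * t = 1 → t ∈ T₀)
    (hcl : ∀ t ∈ T₀, ∀ g : Matrix.SpecialLinearGroup (Fin 3) F, ∀ s ∈ P,
      g * blkSL t * g⁻¹ = blkSL s → s ∈ T₀) : T₀ = P := by
  have hns : ¬ IsSquare (-1 : F) := by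
    rw [FiniteField.isSquare_neg_one_iff]
    intro hh
    exact hh h3
  have hb := h.hb
  have hyinv : y⁻¹ = y := inv_eq_of_mul_eq_one_right h.hy
  have hpow1 : 1 ≤ 2 ^ b := Nat.one_le_two_pow
  have hxord : x ^ (2 ^ (b + 1)) = 1 := by
    rw [← h.hx]; exact pow_orderOf_eq_one x
  -- membership in `P`
  have hyP : y ∈ P := (h.mem y).2 ⟨0, Or.inr (by simp)⟩
  have hx2yP : x ^ 2 * y ∈ P := (h.mem _).2 ⟨2, Or.inr rfl⟩
  have hxyP : x * y ∈ P := (h.mem _).2 ⟨1, Or.inr (by simp)⟩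
  -- `y ∈ T₀`
  have hyT : y ∈ T₀ := hinv y hyP h.hy
  -- `y x² y⁻¹ = x⁻²`
  have hconj2 : y * x ^ 2 * y⁻¹ = x ^ (2 * (2 ^ b - 1)) := by
    rw [← conj_pow, h.hyx, ← pow_mul, mul_comm]
  have hx2y_sq : x ^ 2 * y * (x ^ 2 * y) = 1 := by
    have e1 : x ^ 2 * y * (x ^ 2 * y) = x ^ 2 * (y * x ^ 2 * y⁻¹) * (y * y) := by group
    rw [e1, hconj2, h.hy, mul_one, ← pow_add]
    have : 2 + 2 * (2 ^ b - 1) = 2 ^ (b + 1) := by
      rw [pow_succ]; omega
    rw [this, hxord]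
  have hx2yT : x ^ 2 * y ∈ T₀ := hinv _ hx2yP hx2y_sq
  have hx2T : x ^ 2 ∈ T₀ := by
    have : x ^ 2 = x ^ 2 * y * y⁻¹ := by group
    rw [this]
    exact T₀.mul_mem hx2yT (T₀.inv_mem hyT)
  -- `u = x^(2^(b-1)) ∈ T₀`, `u² = -1`
  obtain ⟨c, rfl⟩ : ∃ c, b = c + 2 := ⟨b - 2, by omega⟩
  have huT : x ^ (2 ^ (c + 1)) ∈ T₀ := by
    have : x ^ (2 ^ (c + 1)) = (x ^ 2) ^ (2 ^ c) := by
      rw [← pow_mul, pow_succ, mul_comm]
    rw [this]
    exact T₀.pow_mem hx2T _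
  have husq : x ^ (2 ^ (c + 1)) * x ^ (2 ^ (c + 1)) = -1 := by
    rw [← pow_add, ← h.hneg]
    congr 1
    rw [pow_succ 2 (c + 1)]; ring
  -- `(x y)² = -1`
  have hxysq : x * y * (x * y) = -1 := by
    have e1 : x * y * (x * y) = x * (y * x * y⁻¹) * (y * y) := by group
    rw [e1, h.hyx, h.hy, mul_one, ← pow_succ', ← h.hneg]
    congr 1
    omega
  obtain ⟨k, hk⟩ := exists_conj_of_sq_neg_one hns _ _ husq hxysq
  have hxyT : x * y ∈ T₀ := by
    apply hcl _ huT (blkSL k) (x * y) hxyP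
    rw [← map_inv, ← map_mul, ← map_mul, hk]
  have hxT : x ∈ T₀ := by
    have : x = x * y * y⁻¹ := by group
    rw [this]
    exact T₀.mul_mem hxyT (T₀.inv_mem hyT)
  apply le_antisymm hT
  intro g hg
  obtain ⟨i, hi | hi⟩ := (h.mem g).1 hg
  · rw [hi]; exact T₀.pow_mem hxT i
  · rw [hi]; exact T₀.mul_mem (T₀.pow_mem hxT i) hyT

end Cfsg.Agent.Helper32.PSL3S
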