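import Cfsg.Agent.Helper88.PSp4Hyp

/-!
# S5320, piece (E2): basic facts on `E = Q₈ ∘ D₈ ≤ Sp₄(F)` (helper32, for helper88)
-/

set_option autoImplicit false

namespace Cfsg.Agent.Helper32.PSp4

open Matrix Equiv Cfsg.Agent.Helper42 Cfsg.Agent.Helper85 Cfsg.Agent.Helper84
  Cfsg.Agent.Helper88.PSp4F

variable {F : Type*} [Field F]

theorem negOneSL_comm (g : SL2 F) : g * negOneSL F = negOneSL F * g :=
  (Subgroup.mem_center_iff.1 negOneSL_mem_center) g

/-- in `Q₈ = ⟨x, y⟩` conjugation changes at most the sign, and so does inversion. -/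
theorem q8_conj {Q : Subgroup (SL2 F)} {x y : SL2 F} (h : Q8Data Q x y) :
    (∀ a ∈ Q, ∀ c ∈ Q, c * a * c⁻¹ = a ∨ c * a * c⁻¹ = negOneSL F * a) ∧
    (∀ q ∈ Q, q⁻¹ = q ∨ q⁻¹ = negOneSL F * q) := by
  have hnn : negOneSL F * negOneSL F = 1 := negOneSL_mul_self
  have hnn' : ∀ z : SL2 F, negOneSL F * (negOneSL F * z) = z := by
    intro z; rw [← mul_assoc, hnn, one_mul]
  have hxn : x * negOneSL F = negOneSL F * x := negOneSL_comm x
  have hxn' : ∀ z : SL2 F, x * (negOneSL F * z) = negOneSL F * (x * z) := by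
    intro z; rw [← mul_assoc, hxn, mul_assoc]
  have hyn : y * negOneSL F = negOneSL F * y := negOneSL_comm y
  have hyn' : ∀ z : SL2 F, y * (negOneSL F * z) = negOneSL F * (y * z) := by
    intro z; rw [← mul_assoc, hyn, mul_assoc]
  have hxx : x * x = negOneSL F := h.hx
  have hxx' : ∀ z : SL2 F, x * (x * z) = negOneSL F * z := by
    intro z; rw [← mul_assoc, hxx]
  have hyy : y * y = negOneSL F := h.hy
  have hyy' : ∀ z : SL2 F, y * (y * z) = negOneSL F * z := by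
    intro z; rw [← mul_assoc, hyy]
  have hyx : y * x = negOneSL F * (x * y) := h.hxy
  have hyx' : ∀ z : SL2 F, y * (x * z) = negOneSL F * (x * (y * z)) := by
    intro z; rw [← mul_assoc, hyx, mul_assoc, mul_assoc]
  have hninv : (negOneSL F)⁻¹ = negOneSL F := inv_eq_of_mul_eq_one_right hnn
  have hxinv : x⁻¹ = negOneSL F * x := by
    apply inv_eq_of_mul_eq_one_right
    rw [hxn', hxx, hnn]
  have hyinv : y⁻¹ = negOneSL F * y := by
    apply inv_eq_of_mul_eq_one_right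
    rw [hyn', hyy, hnn]
  constructor
  · intro a ha c hc
    rcases (h.mem a).1 ha with rfl | rfl | rfl | rfl | rfl | rfl | rfl | rfl <;>
    rcases (h.mem c).1 hc with rfl | rfl | rfl | rfl | rfl | rfl | rfl | rfl <;>
    simp only [mul_assoc, _root_.mul_inv_rev, hninv, hxinv, hyinv, hnn, hnn', hxn, hxn', hyn, hyn',
      hxx, hxx', hyy, hyy', hyx, hyx', mul_one, one_mul, inv_one, true_or, or_true]
  · intro q hq
    rcases (h.mem q).1 hq with rfl | rfl | rfl | rfl | rfl | rfl | rfl | rfl <;>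
    simp only [mul_assoc, _root_.mul_inv_rev, hninv, hxinv, hyinv, hnn, hnn', hxn, hxn', hyn, hyn',
      hxx, hxx', hyy, hyy', hyx, hyx', mul_one, one_mul, inv_one, true_or, or_true]

theorem negOneSL_mem_of_q8 {Q : Subgroup (SL2 F)} {x y : SL2 F} (h : Q8Data Q x y) :
    negOneSL F ∈ Q := (h.mem _).2 (Or.inr (Or.inl rfl))

theorem nI_mem_EQ {Q : Subgroup (SL2 F)} (hneg : negOneSL F ∈ Q) : nI F ∈ EQ Q := by
  have h1 : dgh F (negOneSL F) ∈ Q.map (dgh F) := Subgroup.mem_map_of_mem _ hneg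
  have h2 : dgh F (negOneSL F) = nI F := io_neg_neg
  rw [← h2]
  exact (le_sup_left : Q.map (dgh F) ≤ EQ Q) h1

theorem t0_mem_EQ (Q : Subgroup (SL2 F)) : t0 F ∈ EQ Q :=
  (le_sup_right : Subgroup.closure {t0 F, tw} ≤ EQ Q) (Subgroup.subset_closure (by simp))

theorem tw_mem_EQ (Q : Subgroup (SL2 F)) : (tw : Sp4 F) ∈ EQ Q :=
  (le_sup_right : Subgroup.closure {t0 F, tw} ≤ EQ Q) (Subgroup.subset_closure (by simp))

theorem io_diag_mem_EQ {Q : Subgroup (SL2 F)} {a : SL2 F} (ha : a ∈ Q) : io a a ∈ EQ Q :=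
  (le_sup_left : Q.map (dgh F) ≤ EQ Q) (Subgroup.mem_map_of_mem (dgh F) ha)

theorem io_one_neg_mem_EQ {Q : Subgroup (SL2 F)} (hneg : negOneSL F ∈ Q) :
    io 1 (negOneSL F) ∈ EQ Q := by
  rw [← nI_mul_t0]
  exact (EQ Q).mul_mem (nI_mem_EQ hneg) (t0_mem_EQ Q)

theorem io_neg_diag_mem_EQ {Q : Subgroup (SL2 F)} (hneg : negOneSL F ∈ Q) {a : SL2 F}
    (ha : a ∈ Q) : io a (negOneSL F * a) ∈ EQ Q := by
  have h1 : io a (negOneSL F * a) = io 1 (negOneSL F) * io a a := by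
    rw [io_mul, one_mul]
  rw [h1]
  exact (EQ Q).mul_mem (io_one_neg_mem_EQ hneg) (io_diag_mem_EQ ha)

/-- the four sign patterns `io (±a) (±a)` lie in `E`. -/
theorem io_signs_mem_EQ {Q : Subgroup (SL2 F)} (hneg : negOneSL F ∈ Q) {a p q : SL2 F}
    (ha : a ∈ Q) (hp : p = a ∨ p = negOneSL F * a) (hq : q = a ∨ q = negOneSL F * a) :
    io p q ∈ EQ Q := by
  have hna : negOneSL F * a ∈ Q := Q.mul_mem hneg ha
  rcases hp with rfl | rfl <;> rcases hq with rfl | rfl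
  · exact io_diag_mem_EQ ha
  · exact io_neg_diag_mem_EQ hneg ha
  · have h1 := io_neg_diag_mem_EQ hneg hna
    rwa [← mul_assoc, negOneSL_mul_self, one_mul] at h1
  · exact io_diag_mem_EQ hna

/-- conjugation by `io c d`, `c d ∈ Q`, maps `E` into `E`. -/
theorem io_conj_mem_EQ {Q : Subgroup (SL2 F)} {x y : SL2 F} (h : Q8Data Q x y) {c d : SL2 F}
    (hc : c ∈ Q) (hd : d ∈ Q) : ∀ e ∈ EQ Q, io c d * e * (io c d)⁻¹ ∈ EQ Q := by
  have hneg := negOneSL_mem_of_q8 h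
  obtain ⟨hconj, hinv⟩ := q8_conj h
  have key : EQ Q ≤ (EQ Q).comap (MulAut.conj (io c d)).toMonoidHom := by
    have hE : EQ Q = Q.map (dgh F) ⊔ Subgroup.closure {t0 F, tw} := rfl
    conv_lhs => rw [hE]
    refine sup_le ?_ ?_
    · rintro _ ⟨a, ha, rfl⟩
      rw [Subgroup.mem_comap]
      show io c d * io a a * (io c d)⁻¹ ∈ EQ Q
      rw [io_inv, io_mul, io_mul]
      exact io_signs_mem_EQ hneg ha (hconj a ha c hc) (hconj a ha d hd)
    · rw [Subgroup.closure_le]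
      rintro e (rfl | rfl)
      · rw [SetLike.mem_coe, Subgroup.mem_comap]
        show io c d * t0 F * (io c d)⁻¹ ∈ EQ Q
        have h1 : io c d * t0 F * (io c d)⁻¹ = t0 F := by
          unfold t0
          rw [io_inv, io_mul, io_mul, mul_one, mul_inv_cancel, negOneSL_comm c, mul_assoc,
            mul_inv_cancel, mul_one]
        rw [h1]; exact t0_mem_EQ Q
      · rw [SetLike.mem_coe, Subgroup.mem_comap]
        show io c d * tw * (io c d)⁻¹ ∈ EQ Q
        have h1 : io c d * tw * (io c d)⁻¹ = io (c * d⁻¹) (c * d⁻¹)⁻¹ * tw := by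
          rw [io_inv, mul_assoc, tw_io, ← mul_assoc, io_mul, _root_.mul_inv_rev, inv_inv]
        rw [h1]
        have hq : c * d⁻¹ ∈ Q := Q.mul_mem hc (Q.inv_mem hd)
        exact (EQ Q).mul_mem (io_signs_mem_EQ hneg hq (Or.inl rfl) (hinv _ hq)) (tw_mem_EQ Q)
  intro e he
  exact key he

/-- **(E2)** -/
theorem EQ_facts (h2 : (2 : F) ≠ 0) {Q : Subgroup (SL2 F)} {x y : SL2 F} (h : Q8Data Q x y) :
    Subgroup.center (Sp4 F) ≤ EQ Q ∧ EQ Q ≤ SQ Q ∧
      SQ Q ≤ Subgroup.normalizer ((EQ Q : Subgroup (Sp4 F)) : Set (Sp4 F)) := by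
  have hneg := negOneSL_mem_of_q8 h
  refine ⟨?_, ?_, ?_⟩
  · intro z hz
    rcases (Cfsg.Agent.S0246.mem_center_iff (le_refl 1 |>.trans (by norm_num : 1 ≤ 2)) z).1 hz with
      rfl | rfl
    · exact (EQ Q).one_mem
    · exact nI_mem_EQ hneg
  · have hE : EQ Q = Q.map (dgh F) ⊔ Subgroup.closure {t0 F, tw} := rfl
    rw [hE]
    refine sup_le ?_ ?_
    · rintro _ ⟨a, ha, rfl⟩
      exact io_mem_SQ ha ha
    · rw [Subgroup.closure_le]
      rintro e (rfl | rfl)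
      · exact io_mem_SQ hneg Q.one_mem
      · exact tw_mem_SQ Q
  · intro g hg
    obtain ⟨a, ha, b, hb, hgab⟩ := mem_SQ.1 hg
    have hio : io a b ∈ Subgroup.normalizer ((EQ Q : Subgroup (Sp4 F)) : Set (Sp4 F)) := by
      rw [Subgroup.mem_normalizer_iff]
      intro e
      refine ⟨io_conj_mem_EQ h ha hb e, fun he => ?_⟩
      have h1 := io_conj_mem_EQ h (Q.inv_mem ha) (Q.inv_mem hb) _ he
      rw [← io_inv] at h1
      have h3 : (io a b)⁻¹ * (io a b * e * (io a b)⁻¹) * (io a b)⁻¹⁻¹ = e := by group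
      rwa [h3] at h1
    rcases hgab with rfl | rfl
    · exact hio
    · exact Subgroup.mul_mem _ hio (Subgroup.le_normalizer (tw_mem_EQ Q))

end Cfsg.Agent.Helper32.PSp4
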