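import Cfsg.Agent.Helper88.PSp4Hyp
import Cfsg.Agent.Helper33.PSp4P1

/-!
# S5320, piece (F2): `S / Z` has no proper nontrivial strongly closed subgroup, `S = Q ≀ 2`
(helper32, for helper88)
-/

set_option autoImplicit false

namespace Cfsg.Agent.Helper32.PSp4F2

open Matrix Equiv Cfsg.Agent.Helper42 Cfsg.Agent.Helper85 Cfsg.Agent.Helper84
  Cfsg.Agent.Helper88.PSp4F

variable {F : Type*} [Field F]

theorem nI_mul_nI : nI F * nI F = 1 := by
  rw [← io_neg_neg, io_mul, negOneSL_mul_self, io_one]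

theorem isPGroup_SQ [Finite F] (Q : Subgroup (SL2 F)) (hQ2 : IsPGroup 2 Q) :
    IsPGroup 2 (SQ Q) := by
  obtain ⟨k, hk⟩ := (IsPGroup.iff_card).1 hQ2
  have h1 : Nat.card (SQ Q) = Nat.card Q ^ 2 * Nat.card (⊤ : Subgroup (Perm (Fin 2))) :=
    card_spWr Q ⊤
  have h2 : Nat.card (⊤ : Subgroup (Perm (Fin 2))) = 2 := by
    rw [Subgroup.card_top, Nat.card_eq_fintype_card, Fintype.card_perm, Fintype.card_fin]
    rfl
  apply IsPGroup.of_card (n := 2 * k + 1)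
  rw [h1, h2, hk, ← pow_mul, pow_succ, mul_comm k 2]

/-- the homomorphism `a ↦ ι(a, 1)` -/
def ioL (F : Type*) [Field F] : SL2 F →* Sp4 F where
  toFun a := io a 1
  map_one' := io_one
  map_mul' a b := by rw [io_mul, mul_one]

/-- the homomorphism `b ↦ ι(1, b)` -/
def ioR (F : Type*) [Field F] : SL2 F →* Sp4 F where
  toFun b := io 1 b
  map_one' := io_one
  map_mul' a b := by rw [io_mul, mul_one]

/-- **(F2)** -/
theorem noStrClosedMod_SQ [Finite F] (h2 : (2 : F) ≠ 0) (Q : Subgroup (SL2 F)) (hQ2 : IsPGroup 2 Q)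
    (hneg : negOneSL F ∈ Q) (h3 : HG3 F) (h4 : HG4 F) (hc : HQc Q) (hf : HF1 Q) :
    NoStrClosedMod (Subgroup.center (Sp4 F)) (SQ Q) := by
  intro T hZT hTS hcl
  by_cases hTZ : T = Subgroup.center (Sp4 F)
  · left; exact hTZ
  right
  have hS2 : IsPGroup 2 (SQ Q) := isPGroup_SQ Q hQ2
  have hnorm : ∀ t ∈ T, ∀ s ∈ SQ Q, s * t * s⁻¹ ∈ T := fun t ht s hs =>
    hcl t ht s ((SQ Q).mul_mem ((SQ Q).mul_mem hs (hTS ht)) ((SQ Q).inv_mem hs))
  haveI : Fact (Nat.Prime 2) := ⟨Nat.prime_two⟩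
  obtain ⟨x, hxT, hxZ, hxc⟩ := Cfsg.Agent.Helper33.PSp4.exists_central_mod 2
    (Subgroup.center (Sp4 F)) (SQ Q) T hS2 le_rfl hZT hTS hTZ hnorm
  have hcen : ∀ z : Sp4 F, z ∈ Subgroup.center (Sp4 F) ↔ z = 1 ∨ z = nI F := fun z =>
    Cfsg.Agent.S0246.mem_center_iff (by norm_num) z
  have hx4 := hf x (hTS hxT) (fun s hs => (hcen _).1 (hxc s hs))
  have hnIT : nI F ∈ T := hZT ((hcen _).2 (Or.inr rfl))
  have ht0T : t0 F ∈ T := by
    rcases hx4 with rfl | rfl | rfl | rfl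
    · exact absurd ((hcen 1).2 (Or.inl rfl)) hxZ
    · exact absurd ((hcen _).2 (Or.inr rfl)) hxZ
    · exact hxT
    · have h := T.mul_mem hnIT hxT
      rwa [← mul_assoc, nI_mul_nI, one_mul] at h
  -- non-central involutions of `S` lie in `T`
  have hinv : ∀ g ∈ SQ Q, g * g = 1 → g ≠ 1 → g ≠ nI F → g ∈ T := by
    intro g hgS hgg hg1 hgn
    obtain ⟨k, hk⟩ := h3 g hgg hg1 hgn
    have := hcl (t0 F) ht0T k (hk ▸ hgS)
    rwa [hk] at this
  have htwT : (tw : Sp4 F) ∈ T := by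
    refine hinv tw (tw_mem_SQ Q) tw_mul_tw ?_ ?_
    · intro h
      apply io_ne_io_tw (1 : SL2 F) 1 1 1
      rw [io_one, one_mul, h]
    · intro h
      apply io_ne_io_tw (negOneSL F) (negOneSL F) 1 1
      rw [io_one, one_mul, io_neg_neg, h]
  obtain ⟨⟨c, hcQ, hcc⟩, hgen⟩ := hc
  have hg1T : io c c⁻¹ * tw ∈ T := by
    refine hinv _ (mem_SQ.2 ⟨c, hcQ, c⁻¹, Q.inv_mem hcQ, Or.inr rfl⟩) ?_ ?_ ?_
    · rw [mul_assoc, ← mul_assoc tw, tw_io, mul_assoc, tw_mul_tw, mul_one, io_mul,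
        mul_inv_cancel, inv_mul_cancel, io_one]
    · intro h
      apply io_ne_io_tw (1 : SL2 F) 1 c c⁻¹
      rw [io_one, h]
    · intro h
      apply io_ne_io_tw (negOneSL F) (negOneSL F) c c⁻¹
      rw [io_neg_neg, h]
  have hcc'T : io c c⁻¹ ∈ T := by
    have h := T.mul_mem hg1T htwT
    rwa [mul_assoc, tw_mul_tw, mul_one] at h
  have h1nT : io 1 (negOneSL F) ∈ T := by
    rw [← nI_mul_t0]; exact T.mul_mem hnIT ht0T
  have hccT : io c c ∈ T := by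
    have h := T.mul_mem hcc'T h1nT
    rwa [io_mul, mul_one, ← hcc, inv_mul_cancel_left] at h
  have hccsq : io c c * io c c = nI F := by
    rw [io_mul, hcc, io_neg_neg]
  have hsq : ∀ x1 ∈ Q, ∀ x2 ∈ Q, x1 * x1 = negOneSL F → x2 * x2 = negOneSL F →
      io x1 x2 ∈ T := by
    intro x1 hx1 x2 hx2 h11 h22
    have hs : io x1 x2 * io x1 x2 = nI F := by rw [io_mul, h11, h22, io_neg_neg]
    obtain ⟨k, hk⟩ := h4 (io c c) (io x1 x2) hccsq hs
    have := hcl (io c c) hccT k (hk ▸ io_mem_SQ hx1 hx2)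
    rwa [hk] at this
  have hL : Q ≤ T.comap (ioL F) := by
    apply hgen
    intro x hx x' hx' hxx hxx'
    rw [Subgroup.mem_comap]
    show io (x * x'⁻¹) 1 ∈ T
    have h := T.mul_mem (hsq x hx c hcQ hxx hcc) (T.inv_mem (hsq x' hx' c hcQ hxx' hcc))
    rwa [io_inv, io_mul, mul_inv_cancel] at h
  have hR : Q ≤ T.comap (ioR F) := by
    apply hgen
    intro x hx x' hx' hxx hxx'
    rw [Subgroup.mem_comap]
    show io 1 (x * x'⁻¹) ∈ T
    have h := T.mul_mem (hsq c hcQ x hx hcc hxx) (T.inv_mem (hsq c hcQ x' hx' hcc hxx'))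
    rwa [io_inv, io_mul, mul_inv_cancel] at h
  apply le_antisymm hTS
  intro g hg
  obtain ⟨a, ha, b, hb, hgab⟩ := mem_SQ.1 hg
  have hab : io a b ∈ T := by
    have h1 : io a 1 ∈ T := hL ha
    have h2 : io 1 b ∈ T := hR hb
    have h := T.mul_mem h1 h2
    rwa [io_mul, mul_one, one_mul] at h
  rcases hgab with rfl | rfl
  · exact hab
  · exact T.mul_mem hab htwT

end Cfsg.Agent.Helper32.PSp4F2
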