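import Mathlib
import Cfsg.Agent.Helper77.Res.Defs

/-!
# (CARD) for helper68's S5289 (D1) sub-farm (helper32): `P = R C` with `C` central gives
`|P| |R ∩ C| = |R| |C|`
-/

set_option autoImplicit false

universe u

namespace Cfsg.Agent.Helper32.Res

open Subgroup Cfsg.Agent.Helper77.Res

variable {Ω : Type u} [Group Ω] {p : ℕ} [hp : Fact p.Prime]

/-- (CARD) `P = R C` with `C` central: `|P| |R ∩ C| = |R| |C|`. -/
theorem D1_CARD (P R C : Subgroup Ω) [Finite P] (hRP : R ≤ P) (hCP : C ≤ P)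
    (hC : ∀ c ∈ C, ∀ x ∈ P, c * x = x * c) (hRC : ∀ x ∈ P, ∃ r ∈ R, ∃ c ∈ C, x = r * c) :
    Nat.card P * Nat.card (R ⊓ C : Subgroup Ω) = Nat.card R * Nat.card C := by
  have comm : ∀ (r : R) (c : C), Commute (R.subtype r) (C.subtype c) := by
    intro r c
    exact (hC c c.2 r (hRP r.2)).symm
  let φ : ↥R × ↥C →* Ω := MonoidHom.noncommCoprod R.subtype C.subtype comm
  have hφ : ∀ x : ↥R × ↥C, φ x = (x.1 : Ω) * (x.2 : Ω) := fun x => rfl
  -- the range is `P`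
  have hrange : φ.range = P := by
    apply le_antisymm
    · rintro _ ⟨x, rfl⟩
      rw [hφ]
      exact P.mul_mem (hRP x.1.2) (hCP x.2.2)
    · intro x hx
      obtain ⟨r, hr, c, hc, rfl⟩ := hRC x hx
      exact ⟨(⟨r, hr⟩, ⟨c, hc⟩), rfl⟩
  -- the kernel is `R ⊓ C`
  have hker : Nat.card φ.ker = Nat.card (R ⊓ C : Subgroup Ω) := by
    refine Nat.card_congr
      { toFun := fun x => ⟨(x.1.1 : Ω), ⟨x.1.1.2, ?_⟩⟩
        invFun := fun y => ⟨(⟨(y : Ω), y.2.1⟩, ⟨(y : Ω)⁻¹, C.inv_mem y.2.2⟩), ?_⟩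
        left_inv := ?_
        right_inv := ?_ }
    · have h1 : (x.1.1 : Ω) * (x.1.2 : Ω) = 1 := x.2
      have h2 : (x.1.1 : Ω) = (x.1.2 : Ω)⁻¹ := eq_inv_of_mul_eq_one_left h1
      rw [h2]
      exact C.inv_mem x.1.2.2
    · rw [MonoidHom.mem_ker, hφ]
      exact mul_inv_cancel _
    · intro x
      have h1 : (x.1.1 : Ω) * (x.1.2 : Ω) = 1 := x.2
      have h2 : (x.1.2 : Ω) = (x.1.1 : Ω)⁻¹ := eq_inv_of_mul_eq_one_right h1
      apply Subtype.ext
      apply Prod.ext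
      · rfl
      · apply Subtype.ext
        exact h2.symm
    · intro y
      rfl
  have h1 := Subgroup.card_mul_index φ.ker
  rw [Subgroup.index_ker, hrange, hker, Nat.card_prod] at h1
  rw [← h1, mul_comm]

end Cfsg.Agent.Helper32.Res
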