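import Mathlib
import Cfsg.Agent.Helper77.Res.Defs

/-!
# (ZGEN) for helper68's S5289 (D1) sub-farm (helper32): a group of order `p` is generated by any
nontrivial element
-/

set_option autoImplicit false

universe u

namespace Cfsg.Agent.Helper32.Res

open Subgroup Cfsg.Agent.Helper77.Res

variable {Ω : Type u} [Group Ω] {p : ℕ} [hp : Fact p.Prime]

/-- (ZGEN) a group of order `p` is generated by any nontrivial element. -/
theorem D1_ZGEN (Z : Subgroup Ω) (hZ : Nat.card Z = p) (c : Ω) (hc : c ∈ Z) (hc1 : c ≠ 1) :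
    ∀ z ∈ Z, ∃ k : ℕ, z = c ^ k := by
  intro z hz
  haveI : Finite Z := Nat.finite_of_card_ne_zero (by rw [hZ]; exact hp.out.ne_zero)
  have hc' : (⟨c, hc⟩ : Z) ≠ 1 := by
    intro h
    exact hc1 (congrArg Subtype.val h)
  have htop : Subgroup.zpowers (⟨c, hc⟩ : Z) = ⊤ := zpowers_eq_top_of_prime_card hZ hc'
  have hmem : (⟨z, hz⟩ : Z) ∈ Subgroup.zpowers (⟨c, hc⟩ : Z) := by
    rw [htop]
    exact Subgroup.mem_top _
  rw [← mem_powers_iff_mem_zpowers, Submonoid.mem_powers_iff] at hmem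
  obtain ⟨k, hk⟩ := hmem
  refine ⟨k, ?_⟩
  have := congrArg Subtype.val hk
  simpa using this.symm

end Cfsg.Agent.Helper32.Res
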