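import Mathlib
import Cfsg.Prelude.Def_PLocal
import Cfsg.Agent.Lib.Cores
import Cfsg.Agent.Lib.ZJ5
import Cfsg.Agent.Helper10.MinNormal
import Cfsg.Agent.Helper10.SolvMinNormal
import Cfsg.Agent.Helper34.BabyHHGroup
import Cfsg.Agent.Helper64.QuadAction
import Cfsg.Agent.Helper70.PSolvable
import Cfsg.Agent.S0625

/-!
# Solvable groups are `p`-stable for `p ≥ 5` (helper32)

* `mem_centralizer_of_quadratic_of_five`: in a finite solvable group, for `p ≥ 5`, an element acting
  quadratically on a minimal normal `p`-subgroup centralizes it.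
* `isPStableOn_of_five_solvable`: a finite solvable group acts `p`-stably (`p ≥ 5`) on each of its
  normal `p`-subgroups (`Cfsg.IsPStableOn p V`).

The induction is the one of `Cfsg.Agent.Helper64.isPStableOn_of_odd_solvable_aux`; the base case
comes from `Cfsg.Agent.S0625.isPStableOn_of_isPSolvable`.
-/

set_option autoImplicit false

namespace Cfsg.Agent.Helper32

open Subgroup
open scoped commutatorElement

universe u

section MinNormal

variable {Γ : Type*} [Group Γ] [Finite Γ]

/-- In a finite solvable group, for `p ≥ 5`, an element acting quadratically on a minimal normal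
`p`-subgroup centralizes it. -/
theorem mem_centralizer_of_quadratic_of_five [Group.IsSolvable Γ] {p : ℕ}
    [hp : Fact p.Prime] (hp5 : 5 ≤ p) (U : Subgroup Γ) [hUn : U.Normal] (hUp : IsPGroup p U)
    (hUne : U ≠ ⊥)
    (hmin : ∀ M : Subgroup Γ, M.Normal → M ≤ U → M = ⊥ ∨ M = U) {a : Γ}
    (hq : ⁅⁅U, zpowers a⁆, zpowers a⁆ = ⊥) : a ∈ centralizer (U : Set Γ) := by
  have hUc := Cfsg.Agent.Helper10.minNormal_commutative_of_solvable U hUne hmin
  -- exponent `p`
  have hexp : ∀ u ∈ U, u ^ p = 1 := by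
    obtain ⟨p', hp', hexp, d, hd, hcard⟩ :=
      Cfsg.Agent.Helper10.minNormal_elementary_of_solvable U hUne hmin
    obtain ⟨e, he⟩ := IsPGroup.iff_card.mp hUp
    have h1 : p' ∣ p ^ e := by
      rw [← he, hcard]
      exact dvd_pow_self p' hd.ne'
    have h2 : p' = p := (Nat.prime_dvd_prime_iff_eq hp' hp.out).mp (hp'.dvd_of_dvd_pow h1)
    rw [← h2]; exact hexp
  set C := centralizer (U : Set Γ) with hC
  have hst : (QuotientGroup.mk a : Γ ⧸ C) ∈ Cfsg.pCore p (Γ ⧸ C) :=
    Cfsg.Agent.S0625.isPStableOn_of_isPSolvable hp5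
      (Cfsg.Agent.Helper70.isPSolvable_of_isSolvable p) U hUc hexp a hq
  -- `O_p(Γ ⧸ C) = 1`
  have hpc : Cfsg.pCore p (Γ ⧸ C) = ⊥ := by
    have hn : (Cfsg.pCore p (Γ ⧸ C)).Normal := by
      have := Cfsg.Agent.Lib.pCore_characteristic (G := Γ ⧸ C) p
      infer_instance
    set D := (Cfsg.pCore p (Γ ⧸ C)).comap (QuotientGroup.mk' C) with hD
    have hDn : D.Normal := hn.comap _
    have hDp : ∀ d ∈ D, ∃ k : ℕ, ∀ n ∈ U, d ^ p ^ k * n = n * d ^ p ^ k := by
      intro d hd
      obtain ⟨k, hk⟩ := (Cfsg.Agent.Lib.isPGroup_pCore (G := Γ ⧸ C) p) ⟨_, hd⟩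
      refine ⟨k, fun n hn => ?_⟩
      have hk' : (QuotientGroup.mk' C d) ^ p ^ k = 1 := by
        have := congrArg Subtype.val hk
        simpa using this
      rw [← map_pow, QuotientGroup.mk'_apply, QuotientGroup.eq_one_iff, hC,
        mem_centralizer_iff] at hk'
      exact (hk' n hn).symm
    have hle := Cfsg.Agent.Helper34.le_centralizer_of_minimal_normal hUp hUne hmin D hDp
    rw [eq_bot_iff]
    intro x hx
    obtain ⟨g, rfl⟩ := QuotientGroup.mk_surjective x
    rw [Subgroup.mem_bot, QuotientGroup.eq_one_iff, hC, mem_centralizer_iff]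
    intro u hu
    have := (mem_centralizer_iff.mp (hle hu)) g hx
    exact this.symm
  rw [hpc, Subgroup.mem_bot] at hst
  exact (QuotientGroup.eq_one_iff a).mp hst

end MinNormal

section Gen

theorem isPStableOn_of_five_solvable_aux {p : ℕ} [hp : Fact p.Prime] (hp5 : 5 ≤ p) :
    ∀ (n : ℕ) (Γ : Type u) [Group Γ] [Finite Γ] [Group.IsSolvable Γ],
      ∀ (V : Subgroup Γ) (hVn : V.Normal), Nat.card V = n → IsPGroup p V →
        @Cfsg.IsPStableOn Γ _ p V hVn := by
  intro n
  induction n using Nat.strong_induction_on with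
  | _ n ih =>
  intro Γ _ _ _ V hVn hcard hV a hq
  rw [Cfsg.Agent.Helper64.mk_mem_pCore_iff]
  by_cases hVb : V = ⊥
  · refine ⟨⊤, inferInstance, Subgroup.mem_top a, fun t _ => ⟨0, ?_⟩⟩
    rw [hVb, Subgroup.coe_bot, Subgroup.centralizer_eq_top_iff_subset.mpr]
    · exact Subgroup.mem_top _
    · intro x hx
      rw [Set.mem_singleton_iff] at hx
      subst hx
      exact (Subgroup.center Γ).one_mem
  obtain ⟨U, hUn, hUne, hUV, hmin⟩ := Cfsg.Agent.Helper10.exists_minimal_normal_le V hVb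
  have hUp : IsPGroup p U := hV.to_le hUV
  have hqU : ⁅⁅U, zpowers a⁆, zpowers a⁆ = ⊥ := by
    rw [eq_bot_iff, ← hq]
    exact Subgroup.commutator_mono (Subgroup.commutator_mono hUV le_rfl) le_rfl
  have haC : a ∈ centralizer (U : Set Γ) :=
    mem_centralizer_of_quadratic_of_five hp5 U hUp hUne hmin hqU
  -- the quotient by `U`
  set π := QuotientGroup.mk' U with hπ
  have hπs : Function.Surjective π := QuotientGroup.mk'_surjective U
  have hker : ∀ x : Γ, π x = 1 ↔ x ∈ U := fun x => by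
    rw [hπ, QuotientGroup.mk'_apply, QuotientGroup.eq_one_iff]
  set V' := V.map π with hV'
  have hV'n : V'.Normal := Subgroup.Normal.map hVn _ hπs
  have hV'p : IsPGroup p V' := hV.map π
  have hcard' : Nat.card V' < n := by
    have h1 : Nat.card V' = U.relIndex V := by
      rw [hV', ← Subgroup.relIndex_ker, hπ, QuotientGroup.ker_mk']
    have h2 := Subgroup.relIndex_mul_relIndex (H := (⊥ : Subgroup Γ)) (K := U) (L := V) bot_le hUV
    rw [Subgroup.relIndex_bot_left, Subgroup.relIndex_bot_left] at h2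
    have h3 : 1 < Nat.card U := by
      rw [Subgroup.one_lt_card_iff_ne_bot]; exact hUne
    have h4 : 0 < U.relIndex V := by
      rcases Nat.eq_zero_or_pos (U.relIndex V) with h0 | h0
      · rw [h0, mul_zero] at h2
        have : 0 < Nat.card V := Nat.card_pos
        omega
      · exact h0
    rw [h1, ← hcard, ← h2]
    nlinarith
  have hq' : ⁅⁅V', zpowers (π a)⁆, zpowers (π a)⁆ = ⊥ := by
    rw [hV', ← MonoidHom.map_zpowers, ← Subgroup.map_commutator, ← Subgroup.map_commutator, hq,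
      Subgroup.map_bot]
  have h₂ := ih _ hcard' (Γ ⧸ U) V' hV'n rfl hV'p (π a) hq'
  rw [Cfsg.Agent.Helper64.mk_mem_pCore_iff] at h₂
  obtain ⟨T₂, hT₂n, haT₂, hT₂⟩ := h₂
  obtain ⟨e, he⟩ := IsPGroup.iff_card.mp hV
  refine ⟨centralizer (U : Set Γ) ⊓ T₂.comap π, ?_, ⟨haC, haT₂⟩, ?_⟩
  · have := hT₂n.comap π
    infer_instance
  · rintro t ⟨ht₁, ht₂⟩
    obtain ⟨k, hk⟩ := hT₂ (π t) ht₂
    set s := t ^ (p ^ k) with hs
    have hs₁ : s ∈ centralizer (U : Set Γ) := Subgroup.pow_mem _ ht₁ _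
    have hs₂ : π s ∈ centralizer (V' : Set (Γ ⧸ U)) := by
      rw [hs, map_pow]; exact hk
    have hzs₁ : zpowers s ≤ centralizer (U : Set Γ) := by
      rw [Subgroup.zpowers_le]; exact hs₁
    have hzs₂ : (zpowers s).map π ≤ centralizer (V' : Set (Γ ⧸ U)) := by
      rw [MonoidHom.map_zpowers, Subgroup.zpowers_le]; exact hs₂
    have hqs : ⁅⁅V, zpowers s⁆, zpowers s⁆ = ⊥ := by
      have h1 : ⁅V, zpowers s⁆ ≤ U := by
        rw [Subgroup.commutator_le]
        intro v hv z hz
        rw [← hker, map_commutatorElement]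
        have hz' : π z ∈ centralizer (V' : Set (Γ ⧸ U)) := hzs₂ ⟨z, hz, rfl⟩
        rw [mem_centralizer_iff] at hz'
        have := hz' (π v) ⟨v, hv, rfl⟩
        rw [commutatorElement_eq_one_iff_mul_comm]
        exact this
      have h2 : ⁅U, zpowers s⁆ = ⊥ := by
        rw [Subgroup.commutator_eq_bot_iff_le_centralizer, Subgroup.le_centralizer_iff]
        exact hzs₁
      rw [eq_bot_iff, ← h2]
      exact Subgroup.commutator_mono h1 le_rfl
    have hfin := Cfsg.Agent.Lib.ZJ.quadratic_pow_card_mem_centralizer hqs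
    rw [he] at hfin
    refine ⟨k + e, ?_⟩
    rw [pow_add, pow_mul]
    exact hfin

/-- **Solvable groups are `p`-stable for `p ≥ 5`**: the conjugation action on every normal
`p`-subgroup is `p`-stable. -/
theorem isPStableOn_of_five_solvable {Γ : Type u} [Group Γ] [Finite Γ] [Group.IsSolvable Γ]
    {p : ℕ} [hp : Fact p.Prime] (hp5 : 5 ≤ p) (V : Subgroup Γ) [hVn : V.Normal]
    (hV : IsPGroup p V) : Cfsg.IsPStableOn p V :=
  isPStableOn_of_five_solvable_aux hp5 _ Γ V hVn rfl hV

end Gen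

end Cfsg.Agent.Helper32
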