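import Mathlib
import Cfsg.Prelude.Def_PLocal
import Cfsg.Agent.Lib.Cores
import Cfsg.Agent.S0044
import Cfsg.Agent.Helper24.Coprime
import Cfsg.Agent.Helper63.PrimePow
import Cfsg.Agent.Helper63.FittingOmega
import Cfsg.Agent.Helper65.Nilpotent
import Cfsg.Agent.Helper64.QuadAction
import Cfsg.Agent.Helper32.StableFive

/-!
# Self-centralizing normal subgroups of a nilpotent subgroup containing `F(T)` (helper32)

`T` finite solvable such that `O_p(T) ≠ 1` only for primes `p ≥ 5`.  If `F` is a nilpotent subgroup
containing `F(T)` and `A` is a normal subgroup of `F` with `C_F(A) = A`, then `C_T(A) = A`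
(`centralizer_le_of_scn`).

* `stabQ p T`: the elements of `T` mapping into `O_p(T / C_T(O_p(T)))` and centralizing `O_r(T)` for
  all primes `r ≠ p`; it is a nilpotent normal subgroup, hence lies in `F(T)`.
-/

set_option autoImplicit false

namespace Cfsg.Agent.Helper32

open Subgroup
open scoped commutatorElement

universe u

section StabQ

variable {T : Type u} [Group T]

/-- The elements of `T` mapping into `O_p(T / C_T(O_p(T)))` and centralizing `O_r(T)` for all
primes `r ≠ p`. -/
def stabQ (p : ℕ) (T : Type u) [Group T] : Subgroup T :=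
  (Cfsg.pCore p (T ⧸ centralizer (Cfsg.pCore p T : Set T))).comap
      (QuotientGroup.mk' (centralizer (Cfsg.pCore p T : Set T))) ⊓
    centralizer (Cfsg.Agent.Helper63.coreCompl p T : Set T)

instance stabQ_normal (p : ℕ) : (stabQ p T).Normal := by
  unfold stabQ
  have h1 : ((Cfsg.pCore p (T ⧸ centralizer (Cfsg.pCore p T : Set T))).comap
      (QuotientGroup.mk' (centralizer (Cfsg.pCore p T : Set T)))).Normal :=
    (Cfsg.pCore_normal p _).comap _
  infer_instance

theorem exists_pow_mem_of_mem_stabQ {p : ℕ} {e : T} (he : e ∈ stabQ p T) :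
    ∃ k : ℕ, e ^ (p ^ k) ∈ centralizer (Cfsg.pCore p T : Set T) := by
  have h1 : (QuotientGroup.mk e : T ⧸ centralizer (Cfsg.pCore p T : Set T)) ∈
      Cfsg.pCore p (T ⧸ centralizer (Cfsg.pCore p T : Set T)) := he.1
  rw [Cfsg.Agent.Helper64.mk_mem_pCore_iff] at h1
  obtain ⟨T₂, -, heT, hT₂⟩ := h1
  exact hT₂ e heT

/-- `p'`-elements of `stabQ p T` are central in `stabQ p T`. -/
theorem commute_of_mem_stabQ [Finite T] [Group.IsSolvable T] {p : ℕ} [hp : Fact p.Prime] {y : T}
    (hy : y ∈ stabQ p T) (hcop : (orderOf y).Coprime p) {e : T} (he : e ∈ stabQ p T) :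
    e * y = y * e := by
  -- `y` centralizes `O_p(T)`
  have hyV : y ∈ centralizer (Cfsg.pCore p T : Set T) := by
    obtain ⟨k, hk⟩ := exists_pow_mem_of_mem_stabQ hy
    refine Cfsg.Agent.Helper63.mem_of_pow_mem_of_coprime (a := p ^ k) (b := orderOf y)
      (Nat.Coprime.pow_left k hcop.symm) hk ?_
    rw [pow_orderOf_eq_one]; exact Subgroup.one_mem _
  -- `y` centralizes every `O_r(T)`
  have h1 : ∀ r : ℕ, r.Prime → ∀ x ∈ Cfsg.pCore r T, y * x = x * y := by
    intro r hr x hx
    by_cases hrp : r = p
    · subst hrp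
      rw [Subgroup.mem_centralizer_iff] at hyV
      exact (hyV x hx).symm
    · have h2 : y ∈ Subgroup.centralizer (Cfsg.Agent.Helper63.coreCompl p T : Set T) := hy.2
      rw [Subgroup.mem_centralizer_iff] at h2
      exact (h2 x (Cfsg.Agent.Helper63.pCore_le_coreCompl hr hrp hx)).symm
  -- hence `y` centralizes `F(T)`
  have h2 : Cfsg.fittingSubgroup T ≤ Subgroup.centralizer ({y} : Set T) := by
    refine Cfsg.Agent.Helper63.le_of_forall_primePow_mem ?_
    intro x hx r k hr hxo
    have : Fact r.Prime := ⟨hr⟩
    have hxp : x ∈ Cfsg.pCore r T :=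
      Cfsg.Agent.Helper63.mem_pCore_of_mem_fittingSubgroup (k := k) hx
        (by rw [← hxo]; exact pow_orderOf_eq_one x)
    rw [Subgroup.mem_centralizer_iff]
    intro z hz
    rw [Set.mem_singleton_iff] at hz
    rw [hz]; exact h1 r hr x hxp
  have h3 : y ∈ Subgroup.centralizer (Cfsg.fittingSubgroup T : Set T) := by
    rw [Subgroup.mem_centralizer_iff]
    intro x hx
    have := h2 hx
    rw [Subgroup.mem_centralizer_iff] at this
    exact (this y rfl).symm
  have h4 : y ∈ Cfsg.fittingSubgroup T := Cfsg.Agent.S0044.result h3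
  -- `y` lies in the product of the `O_r(T)`, `r ≠ p`
  have h5 : Subgroup.zpowers y ≤ Cfsg.Agent.Helper63.coreCompl p T := by
    refine Cfsg.Agent.Helper63.le_of_forall_primePow_mem ?_
    intro x hx r k hr hxo
    have : Fact r.Prime := ⟨hr⟩
    have hxF : x ∈ Cfsg.fittingSubgroup T := by
      obtain ⟨n, rfl⟩ := Subgroup.mem_zpowers_iff.mp hx
      exact Subgroup.zpow_mem _ h4 n
    by_cases hk : k = 0
    · rw [hk, pow_zero, orderOf_eq_one_iff] at hxo
      rw [hxo]; exact Subgroup.one_mem _
    have hrp : r ≠ p := by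
      rintro rfl
      have hdvd : orderOf x ∣ orderOf y := orderOf_dvd_of_mem_zpowers hx
      have hp1 : r ∣ orderOf y := (hxo ▸ dvd_pow_self r hk : r ∣ orderOf x).trans hdvd
      have := Nat.Coprime.eq_one_of_dvd hcop.symm hp1
      exact hr.one_lt.ne' this
    have hxp : x ∈ Cfsg.pCore r T :=
      Cfsg.Agent.Helper63.mem_pCore_of_mem_fittingSubgroup (k := k) hxF
        (by rw [← hxo]; exact pow_orderOf_eq_one x)
    exact Cfsg.Agent.Helper63.pCore_le_coreCompl hr hrp hxp
  have h6 : y ∈ Cfsg.Agent.Helper63.coreCompl p T := h5 (Subgroup.mem_zpowers y)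
  have h7 : e ∈ Subgroup.centralizer (Cfsg.Agent.Helper63.coreCompl p T : Set T) := he.2
  rw [Subgroup.mem_centralizer_iff] at h7
  exact (h7 y h6).symm

/-- `stabQ p T` is nilpotent. -/
theorem isNilpotent_stabQ [Finite T] [Group.IsSolvable T] (p : ℕ) [hp : Fact p.Prime] :
    Group.IsNilpotent (stabQ p T) := by
  apply Group.of_quotient_center_nilpotent
  have hP : IsPGroup p ((stabQ p T) ⧸ Subgroup.center (stabQ p T)) := by
    intro xbar
    obtain ⟨x, rfl⟩ := QuotientGroup.mk_surjective xbar
    set n := orderOf (x : T) with hn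
    have hn0 : n ≠ 0 := (orderOf_pos (x : T)).ne'
    refine ⟨n.factorization p, ?_⟩
    rw [← QuotientGroup.mk_pow, QuotientGroup.eq_one_iff, Subgroup.mem_center_iff]
    intro e
    have hy : ((x ^ (p ^ n.factorization p) : stabQ p T) : T) ∈ stabQ p T :=
      (x ^ (p ^ n.factorization p)).2
    have hcop : (orderOf ((x ^ (p ^ n.factorization p) : stabQ p T) : T)).Coprime p := by
      rw [Subgroup.coe_pow, orderOf_pow_of_dvd (pow_ne_zero _ hp.out.ne_zero)
        (Nat.ordProj_dvd n p)]
      exact (Nat.coprime_ordCompl hp.out hn0).symm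
    have := commute_of_mem_stabQ hy hcop e.2
    exact Subtype.ext this
  exact hP.isNilpotent

theorem stabQ_le_fittingSubgroup [Finite T] [Group.IsSolvable T] (p : ℕ) [hp : Fact p.Prime] :
    stabQ p T ≤ Cfsg.fittingSubgroup T :=
  Cfsg.Agent.Lib.le_fittingSubgroup inferInstance (isNilpotent_stabQ p)

end StabQ

section SCN

variable {T : Type u} [Group T]

/-- In a finite abelian subgroup `A`, there is an `r`-subgroup containing all the `r`-elements. -/
theorem exists_primary_part [Finite T] (A : Subgroup T)
    (hab : ∀ a ∈ A, ∀ b ∈ A, a * b = b * a) (r : ℕ) [hr : Fact r.Prime] :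
    ∃ P : Subgroup T, P ≤ A ∧ IsPGroup r P ∧
      ∀ a ∈ A, (∃ j : ℕ, orderOf a = r ^ j) → a ∈ P := by
  obtain ⟨Q⟩ := (inferInstance : Nonempty (Sylow r A))
  have hQn : (Q : Subgroup A).Normal := by
    constructor
    intro n hn g
    have h1 : g * n * g⁻¹ = n := by
      apply Subtype.ext
      have h2 := hab g.1 g.2 n.1 n.2
      simp only [Subgroup.coe_mul, Subgroup.coe_inv]
      rw [h2, mul_inv_cancel_right]
    rwa [h1]
  letI := Sylow.unique_of_normal Q hQn
  refine ⟨(Q : Subgroup A).map A.subtype, Subgroup.map_subtype_le _, Q.2.map _, ?_⟩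
  rintro a ha ⟨j, hj⟩
  have hz : IsPGroup r (Subgroup.zpowers (⟨a, ha⟩ : A)) := by
    apply IsPGroup.of_card (n := j)
    rw [Nat.card_zpowers, Subgroup.orderOf_mk, hj]
  obtain ⟨Q', hQ'⟩ := hz.exists_le_sylow
  have hQQ : Q' = Q := Subsingleton.elim _ _
  exact ⟨⟨a, ha⟩, hQQ ▸ hQ' (Subgroup.mem_zpowers _), rfl⟩

/-- `T` finite solvable with `O_p(T) ≠ 1` only for `p ≥ 5`; `F` a nilpotent subgroup containing
`F(T)`; `A` normal in `F` with `C_F(A) = A`.  Then `C_T(A) ≤ A`. -/
theorem centralizer_le_of_scn [Finite T] [Group.IsSolvable T]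
    (h5 : ∀ p : ℕ, p.Prime → Cfsg.pCore p T ≠ ⊥ → 5 ≤ p)
    (F A : Subgroup T) (hFnil : Group.IsNilpotent F) (hFF : Cfsg.fittingSubgroup T ≤ F)
    (hFA : F ≤ normalizer (A : Set T)) (hCA : F ⊓ centralizer (A : Set T) = A) :
    centralizer (A : Set T) ≤ A := by
  have hAF : A ≤ F := fun a ha => (hCA.ge ha).1
  have hAC : A ≤ centralizer (A : Set T) := fun a ha => (hCA.ge ha).2
  have hab : ∀ a ∈ A, ∀ b ∈ A, a * b = b * a := fun a ha b hb =>
    ((Subgroup.mem_centralizer_iff.mp (hAC hb)) a ha)
  suffices h : centralizer (A : Set T) ≤ Cfsg.fittingSubgroup T from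
    fun y hy => hCA.le ⟨hFF (h hy), hy⟩
  refine Cfsg.Agent.Helper63.le_of_forall_primePow_mem ?_
  intro y hy p k hp hyo
  haveI : Fact p.Prime := ⟨hp⟩
  have hyA : ∀ a ∈ A, a * y = y * a := Subgroup.mem_centralizer_iff.mp hy
  refine stabQ_le_fittingSubgroup p (Subgroup.mem_inf.mpr ⟨?_, ?_⟩)
  · -- `p`-stability
    rw [Subgroup.mem_comap, QuotientGroup.mk'_apply]
    by_cases hV : Cfsg.pCore p T = ⊥
    · have htop : centralizer (Cfsg.pCore p T : Set T) = ⊤ := by
        rw [hV, Subgroup.coe_bot, Subgroup.centralizer_eq_top_iff_subset]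
        intro x hx
        rw [Set.mem_singleton_iff] at hx
        subst hx
        exact (Subgroup.center T).one_mem
      have h1 : (QuotientGroup.mk y : T ⧸ centralizer (Cfsg.pCore p T : Set T)) = 1 := by
        rw [QuotientGroup.eq_one_iff, htop]; exact Subgroup.mem_top y
      rw [h1]; exact Subgroup.one_mem _
    · have hp5 : 5 ≤ p := h5 p hp hV
      have hst := isPStableOn_of_five_solvable hp5 (Cfsg.pCore p T)
        (Cfsg.Agent.Lib.isPGroup_pCore p)
      apply hst y
      have hzy : zpowers y ≤ centralizer (A : Set T) := by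
        rw [Subgroup.zpowers_le]; exact hy
      have hVn : (Cfsg.pCore p T).Normal := inferInstance
      have h1 : ⁅Cfsg.pCore p T, zpowers y⁆ ≤ A := by
        rw [Subgroup.commutator_le]
        intro x hx g hg
        have hxF : x ∈ F := hFF (Cfsg.Agent.Lib.pCore_le_fittingSubgroup p hx)
        have hxN : x ∈ normalizer (A : Set T) := hFA hxF
        have hgC : g ∈ centralizer (A : Set T) := hzy hg
        have hgA : ∀ a ∈ A, a * g = g * a := Subgroup.mem_centralizer_iff.mp hgC
        refine hCA.le ⟨?_, ?_⟩
        · apply hFF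
          apply Cfsg.Agent.Lib.pCore_le_fittingSubgroup p
          have h2 : ⁅x, g⁆ = x * (g * x⁻¹ * g⁻¹) := by
            rw [commutatorElement_def]; group
          rw [h2]
          exact Subgroup.mul_mem _ hx (hVn.conj_mem _ (Subgroup.inv_mem _ hx) g)
        · have h2 : x * g * x⁻¹ ∈ centralizer (A : Set T) := by
            rw [Subgroup.mem_centralizer_iff]
            intro a ha
            have hb : x⁻¹ * a * x ∈ A := by
              have := (Subgroup.mem_normalizer_iff.mp (Subgroup.inv_mem _ hxN) a).mp ha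
              simpa using this
            have h3 := hgA _ hb
            calc a * (x * g * x⁻¹) = x * ((x⁻¹ * a * x) * g) * x⁻¹ := by group
              _ = x * (g * (x⁻¹ * a * x)) * x⁻¹ := by rw [h3]
              _ = x * g * x⁻¹ * a := by group
          rw [commutatorElement_def]
          exact Subgroup.mul_mem _ h2 (Subgroup.inv_mem _ hgC)
      have h2 : ⁅A, zpowers y⁆ = ⊥ := by
        rw [Subgroup.commutator_eq_bot_iff_le_centralizer]
        intro a ha
        rw [Subgroup.mem_centralizer_iff]
        intro g hg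
        exact ((Subgroup.mem_centralizer_iff.mp (hzy hg)) a ha).symm
      rw [eq_bot_iff, ← h2]
      exact Subgroup.commutator_mono h1 le_rfl
  · -- `y` centralizes `O_r(T)` for `r ≠ p` (Thompson's `P × Q` lemma)
    have h1 : Cfsg.Agent.Helper63.coreCompl p T ≤ Subgroup.centralizer ({y} : Set T) := by
      unfold Cfsg.Agent.Helper63.coreCompl
      refine iSup_le ?_
      rintro ⟨r, hr, hrp⟩ x hx
      haveI : Fact r.Prime := ⟨hr⟩
      obtain ⟨P, hPA, hP, hPall⟩ := exists_primary_part A hab r
      have hUn : (Cfsg.pCore r T).Normal := inferInstance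
      have hnorm : normalizer ((Cfsg.pCore r T : Subgroup T) : Set T) = ⊤ :=
        Subgroup.normalizer_eq_top _
      have hcop : (orderOf y).Coprime r := by
        rw [hyo]
        exact Nat.Coprime.pow_left k ((Nat.coprime_primes hp hr).mpr (Ne.symm hrp))
      have key := Cfsg.Agent.Helper24.thompson_PxQ (p := r) (U := Cfsg.pCore r T) (P := P)
        (Cfsg.Agent.Lib.isPGroup_pCore r) hP (by rw [hnorm]; exact le_top) (a := y)
        (by rw [hnorm]; exact Subgroup.mem_top y) hcop
        (fun b hb => (hyA b (hPA hb)).symm) ?_ x hx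
      · rw [Subgroup.mem_centralizer_iff]
        intro z hz
        rw [Set.mem_singleton_iff] at hz
        rw [hz]; exact key
      · -- `y` centralizes `C_U(P)`
        intro u hu huP
        have huF : u ∈ F := hFF (Cfsg.Agent.Lib.pCore_le_fittingSubgroup r hu)
        obtain ⟨i, hi⟩ := (Cfsg.Agent.Lib.isPGroup_pCore (G := T) r) ⟨u, hu⟩
        have hui : u ^ r ^ i = 1 := by
          have := congrArg Subtype.val hi
          simpa using this
        have huo : orderOf u ∣ r ^ i := orderOf_dvd_of_pow_eq_one hui
        have huC : u ∈ centralizer (A : Set T) := by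
          rw [Subgroup.mem_centralizer_iff]
          intro a ha
          -- `a ∈ C(u)` by splitting `a` into its `r`-part and `r'`-part
          have hmem : a ∈ Subgroup.centralizer ({u} : Set T) := by
            set n := orderOf a with hn
            have hn0 : n ≠ 0 := (orderOf_pos a).ne'
            have hcop' : Nat.Coprime (n / r ^ n.factorization r) (r ^ n.factorization r) :=
              Nat.Coprime.pow_right _ (Nat.coprime_ordCompl hr hn0).symm
            refine Cfsg.Agent.Helper63.mem_of_pow_mem_of_coprime hcop' ?_ ?_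
            · -- `r`-part
              have ho : orderOf (a ^ (n / r ^ n.factorization r)) = r ^ n.factorization r := by
                have hm0 : n / r ^ n.factorization r ≠ 0 :=
                  (Nat.ordCompl_pos r hn0).ne'
                rw [orderOf_pow_of_dvd hm0 (Nat.ordCompl_dvd n r), ← hn]
                exact Nat.div_eq_of_eq_mul_left (Nat.ordCompl_pos r hn0)
                  (Nat.ordProj_mul_ordCompl_eq_self n r).symm
              have hmemP : a ^ (n / r ^ n.factorization r) ∈ P :=
                hPall _ (Subgroup.pow_mem _ ha _) ⟨_, ho⟩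
              rw [Subgroup.mem_centralizer_iff]
              intro z hz
              rw [Set.mem_singleton_iff] at hz
              rw [hz]; exact (huP _ hmemP).symm
            · -- `r'`-part: coprime orders in the nilpotent group `F`
              have ho : orderOf (a ^ (r ^ n.factorization r)) = n / r ^ n.factorization r := by
                rw [orderOf_pow_of_dvd (pow_ne_zero _ hr.ne_zero) (Nat.ordProj_dvd n r), ← hn]
              have haF : a ^ (r ^ n.factorization r) ∈ F := Subgroup.pow_mem _ (hAF ha) _
              haveI := hFnil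
              have hc := Cfsg.Agent.Helper65.commute_of_coprime_orderOf ↥F
                (⟨u, huF⟩ : F) ⟨_, haF⟩ (by
                  rw [Subgroup.orderOf_mk, Subgroup.orderOf_mk, ho]
                  exact Nat.Coprime.coprime_dvd_left huo
                    (Nat.Coprime.pow_left _ (Nat.coprime_ordCompl hr hn0)))
              rw [Subgroup.mem_centralizer_iff]
              intro z hz
              rw [Set.mem_singleton_iff] at hz
              rw [hz]
              exact congrArg Subtype.val hc.eq
          rw [Subgroup.mem_centralizer_iff] at hmem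
          exact (hmem u rfl).symm
        have huA : u ∈ A := hCA.le ⟨huF, huC⟩
        exact (hyA u huA).symm
    rw [Subgroup.mem_centralizer_iff]
    intro x hx
    have := h1 hx
    rw [Subgroup.mem_centralizer_iff] at this
    exact (this y rfl).symm

end SCN

end Cfsg.Agent.Helper32
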