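import Cfsg.Agent.Helper74.SN.Defs

/-!
# (DIH) for helper74's S4073 farm SN (helper32): the small groups in Dickson's list
`NAN` for dihedral groups of odd degree, `A₄`, `A₅`; `S₄` is not CT.
-/

set_option autoImplicit false
set_option linter.unusedSectionVars false
set_option linter.unusedVariables false
set_option linter.dupNamespace false

namespace Cfsg.Agent.Helper32.SNG

open Cfsg Cfsg.Agent.Helper74.SNG

universe u

/-- (D1) Dihedral groups of odd degree. -/
theorem NAN_dihedral {k : ℕ} (hk : Odd k) : NAN (DihedralGroup k) := by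
  intro J hJ hna
  rw [not_isMulCommutative_iff] at hna
  obtain ⟨a, ha, b, hb, hab⟩ := hna
  -- some reflection lies in `J`
  have hsr : ∃ i : ZMod k, DihedralGroup.sr i ∈ J := by
    rcases a with i | i
    · rcases b with j | j
      · exfalso
        apply hab
        rw [DihedralGroup.r_mul_r, DihedralGroup.r_mul_r, add_comm]
      · exact ⟨j, hb⟩
    · exact ⟨i, ha⟩
  obtain ⟨i, hi⟩ := hsr
  have h1 : DihedralGroup.r (1 : ZMod k) * DihedralGroup.sr i * (DihedralGroup.r (1 : ZMod k))⁻¹ ∈ J :=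
    hJ.conj_mem _ hi _
  rw [DihedralGroup.r_mul_sr, DihedralGroup.inv_r, DihedralGroup.sr_mul_r] at h1
  have h2 : DihedralGroup.sr (i - 1 + -1) * DihedralGroup.sr i ∈ J := J.mul_mem h1 hi
  rw [DihedralGroup.sr_mul_sr] at h2
  have h2' : DihedralGroup.r (2 : ZMod k) ∈ J := by
    have : i - (i - 1 + -1) = (2 : ZMod k) := by ring
    rw [this] at h2
    exact h2
  obtain ⟨m, hm⟩ := hk
  have h3 : DihedralGroup.r (1 : ZMod k) ∈ J := by
    have h4 := J.pow_mem h2' (m + 1)
    rw [DihedralGroup.r_pow] at h4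
    have : (2 : ZMod k) * ((m + 1 : ℕ) : ZMod k) = 1 := by
      have hk0 : ((2 * m + 1 : ℕ) : ZMod k) = 0 := by
        rw [← hm]
        exact ZMod.natCast_self k
      push_cast at hk0 ⊢
      linear_combination hk0
    rw [this] at h4
    exact h4
  have hr : ∀ j : ZMod k, DihedralGroup.r j ∈ J := by
    intro j
    have h5 := J.zpow_mem h3 (j.cast : ℤ)
    rw [DihedralGroup.r_one_zpow] at h5
    haveI : NeZero k := ⟨by omega⟩
    rw [ZMod.intCast_cast, ZMod.cast_id', id] at h5
    exact h5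
  rw [eq_top_iff]
  intro g _
  rcases g with j | j
  · exact hr j
  · have := J.mul_mem hi (hr (j - i))
    rw [DihedralGroup.sr_mul_r] at this
    have h6 : i + (j - i) = j := by ring
    rw [h6] at this
    exact this

/-- Two noncommuting elements of `A₄`: one of them is not an involution. -/
theorem A4_aux1 : ∀ a b : alternatingGroup (Fin 4), a * b ≠ b * a → a * a ≠ 1 ∨ b * b ≠ 1 := by
  decide

/-- Every element of `A₄` is a conjugate of `t`, of `t⁻¹`, or a product of two such, if `t` has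
order `3`. -/
theorem A4_aux2 : ∀ t g : alternatingGroup (Fin 4), t * t ≠ 1 →
    ∃ x y : alternatingGroup (Fin 4),
      g = x * t * x⁻¹ ∨ g = x * t⁻¹ * x⁻¹ ∨ g = (x * t * x⁻¹) * (y * t⁻¹ * y⁻¹) := by
  decide +kernel

/-- (D3) `A₄`. -/
theorem NAN_A4 : NAN (alternatingGroup (Fin 4)) := by
  intro J hJ hna
  rw [not_isMulCommutative_iff] at hna
  obtain ⟨a, ha, b, hb, hab⟩ := hna
  have ht : ∃ t ∈ J, t * t ≠ 1 := by
    rcases A4_aux1 a b hab with h | h
    · exact ⟨a, ha, h⟩
    · exact ⟨b, hb, h⟩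
  obtain ⟨t, htJ, ht⟩ := ht
  rw [eq_top_iff]
  intro g _
  obtain ⟨x, y, h | h | h⟩ := A4_aux2 t g ht
  · rw [h]
    exact hJ.conj_mem _ htJ _
  · rw [h]
    exact hJ.conj_mem _ (J.inv_mem htJ) _
  · rw [h]
    exact J.mul_mem (hJ.conj_mem _ htJ _) (hJ.conj_mem _ (J.inv_mem htJ) _)

/-- (D4) `S₄` is not CT: `(0 1) ~ (0 1)(2 3) ~ (0 2)(1 3)`. -/
theorem not_isCT_S4 : ¬ IsCT (Equiv.Perm (Fin 4)) := by
  intro h
  have h1 := h (Equiv.swap (0 : Fin 4) 1) (Equiv.swap (0 : Fin 4) 1 * Equiv.swap (2 : Fin 4) 3)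
    (Equiv.swap (0 : Fin 4) 2 * Equiv.swap (1 : Fin 4) 3) (by decide) (by decide) (by decide)
    (by rw [commute_iff_eq]; decide) (by rw [commute_iff_eq]; decide)
  rw [commute_iff_eq] at h1
  revert h1
  decide

/-- (D5) `A₅` is simple. -/
theorem NAN_A5 : NAN (alternatingGroup (Fin 5)) := by
  intro J hJ hna
  have hsimp : IsSimpleGroup (alternatingGroup (Fin 5)) :=
    alternatingGroup.isSimpleGroup (by simp)
  rcases IsSimpleGroup.eq_bot_or_eq_top_of_normal J hJ with h | h
  · exfalso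
    apply hna
    rw [Cfsg.Agent.Helper74.SNG.isMulCommutative_iff]
    intro a ha b hb
    rw [h, Subgroup.mem_bot] at ha hb
    rw [ha, hb]
  · exact h

end Cfsg.Agent.Helper32.SNG
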