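import Cfsg.Agent.Helper74.SN.Defs

/-!
# (TRF) for helper74's S4073 farm SN (helper32): transfer into an abelian Sylow subgroup (TR) and
the solvability of the centralizers (CNS)
-/

set_option autoImplicit false
set_option linter.unusedSectionVars false
set_option linter.unusedVariables false
set_option linter.dupNamespace false

namespace Cfsg.Agent.Helper32.SNG

open Cfsg Cfsg.Agent.Helper74.SNG

open scoped IsMulCommutative

universe u

/-- (TR) Transfer: an abelian Sylow `p`-subgroup meets `Z(H) ∩ H'` trivially. -/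
theorem center_inf_commutator_inf_sylow {H : Type u} [Group H] [Finite H] {p : ℕ} [Fact p.Prime]
    (P : Sylow p H) (hP : IsMulCommutative (P : Subgroup H)) :
    Subgroup.center H ⊓ commutator H ⊓ (P : Subgroup H) = ⊥ := by
  rw [eq_bot_iff]
  rintro z ⟨⟨hzc, hzd⟩, hzP⟩
  rw [Subgroup.mem_bot]
  haveI := hP
  have key : ∀ (k : ℕ) (g₀ : H), g₀⁻¹ * z ^ k * g₀ ∈ (P : Subgroup H) →
      g₀⁻¹ * z ^ k * g₀ = z ^ k := by
    intro k g₀ _
    have hc : z ^ k ∈ Subgroup.center H := Subgroup.pow_mem _ hzc k
    rw [Subgroup.mem_center_iff] at hc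
    rw [mul_assoc, ← hc g₀, ← mul_assoc, inv_mul_cancel, one_mul]
  have h1 := MonoidHom.transfer_eq_pow (MonoidHom.id (P : Subgroup H)) z key
  have h2 : MonoidHom.transfer (MonoidHom.id (P : Subgroup H)) z = 1 :=
    Abelianization.commutator_subset_ker _ hzd
  rw [h2] at h1
  have h3 : z ^ (P : Subgroup H).index = 1 := by
    have := congrArg Subtype.val h1
    simpa using this.symm
  -- `z` is a `p`-element
  obtain ⟨k, hk⟩ := P.isPGroup' ⟨z, hzP⟩
  have hk' : z ^ p ^ k = 1 := by
    have := congrArg Subtype.val hk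
    simpa using this
  have hcop : Nat.Coprime (p ^ k) (P : Subgroup H).index :=
    Nat.Coprime.pow_left k ((Nat.Prime.coprime_iff_not_dvd Fact.out).2 P.not_dvd_index)
  have hd : orderOf z ∣ Nat.gcd (p ^ k) (P : Subgroup H).index :=
    Nat.dvd_gcd (orderOf_dvd_of_pow_eq_one hk') (orderOf_dvd_of_pow_eq_one h3)
  rw [hcop] at hd
  exact orderOf_eq_one_iff.1 (Nat.dvd_one.1 hd)

section Cases

variable {G : Type u} [Group G] [Finite G] [IsSimpleGroup G]

/-- (CNS) The centralizer of a nonidentity element is solvable. -/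
theorem centralizer_solvable (hna : ¬ IsMulCommutative G) (hSN : SN G)
    (hFG : ∀ K : Subgroup G, K ≠ ⊤ → ∀ (p : ℕ) [Fact p.Prime] (P : Sylow p K),
      (P : Subgroup K) ≠ ⊤ → IsMulCommutative (P : Subgroup K))
    (x : G) (hx : x ≠ 1) : Group.IsSolvable (Subgroup.centralizer ({x} : Set G)) := by
  obtain ⟨C, hCdef⟩ : ∃ C : Subgroup G, C = Subgroup.centralizer ({x} : Set G) := ⟨_, rfl⟩
  rw [← hCdef]
  have hmemC : ∀ g : G, g ∈ C ↔ g * x = x * g := by
    intro g
    rw [hCdef, Subgroup.mem_centralizer_singleton_iff]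
  -- `C ≠ ⊤`
  have hCtop : C ≠ ⊤ := by
    intro htop
    have hxc : x ∈ Subgroup.center G := by
      rw [Subgroup.mem_center_iff]
      intro g
      have : g ∈ C := by rw [htop]; exact Subgroup.mem_top g
      exact (hmemC g).1 this
    rcases IsSimpleGroup.eq_bot_or_eq_top_of_normal (Subgroup.center G) inferInstance with h | h
    · rw [h, Subgroup.mem_bot] at hxc
      exact hx hxc
    · apply hna
      rw [isMulCommutative_type_iff]
      intro a b
      have ha : a ∈ Subgroup.center G := by rw [h]; exact Subgroup.mem_top a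
      rw [Subgroup.mem_center_iff] at ha
      exact (ha b).symm
  have hSNC : SN C := hSN.subgroup C
  by_cases hperf : commutator C = ⊤
  · -- `C` is perfect: contradiction via transfer, unless `C` is a `p`-group
    have hox : orderOf x ≠ 1 := fun h => hx (orderOf_eq_one_iff.1 h)
    obtain ⟨p, hp, hpd⟩ := Nat.exists_prime_and_dvd hox
    haveI : Fact p.Prime := ⟨hp⟩
    have hopos : 0 < orderOf x := orderOf_pos x
    obtain ⟨z, hz⟩ : ∃ z : G, z = x ^ (orderOf x / p) := ⟨_, rfl⟩
    have hoz : orderOf z = p := by
      rw [hz]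
      exact orderOf_pow_orderOf_div hopos.ne' hpd
    have hzx : ∀ g : G, g * x = x * g → g * z = z * g := by
      intro g hg
      rw [hz]
      exact ((Commute.pow_right (show Commute g x from hg) _)).eq
    have hzC : z ∈ C := by
      rw [hmemC, hz]
      exact ((Commute.pow_left (Commute.refl x) _)).eq
    -- a Sylow `p`-subgroup of `C` containing `z`
    have hpz : IsPGroup p (Subgroup.zpowers (⟨z, hzC⟩ : C)) := by
      apply IsPGroup.of_card (n := 1)
      rw [Nat.card_zpowers, pow_one]
      rw [← hoz]
      exact (Subgroup.orderOf_mk z hzC)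
    obtain ⟨P, hPz⟩ := hpz.exists_le_sylow
    by_cases hPtop : (P : Subgroup C) = ⊤
    · have hCp : IsPGroup p C := by
        intro g
        obtain ⟨k, hk⟩ := P.isPGroup' ⟨g, by rw [hPtop]; exact Subgroup.mem_top g⟩
        refine ⟨k, ?_⟩
        have := congrArg Subtype.val hk
        simpa using this
      haveI : Group.IsNilpotent C := hCp.isNilpotent
      infer_instance
    · exfalso
      have hPab := hFG C hCtop p P hPtop
      have h1 := center_inf_commutator_inf_sylow P hPab
      have hmem : (⟨z, hzC⟩ : C) ∈ Subgroup.center C ⊓ commutator C ⊓ (P : Subgroup C) := by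
        refine ⟨⟨?_, ?_⟩, ?_⟩
        · refine Subgroup.mem_center_iff.2 ?_
          intro c
          apply Subtype.ext
          exact hzx c.1 ((hmemC c.1).1 c.2)
        · rw [hperf]
          exact Subgroup.mem_top _
        · exact hPz (Subgroup.mem_zpowers _)
      rw [h1, Subgroup.mem_bot] at hmem
      have hz1 : z = 1 := congrArg Subtype.val hmem
      rw [hz1, orderOf_one] at hoz
      exact hp.one_lt.ne hoz
  · -- the commutator subgroup is proper, hence abelian
    have hab : IsMulCommutative (commutator C) := hSNC.comm_of_normal (commutator C) hperf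
    rw [isSolvable_def]
    refine ⟨2, ?_⟩
    have h1 : derivedSeries C 1 = commutator C := derivedSeries_one C
    rw [derivedSeries_succ, h1, Subgroup.commutator_eq_bot_iff_le_centralizer]
    intro a ha
    rw [Subgroup.mem_centralizer_iff]
    intro b hb
    exact ((isMulCommutative_iff (commutator C)).1 hab b hb a ha)

end Cases

end Cfsg.Agent.Helper32.SNG
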