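import Mathlib
import Cfsg.Agent.Helper84.SU3P.Defs

/-!
# (BUR) `bruhat_right`: uniqueness in the Bruhat decomposition, right factor for helper84's S2289 farm (helper32)
-/

set_option autoImplicit false

namespace Cfsg.Agent.Helper32.SU3P

open Matrix Polynomial Cfsg.Agent.Helper84.RU3 Cfsg.Agent.Helper96.SLPres
  Cfsg.Agent.Helper96.StemSLTwo Cfsg.Agent.Helper96.StPres Cfsg.Agent.Helper84.SU3P

variable {K : Type*} [Field K] (bar : K →+* K) (hb : ∀ x, bar (bar x) = x)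
include hb

theorem BUR_conj_entries (ε a b : K) (hε : ε ≠ 0) :
    tM ε * uM bar a b * tM (-ε) = !![1, 0, 0; -(ε * a), 1, 0; -(ε ^ 2 * b), -(ε * bar a), 1] := by
  ext i j
  fin_cases i <;> fin_cases j <;>
    simp [tM, uM, Matrix.mul_apply, Fin.sum_univ_three, hε] <;> field_simp

/-- (BUR) uniqueness in the Bruhat decomposition, right factor -/
theorem bruhat_right {ε : K} (hε : ε ≠ 0) (hεb : bar ε = -ε) {a b : K}
    (hab : b + bar b + a * bar a = 0) (hb0 : b ≠ 0)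
    (B₁ : Matrix (Fin 3) (Fin 3) K) (hB₁ : B₁ 2 0 = 0 ∧ B₁ 2 1 = 0) (a₂ b₂ l₂ : K) (hl₂ : l₂ ≠ 0)
    (h : tM ε * uM bar a b * tM (-ε) = B₁ * tM ε * (uM bar a₂ b₂ * hM bar l₂)) :
    a₂ = a / (ε * bar b) * bar l₂ ^ 2 / l₂ ∧ b₂ = l₂ * bar l₂ * (-1 / (ε ^ 2 * b)) := by
  rw [BUR_conj_entries bar hb ε a b hε] at h
  have hbl : bar l₂ ≠ 0 := fun h0 => hl₂ ((map_eq_zero bar).1 h0)
  have hbb : bar b ≠ 0 := fun h0 => hb0 ((map_eq_zero bar).1 h0)
  obtain ⟨β, hβ⟩ : ∃ β : K, β = B₁ 2 2 := ⟨_, rfl⟩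
  have h20 := congrFun (congrFun h 2) 0
  have h21 := congrFun (congrFun h 2) 1
  have h22 := congrFun (congrFun h 2) 2
  simp [tM, uM, hM, Matrix.mul_apply, Fin.sum_univ_three, hB₁.1, hB₁.2, ← hβ] at h20 h21 h22
  have hβ' : β * l₂ = -(ε * b) := by
    apply mul_left_cancel₀ hε
    linear_combination -h20
  have e2 : β * ε * b₂ = bar l₂ := by
    calc β * ε * b₂ = (β * ε * (b₂ * (bar l₂)⁻¹)) * bar l₂ := by field_simp
      _ = bar l₂ := by rw [← h22, one_mul]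
  have e1 : bar a * l₂ = β * bar a₂ * bar l₂ := by
    apply mul_left_cancel₀ hε
    calc ε * (bar a * l₂) = (ε * bar a) * l₂ := by ring
      _ = (β * ε * (bar a₂ * (bar l₂ / l₂))) * l₂ := by rw [h21]
      _ = ε * (β * bar a₂ * bar l₂) := by field_simp
  have e1' : bar a * l₂ ^ 2 = -(ε * b) * bar a₂ * bar l₂ := by
    rw [← hβ']
    linear_combination l₂ * e1
  have e1'' := congrArg bar e1'
  simp only [map_mul, map_pow, map_neg, hb, hεb] at e1''
  constructor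
  · field_simp
    linear_combination -e1''
  · field_simp
    linear_combination (ε * b₂) * hβ' - l₂ * e2

end Cfsg.Agent.Helper32.SU3P
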