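import Mathlib
import Cfsg.Agent.Helper84.SU3P.Defs

/-!
# (NB) `not_upper`: `t u(a,b) t⁻¹` is not upper triangular unless `b = 0` for helper84's S2289 farm (helper32)
-/

set_option autoImplicit false

namespace Cfsg.Agent.Helper32.SU3P

open Matrix Polynomial Cfsg.Agent.Helper84.RU3 Cfsg.Agent.Helper96.SLPres
  Cfsg.Agent.Helper96.StemSLTwo Cfsg.Agent.Helper96.StPres Cfsg.Agent.Helper84.SU3P

variable {K : Type*} [Field K] (bar : K →+* K) (hb : ∀ x, bar (bar x) = x)
include hb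

theorem NB_conj_entries (ε a b : K) (hε : ε ≠ 0) :
    tM ε * uM bar a b * tM (-ε) = !![1, 0, 0; -(ε * a), 1, 0; -(ε ^ 2 * b), -(ε * bar a), 1] := by
  ext i j
  fin_cases i <;> fin_cases j <;>
    simp [tM, uM, Matrix.mul_apply, Fin.sum_univ_three, hε] <;> field_simp

/-- (NB) `t u(a,b) t⁻¹` is not upper triangular unless `b = 0` -/
theorem not_upper {ε : K} (hε : ε ≠ 0) (hεb : bar ε = -ε) {a b : K}
    (B : Matrix (Fin 3) (Fin 3) K) (hB : B 2 0 = 0)
    (h : tM ε * uM bar a b * tM (-ε) = B) : b = 0 := by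
  rw [NB_conj_entries bar hb ε a b hε] at h
  have h20 := congrFun (congrFun h 2) 0
  rw [hB] at h20
  simp at h20
  exact h20.resolve_left hε

end Cfsg.Agent.Helper32.SU3P
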