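import Cfsg.Agent.Helper78.Olsson.Defs
import Cfsg.Agent.Helper16.ContribMajor
import Cfsg.Agent.Helper16.ContribCC
import Cfsg.Agent.Helper16.Contribution5
import Cfsg.Agent.Helper85.OlssonVLEM

/-!
# Piece (V3) for S4575 (owner helper79)

For a character of positive height in `B`, the diagonal contribution `p^d m_χχ` of a major
subsection `(y^γ, b)` is `p` times an element of the local ideal.
-/

set_option autoImplicit false
set_option linter.style.haveILetI false
set_option linter.unusedSectionVars false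
set_option linter.unusedVariables false

noncomputable section

namespace Cfsg.Agent.Helper32.Samb

open Cfsg
open scoped ComplexConjugate
open Cfsg.Agent.Helper16
open Cfsg.Agent.Helper78.Olsson (unitsRange)

variable {G : Type*} [Group G] [Fintype G] {M : Ideal AlgInt} {p : ℕ}

/-- (V3) for a character of POSITIVE height in `B`, the diagonal contribution `p^d m_χχ` of a major
subsection `(y^γ, b)` is divisible by `p` times an element of the local ideal. -/
theorem memLocalIdeal_contribE_self_div_p [Fact p.Prime] (hM : IsPModular p M)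
    {B : Set (IrrCharacter G)} (hB : IsPBlock M B) (H : Subgroup G) [Fintype H] (yH : H)
    (hyc : yH ∈ Subgroup.center H) (hHy : H = Subgroup.centralizer ({(yH : G)} : Set G))
    (n : ℕ) (hy : orderOf (yH : G) ∣ p ^ n) {b : Set (IrrCharacter H)}
    (hind : IsInducedBlock M H b B) (hdef : blockDefect p b = blockDefect p B)
    (γ : ℕ) (hγ : γ ∈ unitsRange p n) (χ : IrrCharacter G) (hχ : χ ∈ B)
    (hht : blockHeight p B (χ : G → ℂ) ≠ 0) :
    MemLocalIdeal M (((p ^ blockDefect p B : ℕ) : ℂ) *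
      contribE p H ((yH : G) ^ γ) b (χ : G → ℂ) (χ : G → ℂ) / (p : ℂ)) := by
  classical
  haveI hMp : M.IsPrime := IsPModular.isPrime hM
  have hpr : p.Prime := Fact.out
  have hb : IsPBlock M b := hind.1
  have hyHpow : yH ^ (p ^ n) = 1 := by
    apply Subtype.ext
    rw [SubmonoidClass.coe_pow]
    exact orderOf_dvd_iff_pow_eq_one.mp hy
  obtain ⟨k₀, hk₀⟩ : ∃ k : ℕ, orderOf (yH : G) = p ^ k := by
    obtain ⟨k, -, hk⟩ := (Nat.dvd_prime_pow hpr).1 hy
    exact ⟨k, hk⟩
  have hγ' : Nat.Coprime (p ^ n) γ := by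
    unfold unitsRange at hγ
    rw [Finset.mem_filter] at hγ
    exact hγ.2
  have hfacts : ∀ γ' : ℕ, Nat.Coprime (p ^ n) γ' →
      (H = Subgroup.centralizer ({(yH : G) ^ γ'} : Set G)) ∧
        (∃ k : ℕ, orderOf ((yH : G) ^ γ') = p ^ k) := by
    intro γ' hc
    have hcop : Nat.Coprime γ' (orderOf (yH : G)) := Nat.Coprime.coprime_dvd_right hy hc.symm
    exact ⟨hHy.trans (centralizer_pow_eq_of_coprime (yH : G) hcop),
      exists_orderOf_pow_eq_prime_pow hpr (yH : G) hk₀ γ'⟩
  obtain ⟨hH', hx'⟩ := hfacts γ hγ'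
  have hpn1 : 1 ≤ p ^ n := Nat.one_le_pow _ _ hpr.pos
  have hγ''c : Nat.Coprime (p ^ n) ((p ^ n - 1) * γ) := by
    refine Nat.Coprime.mul_right ?_ hγ'
    exact (Nat.coprime_self_sub_right hpn1).2 (Nat.coprime_one_right _)
  obtain ⟨hH'', hx''⟩ := hfacts ((p ^ n - 1) * γ) hγ''c
  -- a character of height zero
  obtain ⟨ψ0, hψ0B, hψ00⟩ := Helper78.exists_height_zero (p := p) hMp hB
  have hsame : SameBlock M (χ : G → ℂ) (ψ0 : G → ℂ) :=
    Helper78.sameBlock_of_mem_of_mem hMp hB hχ hψ0B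
  -- (1)
  have h1 := memLocalIdeal_card_div_mul_contribE_sub hM ((yH : G) ^ γ) hx' H hH' hb χ χ ψ0 hsame
  -- (2) the power form of `(ψ0, χ)` and complex conjugation
  obtain ⟨A, μ, hμ, hform⟩ := exists_pow_form hM H yH hyc n hyHpow hb ψ0 χ
  have hpd : ((p ^ blockDefect p b : ℕ) : ℂ) ≠ 0 := by
    exact_mod_cast (pow_pos hpr.pos _).ne'
  have hconj : contribE p H ((yH : G) ^ γ) b (χ : G → ℂ) (ψ0 : G → ℂ) =
      contribE p H ((yH : G) ^ ((p ^ n - 1) * γ)) b (ψ0 : G → ℂ) (χ : G → ℂ) := by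
    apply mul_left_cancel₀ hpd
    rw [hform ((p ^ n - 1) * γ),
      ← contribE_conj_symm hM H ((yH : G) ^ γ) hb (ψ0 : G → ℂ) (χ : G → ℂ)]
    have h2 : ((p ^ blockDefect p b : ℕ) : ℂ) *
        conj (contribE p H ((yH : G) ^ γ) b (ψ0 : G → ℂ) (χ : G → ℂ)) =
        conj (((p ^ blockDefect p b : ℕ) : ℂ) *
          contribE p H ((yH : G) ^ γ) b (ψ0 : G → ℂ) (χ : G → ℂ)) := by
      rw [map_mul, Complex.conj_natCast]
    rw [h2, hform γ, map_sum]
    refine Finset.sum_congr rfl (fun i _ => ?_)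
    rw [map_mul, map_intCast, map_pow]
    have hc : conj (μ i) = μ i ^ (p ^ n - 1) := by
      have h3 := mul_conj_self_of_pow_eq_one (pow_pos hpr.pos n).ne' (hμ i)
      have h4 : μ i * μ i ^ (p ^ n - 1) = 1 := by
        rw [← pow_succ', Nat.sub_add_cancel hpn1, hμ i]
      have hμ0 : μ i ≠ 0 := by
        intro h0
        rw [h0, zero_mul] at h3
        exact zero_ne_one h3
      exact mul_left_cancel₀ hμ0 (h3.trans h4.symm)
    rw [hc, ← pow_mul]
  -- (3)
  have h3 := memLocalRing_card_div_mul_contribE hM ((yH : G) ^ ((p ^ n - 1) * γ)) hx'' H hH'' hb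
    ψ0 χ
  -- valuations
  set a := (Nat.card G).factorization p with ha
  set e := (charDegree (χ : G → ℂ)).factorization p with he
  set e0 := (charDegree (ψ0 : G → ℂ)).factorization p with he0
  have he0' : e0 = minExp p B := (blockHeight_eq_zero_iff p hψ0B).mp hψ00
  have hle : minExp p B ≤ e := minExp_le_of_mem p hχ
  have hea : e ≤ a := factorization_charDegree_le p χ
  have hh : blockHeight p B (χ : G → ℂ) = e - minExp p B := blockHeight_eq p B _
  have hd : blockDefect p B = a - minExp p B := blockDefect_eq p B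
  have hlt : e0 + 1 ≤ e := by omega
  have hχ0 : charDegree (χ : G → ℂ) ≠ 0 := charDegree_ne_zero' χ
  have hψ0 : charDegree (ψ0 : G → ℂ) ≠ 0 := charDegree_ne_zero' ψ0
  have hG0 : Nat.card G ≠ 0 := Nat.card_pos.ne'
  -- `χ(1)/(p ψ0(1))` is a local integer
  have hr1 : MemLocalRing M ((charDegree (χ : G → ℂ) : ℂ) /
      ((p * charDegree (ψ0 : G → ℂ) : ℕ) : ℂ)) := by
    refine Helper78.memLocalRing_natCast_div hM (Nat.mul_ne_zero hpr.ne_zero hψ0) hχ0 ?_
    rw [Nat.factorization_mul hpr.ne_zero hψ0, Finsupp.coe_add, Pi.add_apply,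
      hpr.factorization_self]
    omega
  have hY : MemLocalIdeal M ((Nat.card G : ℂ) / (ψ0 : G → ℂ) 1 *
      contribE p H ((yH : G) ^ γ) b (χ : G → ℂ) (ψ0 : G → ℂ)) := by
    have h5 := memLocalIdeal_mul_right
      (memLocalIdeal_mul_right (Helper78.memLocalIdeal_prime hM) hr1) h3
    convert h5 using 1
    rw [hconj, irr_one_eq_natCast χ, irr_one_eq_natCast ψ0]
    have c1 : (charDegree (χ : G → ℂ) : ℂ) ≠ 0 := by exact_mod_cast hχ0
    have c2 : (charDegree (ψ0 : G → ℂ) : ℂ) ≠ 0 := by exact_mod_cast hψ0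
    have c3 : (p : ℂ) ≠ 0 := by exact_mod_cast hpr.ne_zero
    push_cast
    field_simp
  -- (4)
  have hX : MemLocalIdeal M ((Nat.card G : ℂ) / (χ : G → ℂ) 1 *
      contribE p H ((yH : G) ^ γ) b (χ : G → ℂ) (χ : G → ℂ)) := by
    have h6 := memLocalIdeal_add h1 hY
    rwa [sub_add_cancel] at h6
  have hd1 : 1 ≤ blockDefect p B := by omega
  have hr2 : MemLocalRing M (((charDegree (χ : G → ℂ) * p ^ (blockDefect p B - 1) : ℕ) : ℂ) /
      ((Nat.card G : ℕ) : ℂ)) := by
    refine Helper78.memLocalRing_natCast_div hM hG0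
      (Nat.mul_ne_zero hχ0 (pow_pos hpr.pos _).ne') ?_
    rw [Nat.factorization_mul hχ0 (pow_pos hpr.pos _).ne', hpr.factorization_pow,
      Finsupp.coe_add, Pi.add_apply, Finsupp.single_eq_same]
    omega
  have h7 := memLocalIdeal_mul_left hr2 hX
  convert h7 using 1
  rw [irr_one_eq_natCast χ]
  have c1 : (charDegree (χ : G → ℂ) : ℂ) ≠ 0 := by exact_mod_cast hχ0
  have c3 : (p : ℂ) ≠ 0 := by exact_mod_cast hpr.ne_zero
  have c4 : (Nat.card G : ℂ) ≠ 0 := by exact_mod_cast hG0
  have hsplit : blockDefect p B = (blockDefect p B - 1) + 1 := by omega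
  conv_lhs => rw [hsplit]
  push_cast
  rw [pow_succ]
  field_simp

end Cfsg.Agent.Helper32.Samb

end
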