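import Cfsg.Agent.Helper61.TwoPDefs
import Cfsg.Agent.Helper66.PD2Main
import Cfsg.Agent.Helper81.PermChar
import Cfsg.Agent.Helper79.ClassMult
import Cfsg.Agent.Helper74.TwoPC
import Cfsg.Agent.Helper89.TwoPD

/-!
# S4707 piece (E0) of board post #6269 (helper61): numerical data of the permutation character.
-/

set_option autoImplicit false
set_option linter.unusedSectionVars false
set_option linter.unusedVariables false

namespace Cfsg.Agent.Helper32.TwoP

open Cfsg MulAction Cfsg.Agent.Helper66.PD2 Cfsg.Agent.Helper66.BL Cfsg.Agent.Helper61.TwoP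
open scoped ComplexConjugate

variable {G : Type*} [Group G] [Fintype G] {α : Type*} [Fintype α] [DecidableEq α] [MulAction G α]
  {p : ℕ} [Fact p.Prime] {P : Sylow p G}

/-- (E0) numerical data of the permutation character. -/
theorem perm_numbers (S : Setup G α p P) {ε δ : ℤ} {χ1 : IrrCharacter G}
    {Y : Set (IrrCharacter G)} (T : Std G p ε δ χ1 Y)
    (hsemi : ∀ g : G, p ∣ orderOf g → fx α g = 0) :
    ∃ n1 n f z : ℕ, classInner (piFun (G := G) α) (χ1 : G → ℂ) = n1 ∧
      (∀ η ∈ Y, classInner (piFun (G := G) α) (η : G → ℂ) = n) ∧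
      (χ1 : G → ℂ) 1 = f ∧ (∀ η ∈ Y, (η : G → ℂ) 1 = z) ∧ 1 ≤ f ∧ 1 ≤ z ∧
      -δ * n + 1 + ε * n1 = 0 ∧ -δ * z + 1 + ε * f = 0 ∧ (∃ k : ℤ, (f : ℤ) - ε = k * p) ∧
      1 + n1 * f + n * ((p - 1) / 2) * z ≤ 2 * p := by
  classical
  have hp : p.Prime := Fact.out
  have hp5 := S.hp5
  haveI : IsPretransitive G α := S.prim.toIsPretransitive
  haveI hne : Nonempty α := by
    rw [← Fintype.card_pos_iff, S.hα]; omega
  have hπ : IsCharacter G (piFun (G := G) α) := isCharacter_piFun α
  obtain ⟨x0⟩ := hne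
  have hπ1 : classInner (piFun (G := G) α) (fun _ => (1 : ℂ)) = 1 := by
    rw [piFun_eq_indFun α x0]; exact Helper81.inner_indFun_one_one _
  have hF : ∀ g : G, p ∣ orderOf g → piFun (G := G) α g = 0 := by
    intro g hg; simp [piFun, hsemi g hg]
  obtain ⟨hCeq, hCrel⟩ := Helper74.TwoP.inner_rel T (piFun (G := G) α) 0 hF
  -- `Y` is finite and nonempty
  have hYcard : 2 ≤ Nat.card Y := by have := T.cardY; omega
  haveI : Finite Y := Nat.finite_of_card_ne_zero (by omega)
  obtain ⟨⟨η0, hη0⟩⟩ : Nonempty Y := (Nat.card_pos_iff.1 (by omega)).1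
  obtain ⟨n1, hn1⟩ := Helper74.isCharacter_inner_irr_nat hπ χ1
  obtain ⟨n, hn⟩ := Helper74.isCharacter_inner_irr_nat hπ η0
  have hnY : ∀ η ∈ Y, classInner (piFun (G := G) α) (η : G → ℂ) = n :=
    fun η hη => (hCeq η hη η0 hη0).trans hn
  set f := charDegree (χ1 : G → ℂ) with hfdef
  set z := charDegree (η0 : G → ℂ) with hzdef
  have hf : (χ1 : G → ℂ) 1 = f := (Helper74.charDegree_cast (Helper74.irr_isCharacter χ1)).symm
  have hz0 : (η0 : G → ℂ) 1 = z := (Helper74.charDegree_cast (Helper74.irr_isCharacter η0)).symm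
  have hreg1 : ¬ p ∣ orderOf (1 : G) := by
    rw [orderOf_one]; intro h; have := Nat.le_of_dvd one_pos h; omega
  have hzY : ∀ η ∈ Y, (η : G → ℂ) 1 = z := fun η hη => (T.reg_eq η hη η0 hη0 1 hreg1).trans hz0
  have hf1 : 1 ≤ f := Helper79.irr_charDegree_pos χ1
  have hz1 : 1 ≤ z := Helper79.irr_charDegree_pos η0
  have hrel1 : -δ * n + 1 + ε * n1 = 0 := by
    have := hCrel η0 hη0
    rw [hn, hπ1, hn1] at this
    exact_mod_cast this
  have hrel2 : -δ * z + 1 + ε * f = 0 := by
    have := T.rel η0 hη0 1 hreg1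
    rw [hz0, hf] at this
    exact_mod_cast this
  -- the congruence
  have hcong : ∃ k : ℤ, (f : ℤ) - ε = k * p := by
    haveI : Fintype (P : Subgroup G) := Fintype.ofFinite _
    obtain ⟨m, hm⟩ := Helper89.TwoP.exists_nat_sum_subgroup (P : Subgroup G)
      (Helper74.irr_isCharacter χ1)
    have hsum : ∑ x : (P : Subgroup G), (χ1 : G → ℂ) (x : G) = f + ((p : ℂ) - 1) * ε := by
      rw [← Finset.add_sum_erase Finset.univ _ (Finset.mem_univ (1 : (P : Subgroup G)))]
      have hA : (χ1 : G → ℂ) ((1 : (P : Subgroup G)) : G) = f := hf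
      have hB : ∑ x ∈ Finset.univ.erase (1 : (P : Subgroup G)), (χ1 : G → ℂ) (x : G) =
          ((p : ℂ) - 1) * ε := by
        rw [Finset.sum_congr rfl (g := fun _ => (ε : ℂ))]
        · rw [Finset.sum_const, Finset.card_erase_of_mem (Finset.mem_univ _), Finset.card_univ,
            ← Nat.card_eq_fintype_card, S.cardP, nsmul_eq_mul, Nat.cast_sub (by omega)]
          simp
        · intro x hx
          have hx1 : x ≠ 1 := Finset.ne_of_mem_erase hx
          apply T.chi_sing
          have h1 : orderOf x ∣ p := by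
            have h0 := orderOf_dvd_natCard x
            rwa [S.cardP] at h0
          rcases (Nat.dvd_prime hp).1 h1 with h | h
          · exact absurd (orderOf_eq_one_iff.1 h) hx1
          · rw [Subgroup.orderOf_coe, h]
      rw [hA, hB]
    rw [hsum, S.cardP] at hm
    refine ⟨m - ε, ?_⟩
    have h2 : (f : ℤ) + ((p : ℤ) - 1) * ε = (m : ℤ) * (p : ℤ) := by exact_mod_cast hm
    linear_combination h2
  -- the degree inequality
  have hineq : 1 + n1 * f + n * ((p - 1) / 2) * z ≤ 2 * p := by
    let _ : Fintype (IrrCharacter G) := Helper74.irrFintype G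
    have hsum := Helper74.isCharacter_eq_sum_irr hπ
    have h1 := congrFun hsum 1
    have hπone : piFun (G := G) α 1 = ((2 * p : ℕ) : ℂ) := by
      simp only [piFun, fx_one, S.hα]
    choose m hm using fun ψ : IrrCharacter G => Helper74.isCharacter_inner_irr_nat hπ ψ
    have h2 : 2 * p = ∑ ψ : IrrCharacter G, m ψ * charDegree (ψ : G → ℂ) := by
      apply Nat.cast_injective (R := ℂ)
      rw [← hπone, h1, Finset.sum_apply]
      push_cast
      refine Finset.sum_congr rfl fun ψ _ => ?_
      rw [Pi.smul_apply, smul_eq_mul, hm ψ, Helper74.charDegree_cast (Helper74.irr_isCharacter ψ)]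
    set Yf : Finset (IrrCharacter G) := Finset.univ.filter (· ∈ Y) with hYf
    have hYfmem : ∀ η, η ∈ Yf ↔ η ∈ Y := by intro η; simp [hYf]
    have hYfcard : Yf.card = (p - 1) / 2 := by
      have h3 : Yf.card = Nat.card Y := by
        rw [Nat.card_eq_fintype_card, Fintype.card_subtype]
      have := T.cardY
      rw [h3]; omega
    have hm1 : m (Helper79.principalIrr G) = 1 := by
      have := hm (Helper79.principalIrr G)
      have h3 : ((Helper79.principalIrr G : IrrCharacter G) : G → ℂ) = fun _ => (1 : ℂ) := rfl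
      rw [h3, hπ1] at this
      exact_mod_cast this.symm
    have hd1 : charDegree ((Helper79.principalIrr G : IrrCharacter G) : G → ℂ) = 1 := by
      have := Helper74.charDegree_cast (Helper74.irr_isCharacter (Helper79.principalIrr G))
      have h3 : ((Helper79.principalIrr G : IrrCharacter G) : G → ℂ) 1 = 1 := rfl
      rw [h3] at this
      exact_mod_cast this
    have hmχ : m χ1 = n1 := by
      have := hm χ1
      rw [hn1] at this
      exact_mod_cast this.symm
    have hmY : ∀ η ∈ Yf, m η * charDegree (η : G → ℂ) = n * z := by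
      intro η hη
      have hηY := (hYfmem η).1 hη
      have h3 := hm η
      rw [hnY η hηY] at h3
      have h4 : m η = n := by exact_mod_cast h3.symm
      have h5 := Helper74.charDegree_cast (Helper74.irr_isCharacter η)
      rw [hzY η hηY] at h5
      have h6 : charDegree (η : G → ℂ) = z := by exact_mod_cast h5
      rw [h4, h6]
    have hnot1 : Helper79.principalIrr G ∉ insert χ1 Yf := by
      rw [Finset.mem_insert, not_or]
      exact ⟨fun h => T.chi_ne h.symm, fun h => T.one_nmem ((hYfmem _).1 h)⟩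
    have hnot2 : χ1 ∉ Yf := fun h => T.chi_nmem ((hYfmem _).1 h)
    have h3 : ∑ ψ ∈ insert (Helper79.principalIrr G) (insert χ1 Yf),
        m ψ * charDegree (ψ : G → ℂ) ≤ ∑ ψ : IrrCharacter G, m ψ * charDegree (ψ : G → ℂ) :=
      Finset.sum_le_sum_of_subset (Finset.subset_univ _)
    rw [Finset.sum_insert hnot1, Finset.sum_insert hnot2, Finset.sum_congr rfl hmY,
      Finset.sum_const, hm1, hd1, hmχ, hYfcard, smul_eq_mul, ← h2] at h3
    calc 1 + n1 * f + n * ((p - 1) / 2) * z = 1 * 1 + (n1 * f + (p - 1) / 2 * (n * z)) := by ring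
      _ ≤ 2 * p := h3
  exact ⟨n1, n, f, z, hn1, hnY, hf, hzY, hf1, hz1, hrel1, hrel2, hcong, hineq⟩

end Cfsg.Agent.Helper32.TwoP
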