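import Cfsg.Agent.Helper61.TwoPDefs
import Cfsg.Agent.Helper66.PD2Main
import Cfsg.Agent.Helper81.PermChar
import Cfsg.Agent.Helper79.ClassMult
import Cfsg.Agent.Helper74.TwoPC
import Cfsg.Agent.Helper89.TwoPD
import Cfsg.Agent.Helper91.AbNormCenter

/-!
# S4707 piece (E2) of board post #6269 (helper61): the surviving case `π = 1 + χ₁ + θ`.
-/

set_option autoImplicit false
set_option linter.unusedSectionVars false
set_option linter.unusedVariables false

namespace Cfsg.Agent.Helper32.TwoP

open Cfsg MulAction Cfsg.Agent.Helper66.PD2 Cfsg.Agent.Helper66.BL Cfsg.Agent.Helper61.TwoP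
open scoped ComplexConjugate

variable {G : Type*} [Group G] [Fintype G] {α : Type*} [Fintype α] [DecidableEq α] [MulAction G α]
  {p : ℕ} [Fact p.Prime] {P : Sylow p G}

/-- (E2) the surviving case. -/
theorem caseB_of_mults (S : Setup G α p P) {χ1 : IrrCharacter G}
    {Y : Set (IrrCharacter G)} (T : Std G p (-1) (-1) χ1 Y)
    (hsemi : ∀ g : G, p ∣ orderOf g → fx α g = 0)
    (hf : (χ1 : G → ℂ) 1 = (p : ℂ) - 1)
    (hn1 : classInner (piFun (G := G) α) (χ1 : G → ℂ) = 1)
    (hn : ∀ η ∈ Y, classInner (piFun (G := G) α) (η : G → ℂ) = 0) :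
    ∃ θ : IrrCharacter G, CaseB G α p χ1 θ Y := by
  classical
  have hp : p.Prime := Fact.out
  have hp5 := S.hp5
  haveI : IsPretransitive G α := S.prim.toIsPretransitive
  have hne : Nonempty α := by
    rw [← Fintype.card_pos_iff, S.hα]; omega
  have hπ : IsCharacter G (piFun (G := G) α) := isCharacter_piFun α
  obtain ⟨x0⟩ := hne
  set one : G → ℂ := fun _ => (1 : ℂ) with hone
  have hπ1 : classInner (piFun (G := G) α) one = 1 := by
    rw [piFun_eq_indFun α x0]; exact Helper81.inner_indFun_one_one _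
  have hIone : ((Helper79.principalIrr G : IrrCharacter G) : G → ℂ) = one := rfl
  have hρ1 : IsCharacter G (piFun (G := G) α - one) :=
    Helper91.AbNormCenter.isCharacter_sub_irr hπ (Helper79.principalIrr G).2 (by rw [hπ1]; exact one_ne_zero)
  have h1χ : classInner one (χ1 : G → ℂ) = 0 := Helper74.TwoP.classInner_one_irr χ1 T.chi_ne
  have hρ : IsCharacter G (piFun (G := G) α - one - (χ1 : G → ℂ)) :=
    Helper91.AbNormCenter.isCharacter_sub_irr hρ1 χ1.2 (by
      rw [Helper74.classInner_sub_left, hn1, h1χ]; norm_num)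
  set ρ : G → ℂ := piFun (G := G) α - one - (χ1 : G → ℂ) with hρdef
  have hreg1 : ¬ p ∣ orderOf (1 : G) := by
    rw [orderOf_one]; intro h; have := Nat.le_of_dvd one_pos h; omega
  -- inner products of `ρ`
  have hχ1one : classInner (χ1 : G → ℂ) one = 0 := by
    rw [← hIone]; exact Helper74.irr_inner_ne T.chi_ne
  have hρI : classInner ρ one = 0 := by
    rw [hρdef, Helper74.classInner_sub_left, Helper74.classInner_sub_left, hπ1,
      Helper74.TwoP.classInner_one_one, hχ1one]; ring
  have hρχ : classInner ρ (χ1 : G → ℂ) = 0 := by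
    rw [hρdef, Helper74.classInner_sub_left, Helper74.classInner_sub_left, hn1, h1χ,
      Helper74.irr_inner_self]; ring
  have hρY : ∀ η ∈ Y, classInner ρ (η : G → ℂ) = 0 := by
    intro η hη
    have h1 : η ≠ Helper79.principalIrr G := fun h => T.one_nmem (h ▸ hη)
    have h2 : χ1 ≠ η := fun h => T.chi_nmem (h ▸ hη)
    rw [hρdef, Helper74.classInner_sub_left, Helper74.classInner_sub_left, hn η hη,
      Helper74.TwoP.classInner_one_irr η h1, Helper74.irr_inner_ne h2]; ring
  have hπone : piFun (G := G) α 1 = ((2 * p : ℕ) : ℂ) := by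
    simp only [piFun, fx_one, S.hα]
  have hρone : ρ 1 = (p : ℂ) := by
    rw [hρdef]
    simp only [Pi.sub_apply, hπone, hf, hone]
    push_cast; ring
  -- decomposition of `ρ`
  let _ : Fintype (IrrCharacter G) := Helper74.irrFintype G
  have hsum := Helper74.isCharacter_eq_sum_irr hρ
  choose m hm using fun ψ : IrrCharacter G => Helper74.isCharacter_inner_irr_nat hρ ψ
  have h2 : p = ∑ ψ : IrrCharacter G, m ψ * charDegree (ψ : G → ℂ) := by
    apply Nat.cast_injective (R := ℂ)
    rw [← hρone, congrFun hsum 1, Finset.sum_apply]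
    push_cast
    refine Finset.sum_congr rfl fun ψ _ => ?_
    rw [Pi.smul_apply, smul_eq_mul, hm ψ, Helper74.charDegree_cast (Helper74.irr_isCharacter ψ)]
  obtain ⟨θ, hθ⟩ : ∃ θ : IrrCharacter G, m θ ≠ 0 := by
    by_contra hcon
    push Not at hcon
    rw [Finset.sum_eq_zero (fun ψ _ => by rw [hcon ψ, zero_mul])] at h2
    omega
  have hm0 : ∀ ψ : IrrCharacter G, classInner ρ (ψ : G → ℂ) = 0 → m ψ = 0 := by
    intro ψ h
    have := hm ψ
    rw [h] at this
    exact_mod_cast this.symm
  have hθ1 : θ ≠ Helper79.principalIrr G := by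
    rintro rfl
    exact hθ (hm0 _ (by rw [hIone]; exact hρI))
  have hθχ : θ ≠ χ1 := by
    rintro rfl
    exact hθ (hm0 _ hρχ)
  have hθY : θ ∉ Y := fun h => hθ (hm0 _ (hρY θ h))
  have hθsing : ∀ g : G, p ∣ orderOf g → (θ : G → ℂ) g = 0 := T.other_sing θ hθ1 hθχ hθY
  -- `p ∣ θ 1`
  have hdθ : p ∣ charDegree (θ : G → ℂ) := by
    haveI : Fintype (P : Subgroup G) := Fintype.ofFinite _
    obtain ⟨k, hk⟩ := Helper89.TwoP.exists_nat_sum_subgroup (P : Subgroup G)
      (Helper74.irr_isCharacter θ)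
    have hs : ∑ x : (P : Subgroup G), (θ : G → ℂ) (x : G) = charDegree (θ : G → ℂ) := by
      rw [← Finset.add_sum_erase Finset.univ _ (Finset.mem_univ (1 : (P : Subgroup G)))]
      have hA : (θ : G → ℂ) ((1 : (P : Subgroup G)) : G) = charDegree (θ : G → ℂ) :=
        (Helper74.charDegree_cast (Helper74.irr_isCharacter θ)).symm
      have hB : ∑ x ∈ Finset.univ.erase (1 : (P : Subgroup G)), (θ : G → ℂ) (x : G) = 0 := by
        apply Finset.sum_eq_zero
        intro x hx
        have hx1 : x ≠ 1 := Finset.ne_of_mem_erase hx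
        apply hθsing
        have h1 : orderOf x ∣ p := by
          have h0 := orderOf_dvd_natCard x
          rwa [S.cardP] at h0
        rcases (Nat.dvd_prime hp).1 h1 with h | h
        · exact absurd (orderOf_eq_one_iff.1 h) hx1
        · rw [Subgroup.orderOf_coe, h]
      rw [hA, hB, add_zero]
    rw [hs, S.cardP] at hk
    have hk' : charDegree (θ : G → ℂ) = k * p := by exact_mod_cast hk
    exact ⟨k, by rw [hk', mul_comm]⟩
  have hdpos : 0 < charDegree (θ : G → ℂ) := Helper79.irr_charDegree_pos θ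
  have hdge : p ≤ charDegree (θ : G → ℂ) := Nat.le_of_dvd hdpos hdθ
  have hterm : m θ * charDegree (θ : G → ℂ) ≤ p := by
    conv_rhs => rw [h2]
    exact Finset.single_le_sum (f := fun ψ : IrrCharacter G => m ψ * charDegree (ψ : G → ℂ))
      (fun _ _ => Nat.zero_le _) (Finset.mem_univ θ)
  have hmθ1 : 1 ≤ m θ := Nat.one_le_iff_ne_zero.2 hθ
  have hdθp : charDegree (θ : G → ℂ) = p := by
    have : charDegree (θ : G → ℂ) ≤ m θ * charDegree (θ : G → ℂ) := Nat.le_mul_of_pos_left _ hmθ1
    omega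
  have hmθ : m θ = 1 := by
    rw [hdθp] at hterm
    have : m θ ≤ 1 := by
      by_contra hcon
      push Not at hcon
      have : 2 * p ≤ m θ * p := Nat.mul_le_mul_right p hcon
      omega
    omega
  have hother : ∀ ψ : IrrCharacter G, ψ ≠ θ → m ψ = 0 := by
    intro ψ hψ
    have h3 := Finset.add_sum_erase Finset.univ
      (fun ψ : IrrCharacter G => m ψ * charDegree (ψ : G → ℂ)) (Finset.mem_univ θ)
    rw [← h2, hmθ, hdθp, one_mul] at h3
    have h4 : ∑ ψ ∈ Finset.univ.erase θ, m ψ * charDegree (ψ : G → ℂ) = 0 := by omega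
    have h5 := (Finset.sum_eq_zero_iff.1 h4) ψ (Finset.mem_erase.2 ⟨hψ, Finset.mem_univ ψ⟩)
    rcases Nat.mul_eq_zero.1 h5 with h6 | h6
    · exact h6
    · exact absurd h6 (Helper79.irr_charDegree_pos ψ).ne'
  have hρθ : ρ = (θ : G → ℂ) := by
    rw [hsum, Finset.sum_eq_single θ]
    · rw [hm θ, hmθ]; simp
    · intro ψ _ hψ
      rw [hm ψ, hother ψ hψ]; simp
    · intro h; exact absurd (Finset.mem_univ θ) h
  have hperm : ∀ g : G, (fx α g : ℂ) = 1 + (χ1 : G → ℂ) g + (θ : G → ℂ) g := by
    intro g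
    have := congrFun hρθ g
    rw [hρdef] at this
    simp only [Pi.sub_apply, piFun, hone] at this
    rw [← this]; ring
  refine ⟨θ, ⟨T, hf, ?_, ?_, hθsing, hperm⟩⟩
  · intro η hη
    have := T.rel η hη 1 hreg1
    rw [hf] at this
    push_cast at this
    linear_combination this
  · rw [← Helper74.charDegree_cast (Helper74.irr_isCharacter θ), hdθp]

end Cfsg.Agent.Helper32.TwoP
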