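import Mathlib
import Cfsg.Agent.Helper88.U3O.Defs
import Cfsg.Agent.Helper41.U3O_SQ

/-!
# (TRA) for helper88's S2786 farm U3O (helper32): the field equation behind three transvections with
prescribed trace (`q` odd); (SQ) is helper41's `Cfsg.Agent.Helper41.U3O.exists_sq_value`
-/

set_option autoImplicit false

namespace Cfsg.Agent.Helper32.U3O

open Matrix Polynomial Cfsg.Agent.Helper84.RU3 Cfsg.Agent.Helper86.RU3 Cfsg.Agent.Helper45.GU
  Cfsg.Agent.S2587 Cfsg.Agent.Helper38.Cov2 Cfsg.Agent.Helper97.U3E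

variable {F : Type*} [Field F]

/-- (TRA) with (SQ) as a hypothesis -/
theorem TRA_exists_trace_params_of [Fintype F] (q : ℕ) (hq : Odd q) (hF : Fintype.card F = q ^ 2)
    (bar : F →+* F) (hbar : ∀ x, bar x = x ^ q)
    (hSQ : ∀ L c e : F, bar L = L → bar c = c → bar e = e → L ≠ 0 →
      ∃ x y : F, bar x = x ∧ bar y = y ∧ L * x ^ 2 + c * x + e = y ^ 2)
    (b : F) (hb : bar b = -b) (hb0 : b ≠ 0)
    (τ : F) (hτ : bar τ ≠ τ) :
    ∃ a₂ a₃ g : F, bar a₂ = -a₂ ∧ bar a₃ = -a₃ ∧ a₂ ≠ 0 ∧ a₃ ≠ 0 ∧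
      3 + b * a₂ + b * a₃ + a₂ * a₃ * (g * bar g) + b * a₂ * a₃ * bar g = τ := by
  have hb2 : ∀ x, bar (bar x) = x := by
    intro x
    rw [hbar, hbar, ← pow_mul, ← sq, ← hF, FiniteField.pow_card]
  have h2 : (2 : F) ≠ 0 := by
    intro h
    have hc : ringChar F = 2 :=
      CharP.ringChar_of_prime_eq_zero Nat.prime_two (by exact_mod_cast h)
    have h3 := FiniteField.even_card_of_char_two hc
    rw [hF] at h3
    have h4 : Odd (q ^ 2) := hq.pow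
    rw [Nat.odd_iff] at h4
    omega
  have h4 : (4 : F) ≠ 0 := by
    have : (4 : F) = 2 * 2 := by norm_num
    rw [this]
    exact mul_ne_zero h2 h2
  have hbar2 : bar 2 = 2 := map_ofNat bar 2
  have hbar3 : bar 3 = 3 := map_ofNat bar 3
  have hbar4 : bar 4 = 4 := map_ofNat bar 4
  obtain ⟨E, hE⟩ : ∃ E : F, E = b * b := ⟨_, rfl⟩
  have hE0 : E ≠ 0 := by rw [hE]; exact mul_ne_zero hb0 hb0
  have hEb : bar E = E := by rw [hE, map_mul, hb]; ring
  obtain ⟨σ, hσ⟩ : ∃ σ : F, σ = (τ - 3) / E := ⟨_, rfl⟩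
  have hτσ : τ = 3 + E * σ := by rw [hσ]; field_simp; ring
  obtain ⟨σ₀, hσ₀⟩ : ∃ σ₀ : F, σ₀ = (σ + bar σ) / 2 := ⟨_, rfl⟩
  obtain ⟨σ₁, hσ₁⟩ : ∃ σ₁ : F, σ₁ = (σ - bar σ) / (2 * b) := ⟨_, rfl⟩
  have hσ₀b : bar σ₀ = σ₀ := by
    rw [hσ₀, map_div₀, map_add, hb2, hbar2, add_comm]
  have hσ₁b : bar σ₁ = σ₁ := by
    rw [hσ₁, map_div₀, map_sub, hb2, map_mul, hbar2, hb]
    field_simp
    ring
  have hσdec : σ = σ₀ + σ₁ * b := by
    rw [hσ₀, hσ₁]
    field_simp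
    ring
  have hσ₁0 : σ₁ ≠ 0 := by
    intro h0
    apply hτ
    have h5 : σ - bar σ = 0 := by
      rw [hσ₁, div_eq_zero_iff] at h0
      rcases h0 with h0 | h0
      · exact h0
      · exact absurd h0 (mul_ne_zero h2 hb0)
    have h6 : bar σ = σ := (sub_eq_zero.1 h5).symm
    rw [hτσ, map_add, map_mul, hbar3, hEb, h6]
  obtain ⟨δ, hδ⟩ : ∃ δ : F, δ = 4 / E := ⟨_, rfl⟩
  have hδE : δ * E = 4 := by rw [hδ]; field_simp
  have hδ0 : δ ≠ 0 := by
    intro h0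
    rw [h0, zero_mul] at hδE
    exact h4 hδE.symm
  have hδb : bar δ = δ := by rw [hδ, map_div₀, hbar4, hEb]
  -- the square value
  obtain ⟨G₀, Y, hG₀b, hYb, heq⟩ := hSQ 2 (-2 * (σ₀ - δ)) ((σ₀ - δ) ^ 2 - σ₁ ^ 2 * E) hbar2
    (by rw [map_mul, map_neg, hbar2, map_sub, hσ₀b, hδb])
    (by rw [map_sub, map_pow, map_sub, hσ₀b, hδb, map_mul, map_pow, hσ₁b, hEb]) h2
  obtain ⟨B, hB⟩ : ∃ B : F, B = σ₀ - G₀ - δ := ⟨_, rfl⟩
  obtain ⟨N, hN⟩ : ∃ N : F, N = G₀ ^ 2 - σ₁ ^ 2 * E := ⟨_, rfl⟩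
  have hBN : B ^ 2 + N = Y ^ 2 := by
    rw [hB, hN]
    linear_combination heq
  have hBb : bar B = B := by rw [hB, map_sub, map_sub, hσ₀b, hG₀b, hδb]
  obtain ⟨G, hG⟩ : ∃ G : F, G = G₀ + σ₁ * b := ⟨_, rfl⟩
  have hGb : bar G = G₀ - σ₁ * b := by
    rw [hG, map_add, map_mul, hG₀b, hσ₁b, hb]
    ring
  have hGN : G * bar G = N := by
    rw [hGb, hG, hN, hE]
    ring
  have hG0 : G ≠ 0 := by
    intro h0
    have h5 : bar G = 0 := by rw [h0, map_zero]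
    rw [hGb] at h5
    rw [hG] at h0
    have h6 : 2 * (σ₁ * b) = 0 := by linear_combination h0 - h5
    rcases mul_eq_zero.1 h6 with h7 | h7
    · exact h2 h7
    · rcases mul_eq_zero.1 h7 with h8 | h8
      · exact hσ₁0 h8
      · exact hb0 h8
  have hGb0 : bar G ≠ 0 := fun h0 => hG0 ((map_eq_zero bar).1 h0)
  have hN0 : N ≠ 0 := by rw [← hGN]; exact mul_ne_zero hG0 hGb0
  obtain ⟨α, hα⟩ : ∃ α : F, α = (B + Y) / 2 := ⟨_, rfl⟩
  have hαb : bar α = α := by rw [hα, map_div₀, map_add, hBb, hYb, hbar2]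
  have hαeq : 4 * (α * (α - B)) = N := by
    rw [hα]
    have h5 : (4 : F) * ((B + Y) / 2 * ((B + Y) / 2 - B)) = (B + Y) * (Y - B) := by
      field_simp
      ring
    rw [h5]
    linear_combination -hBN
  have hα0 : α ≠ 0 := by
    intro h0
    rw [h0, zero_mul, mul_zero] at hαeq
    exact hN0 hαeq.symm
  have hδα : δ * α ≠ 0 := mul_ne_zero hδ0 hα0
  have hden : δ * α * b ≠ 0 := mul_ne_zero hδα hb0
  refine ⟨δ * b, α * b, bar (G / (δ * α * b)), ?_, ?_, mul_ne_zero hδ0 hb0, mul_ne_zero hα0 hb0, ?_⟩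
  · rw [map_mul, hδb, hb]; ring
  · rw [map_mul, hαb, hb]; ring
  · rw [hb2]
    have hg : bar (G / (δ * α * b)) = -(bar G / (δ * α * b)) := by
      rw [map_div₀, map_mul, map_mul, hδb, hαb, hb]
      field_simp
    rw [hg]
    have e1 : b * (δ * b) = 4 := by rw [← hδE, hE]; ring
    have e2 : δ * b * (α * b) * (-(bar G / (δ * α * b)) * (G / (δ * α * b))) = -(E * (α - B)) := by
      have : δ * b * (α * b) * (-(bar G / (δ * α * b)) * (G / (δ * α * b))) = -(G * bar G) / (δ * α) := by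
        field_simp
      rw [this, hGN, neg_div, neg_inj, div_eq_iff hδα]
      rw [← hαeq, ← hδE]
      ring
    have e3 : b * (δ * b) * (α * b) * (G / (δ * α * b)) = E * G := by
      rw [hE]
      field_simp
    rw [e3, e2, e1, hτσ, hσdec, hG, hB]
    have e4 : b * (α * b) = α * E := by rw [hE]; ring
    rw [e4]
    linear_combination -hδE

/-- (TRA) the field equation behind three transvections with prescribed trace (`q` odd). -/
theorem exists_trace_params [Fintype F] (q : ℕ) (hq : Odd q) (hF : Fintype.card F = q ^ 2)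
    (bar : F →+* F) (hbar : ∀ x, bar x = x ^ q) (b : F) (hb : bar b = -b) (hb0 : b ≠ 0)
    (τ : F) (hτ : bar τ ≠ τ) :
    ∃ a₂ a₃ g : F, bar a₂ = -a₂ ∧ bar a₃ = -a₃ ∧ a₂ ≠ 0 ∧ a₃ ≠ 0 ∧
      3 + b * a₂ + b * a₃ + a₂ * a₃ * (g * bar g) + b * a₂ * a₃ * bar g = τ :=
  TRA_exists_trace_params_of q hq hF bar hbar
    (fun L c e hL hc he hL0 =>
      Cfsg.Agent.Helper41.U3O.exists_sq_value q hq hF bar hbar L c e hL hc he hL0)
    b hb hb0 τ hτ

end Cfsg.Agent.Helper32.U3O
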