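import Mathlib
import Cfsg.Agent.Helper88.U3O.Defs

/-!
# (TRB) for helper88's S2786 farm U3O (helper32): isotropic vectors with a prescribed Gram matrix
-/

set_option autoImplicit false

namespace Cfsg.Agent.Helper32.U3O

open Matrix Polynomial Cfsg.Agent.Helper84.RU3 Cfsg.Agent.Helper86.RU3 Cfsg.Agent.Helper45.GU
  Cfsg.Agent.S2587 Cfsg.Agent.Helper38.Cov2 Cfsg.Agent.Helper97.U3E

variable {F : Type*} [Field F]

theorem TRB_herm_form (bar : F →+* F) {P : Matrix (Fin 3) (Fin 3) F} (hJ : st bar P * P = J0)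
    (x y : Fin 3 → F) :
    herm bar (P *ᵥ x) (P *ᵥ y) = x 0 * bar (y 2) + x 1 * bar (y 1) + x 2 * bar (y 0) := by
  rw [herm_mulVec, Cfsg.Agent.Helper88.U3O.hkey_of bar hJ]
  simp [Jm, dotProduct, Matrix.mulVec, Fin.sum_univ_three]

/-- (TRB) isotropic vectors with a prescribed Gram matrix `[[0,1,1],[1,0,g],[1,bar g,0]]` (any `q`). -/
theorem exists_gram [Fintype F] (q : ℕ) (hF : Fintype.card F = q ^ 2)
    (bar : F →+* F) (hbar : ∀ x, bar x = x ^ q) (w : Fin 3 → F) (hw0 : w ≠ 0) (hw : herm bar w w = 0)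
    (g : F) :
    ∃ p₂ p₃ : Fin 3 → F, p₂ ≠ 0 ∧ p₃ ≠ 0 ∧ herm bar p₂ p₂ = 0 ∧ herm bar p₃ p₃ = 0 ∧
      herm bar w p₂ = 1 ∧ herm bar p₂ w = 1 ∧ herm bar w p₃ = 1 ∧ herm bar p₃ w = 1 ∧
      herm bar p₂ p₃ = g ∧ herm bar p₃ p₂ = bar g := by
  have hb2 : ∀ x, bar (bar x) = x := by
    intro x
    rw [hbar, hbar, ← pow_mul, ← sq, ← hF, FiniteField.pow_card]
  obtain ⟨P, P', hPP', hP'P, hJ, hPw⟩ := Cfsg.Agent.Helper75.P5.exists_hyp_basis hF bar hbar w hw0 hw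
  obtain ⟨y, hy⟩ := norm_surj' hF bar hbar (-(g + bar g)) (by
    rw [map_neg, map_add, hb2, add_comm])
  have hinj : ∀ x : Fin 3 → F, P *ᵥ x = 0 → x = 0 := by
    intro x hx
    have := congrArg (fun v => P' *ᵥ v) hx
    simpa [Matrix.mulVec_mulVec, hP'P] using this
  have hform := TRB_herm_form bar hJ
  refine ⟨P *ᵥ ![0, 0, 1], P *ᵥ ![bar g, y, 1], ?_, ?_, ?_, ?_, ?_, ?_, ?_, ?_, ?_, ?_⟩
  · intro h
    have := congrFun (hinj _ h) 2
    simp at this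
  · intro h
    have := congrFun (hinj _ h) 2
    simp at this
  · rw [hform]; simp
  · rw [hform]
    simp [hb2]
    linear_combination hy
  · rw [← hPw, hform]; simp
  · rw [← hPw, hform]; simp
  · rw [← hPw, hform]; simp
  · rw [← hPw, hform]; simp
  · rw [hform]; simp [hb2]
  · rw [hform]; simp

end Cfsg.Agent.Helper32.U3O
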