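import Mathlib
import Cfsg.Agent.Helper20.Dihedral

set_option autoImplicit false

/-!
# Involutions fixing a unique point of `G / H`

`UFix z H`: the involution `z` lies in a unique conjugate of `H` (namely `H`), and so does `z * t` for every
conjugate `t ≠ z` of `z` commuting with `z`. (Aschbacher, *A condition for the existence of a strongly embedded
subgroup*.) Main results: products of conjugates of `z` with different fixed points have odd order, and `z` lies in the
centre of a Sylow 2-subgroup.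
-/

namespace Cfsg.Agent.Helper32

open Cfsg.Agent.Helper20

variable {G : Type*} [Group G]

theorem mem_map_conj_iff (H : Subgroup G) (g a : G) :
    a ∈ H.map (MulAut.conj g).toMonoidHom ↔ g⁻¹ * a * g ∈ H := by
  constructor
  · rintro ⟨x, hx, rfl⟩
    have : g⁻¹ * ((MulAut.conj g).toMonoidHom x) * g = x := by
      simp [MulAut.conj_apply, mul_assoc]
    rw [this]; exact hx
  · intro h
    refine ⟨g⁻¹ * a * g, h, ?_⟩
    simp [MulAut.conj_apply, mul_assoc]

/-- parity of a finite set with an involution -/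
theorem card_mod_two_eq_card_fixed {α : Type*} [DecidableEq α] (X : Finset α) (σ : α → α)
    (hmem : ∀ x ∈ X, σ x ∈ X) (hinv : ∀ x ∈ X, σ (σ x) = x) :
    X.card % 2 = (X.filter (fun x => σ x = x)).card % 2 := by
  have h1 := Finset.card_filter_add_card_filter_not (s := X) (fun x => σ x = x)
  have h2 : 2 ∣ (X.filter (fun x => ¬ σ x = x)).card := by
    have h := Finset.sum_involution (s := X.filter (fun x => ¬ σ x = x)) (f := fun _ => (1 : ZMod 2))
      (fun a _ => σ a) (fun _ _ => by decide) (fun a ha _ => (Finset.mem_filter.mp ha).2)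
      (fun a ha => by
        obtain ⟨haX, hne⟩ := Finset.mem_filter.mp ha
        refine Finset.mem_filter.mpr ⟨hmem a haX, ?_⟩
        rw [hinv a haX]
        exact fun h => hne h.symm)
      (fun a ha => hinv a (Finset.mem_filter.mp ha).1)
    rw [Finset.sum_const, nsmul_eq_mul, mul_one] at h
    exact (ZMod.natCast_eq_zero_iff _ _).mp h
  omega

/-- square roots are unique among elements of odd order -/
theorem eq_of_sq_eq_of_odd {x y : G} (hx : Odd (orderOf x)) (hy : Odd (orderOf y)) (h : x ^ 2 = y ^ 2) :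
    x = y := by
  obtain ⟨k, hk⟩ := hx.mul hy
  have hx1 : x ^ (orderOf x * orderOf y + 1) = x := by
    rw [pow_succ, pow_mul, pow_orderOf_eq_one, one_pow, one_mul]
  have hy1 : y ^ (orderOf x * orderOf y + 1) = y := by
    rw [pow_succ, mul_comm, pow_mul, pow_orderOf_eq_one, one_pow, one_mul]
  have e : orderOf x * orderOf y + 1 = 2 * (k + 1) := by omega
  rw [e, pow_mul] at hx1 hy1
  rw [← hx1, ← hy1, h]

/-- The involution `z` fixes a unique point of `G / H`, and so does `z * t` for each conjugate `t ≠ z` of `z`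
commuting with `z`. -/
structure UFix (z : G) (H : Subgroup G) : Prop where
  sq : z * z = 1
  ne_one : z ≠ 1
  fix : ∀ g : G, g⁻¹ * z * g ∈ H ↔ g ∈ H
  prod : ∀ t : G, IsConj z t → t ≠ z → t * z = z * t → ∀ g : G, g⁻¹ * (z * t) * g ∈ H ↔ g ∈ H

namespace UFix

variable {z : G} {H : Subgroup G}

theorem z_mem (h : UFix z H) : z ∈ H := by
  have := (h.fix 1).mpr H.one_mem
  simpa using this

theorem mem_of_commute (h : UFix z H) {d : G} (hd : d * z = z * d) : d ∈ H := by
  apply (h.fix d).mp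
  have : d⁻¹ * z * d = z := by rw [mul_assoc, ← hd, ← mul_assoc, inv_mul_cancel, one_mul]
  rw [this]; exact h.z_mem

theorem fix_conj (h : UFix z H) (k g : G) : g⁻¹ * (k * z * k⁻¹) * g ∈ H ↔ k⁻¹ * g ∈ H := by
  rw [← h.fix (k⁻¹ * g)]
  have : (k⁻¹ * g)⁻¹ * z * (k⁻¹ * g) = g⁻¹ * (k * z * k⁻¹) * g := by group
  rw [this]

theorem sq_conj (h : UFix z H) (k : G) : (k * z * k⁻¹) * (k * z * k⁻¹) = 1 := by
  have : (k * z * k⁻¹) * (k * z * k⁻¹) = k * (z * z) * k⁻¹ := by group
  rw [this, h.sq]; group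

theorem sq_of_isConj (h : UFix z H) {a : G} (ha : IsConj z a) : a * a = 1 := by
  obtain ⟨k, rfl⟩ := isConj_iff.mp ha
  exact h.sq_conj k

theorem prod_conj (h : UFix z H) (k : G) {t : G} (ht : IsConj z t) (hne : t ≠ k * z * k⁻¹)
    (hc : t * (k * z * k⁻¹) = (k * z * k⁻¹) * t) (g : G) :
    g⁻¹ * ((k * z * k⁻¹) * t) * g ∈ H ↔ k⁻¹ * g ∈ H := by
  have ht' : IsConj z (k⁻¹ * t * k) := by
    obtain ⟨c, rfl⟩ := isConj_iff.mp ht
    exact isConj_iff.mpr ⟨k⁻¹ * c, by group⟩
  have hne' : k⁻¹ * t * k ≠ z := by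
    intro e
    apply hne
    rw [← e]; group
  have hc' : (k⁻¹ * t * k) * z = z * (k⁻¹ * t * k) := by
    calc (k⁻¹ * t * k) * z = k⁻¹ * (t * (k * z * k⁻¹)) * k := by group
      _ = k⁻¹ * ((k * z * k⁻¹) * t) * k := by rw [hc]
      _ = z * (k⁻¹ * t * k) := by group
  rw [← h.prod _ ht' hne' hc' (k⁻¹ * g)]
  have : (k⁻¹ * g)⁻¹ * (z * (k⁻¹ * t * k)) * (k⁻¹ * g) = g⁻¹ * ((k * z * k⁻¹) * t) * g := by group
  rw [this]

/-- Conjugates of `z` with different fixed points have a product of odd order. -/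
theorem odd_orderOf_mul [Finite G] (h : UFix z H) {a b : G} (ha : IsConj z a) (hb : IsConj z b) (g : G)
    (hag : g⁻¹ * a * g ∈ H) (hbg : g⁻¹ * b * g ∉ H) : Odd (orderOf (a * b)) := by
  by_contra hodd
  rw [Nat.not_odd_iff_even] at hodd
  obtain ⟨m, hm⟩ := hodd
  have hm2 : orderOf (a * b) = 2 * m := by rw [hm, two_mul]
  have hmpos : 0 < m := by
    have := orderOf_pos (a * b)
    omega
  have haa := h.sq_of_isConj ha
  have hbb := h.sq_of_isConj hb
  obtain ⟨hconj, hwne, hwc, hwa, hcc, hc1⟩ := dihedral_middle haa hbb hmpos hm2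
  obtain ⟨k, rfl⟩ := isConj_iff.mp ha
  obtain ⟨l, rfl⟩ := isConj_iff.mp hb
  set a := k * z * k⁻¹ with ha_def
  set b := l * z * l⁻¹ with hb_def
  set c := (a * b) ^ m with hc_def
  have hw : IsConj z (c * a) := by
    rcases hconj with ⟨d, hd⟩ | ⟨d, hd⟩
    · rw [← hd]
      exact isConj_iff.mpr ⟨d * k, by rw [ha_def]; group⟩
    · rw [← hd]
      exact isConj_iff.mpr ⟨d * l, by rw [hb_def]; group⟩
  have key := h.prod_conj k hw hwne hwc.eq.symm l
  have haw : a * (c * a) = c := by rw [hwc.eq]; exact hwa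
  rw [haw] at key
  have hcinv : c⁻¹ = c := inv_eq_self_of_sq hcc
  have hbc : b * c * b = c := by
    have := inv_conj_mul_pow' haa hbb m
    rw [← hc_def, hcinv] at this
    exact this
  have hbc' : b * c = c * b := by
    calc b * c = b * c * (b * b) := by rw [hbb, mul_one]
      _ = (b * c * b) * b := by group
      _ = c * b := by rw [hbc]
  have hmem : l⁻¹ * c * l ∈ H := by
    apply h.mem_of_commute
    calc l⁻¹ * c * l * z = l⁻¹ * (c * b) * l := by rw [hb_def]; group
      _ = l⁻¹ * (b * c) * l := by rw [hbc']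
      _ = z * (l⁻¹ * c * l) := by rw [hb_def]; group
  have hkl : k⁻¹ * l ∈ H := key.mp hmem
  have hkg : k⁻¹ * g ∈ H := (h.fix_conj k g).mp hag
  apply hbg
  rw [h.fix_conj l g]
  have : l⁻¹ * g = (k⁻¹ * l)⁻¹ * (k⁻¹ * g) := by group
  rw [this]
  exact H.mul_mem (H.inv_mem hkl) hkg

theorem conj_eq_iff (h : UFix z H) (b : G) : z * b * z = b ↔ b * z = z * b := by
  constructor
  · intro e
    calc b * z = (z * b * z) * z := by rw [e]
      _ = z * b * (z * z) := by group
      _ = z * b := by rw [h.sq, mul_one]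
  · intro e
    calc z * b * z = z * (b * z) := by group
      _ = z * z * b := by rw [e]; group
      _ = b := by rw [h.sq, one_mul]

theorem z_inv (h : UFix z H) : z⁻¹ = z := inv_eq_self_of_sq h.sq

theorem isConj_conj (h : UFix z H) {b : G} (hb : IsConj z b) : IsConj z (z * b * z) := by
  obtain ⟨c, rfl⟩ := isConj_iff.mp hb
  refine isConj_iff.mpr ⟨z * c, ?_⟩
  rw [mul_inv_rev, h.z_inv]; group

theorem conj_conj (h : UFix z H) (b : G) : z * (z * b * z) * z = b := by
  calc z * (z * b * z) * z = (z * z) * b * (z * z) := by group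
    _ = b := by rw [h.sq, one_mul, mul_one]

open Classical in
/-- The number of conjugates of `z` is odd. -/
theorem odd_card_isConj [Fintype G] (h : UFix z H) (hH : H ≠ ⊤) :
    (Finset.univ.filter (fun b : G => IsConj z b)).card % 2 = 1 := by
  obtain ⟨g₀, hg₀⟩ : ∃ g₀ : G, g₀ ∉ H := by
    by_contra hcon
    push_neg at hcon
    exact hH (eq_top_iff.mpr (fun x _ => hcon x))
  have hzg₀ : g₀⁻¹ * z * g₀ ∉ H := fun hh => hg₀ ((h.fix g₀).mp hh)
  set a := g₀ * z * g₀⁻¹ with ha_def
  have haK : IsConj z a := isConj_iff.mpr ⟨g₀, rfl⟩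
  have haa : a * a = 1 := h.sq_conj g₀
  have hag₀ : g₀⁻¹ * a * g₀ ∈ H := by
    have : g₀⁻¹ * a * g₀ = z := by rw [ha_def]; group
    rw [this]; exact h.z_mem
  have hzi := h.z_inv
  set K := Finset.univ.filter (fun b : G => IsConj z b) with hK
  set A := Finset.univ.filter (fun b : G => IsConj z b ∧ b * z = z * b) with hA
  set J := Finset.univ.filter (fun b : G => IsConj z b ∧ b ∈ H) with hJ
  set J₂ := Finset.univ.filter (fun b : G => IsConj z b ∧ (z * g₀)⁻¹ * b * (z * g₀) ∈ H) with hJ₂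
  set Y := Finset.univ.filter (fun c : G => IsConj z c ∧ (z * g₀)⁻¹ * c * g₀ ∈ H) with hY
  -- (i)
  have h1 : K.card % 2 = A.card % 2 := by
    have := card_mod_two_eq_card_fixed K (fun b => z * b * z)
      (fun b hb => Finset.mem_filter.mpr ⟨Finset.mem_univ _, h.isConj_conj (Finset.mem_filter.mp hb).2⟩)
      (fun b _ => h.conj_conj b)
    rw [this]
    congr 2
    ext b
    simp only [hK, hA, Finset.mem_filter, Finset.mem_univ, true_and]
    rw [h.conj_eq_iff]
  -- (ii)
  have h2 : J.card % 2 = A.card % 2 := by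
    have := card_mod_two_eq_card_fixed J (fun b => z * b * z)
      (fun b hb => by
        obtain ⟨-, hbK, hbH⟩ := Finset.mem_filter.mp hb
        exact Finset.mem_filter.mpr ⟨Finset.mem_univ _, h.isConj_conj hbK,
          H.mul_mem (H.mul_mem h.z_mem hbH) h.z_mem⟩)
      (fun b _ => h.conj_conj b)
    rw [this]
    congr 2
    ext b
    simp only [hJ, hA, Finset.mem_filter, Finset.mem_univ, true_and]
    rw [h.conj_eq_iff]
    constructor
    · rintro ⟨⟨hb, -⟩, hc⟩; exact ⟨hb, hc⟩
    · rintro ⟨hb, hc⟩; exact ⟨⟨hb, h.mem_of_commute hc⟩, hc⟩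
  -- (iii)
  have h3 : J₂.card = J.card := by
    apply Finset.card_nbij' (fun b => (z * g₀)⁻¹ * b * (z * g₀)) (fun b => (z * g₀) * b * (z * g₀)⁻¹)
    · intro b hb
      obtain ⟨-, hbK, hbH⟩ := Finset.mem_filter.mp hb
      refine Finset.mem_filter.mpr ⟨Finset.mem_univ _, ?_, hbH⟩
      obtain ⟨c, rfl⟩ := isConj_iff.mp hbK
      exact isConj_iff.mpr ⟨(z * g₀)⁻¹ * c, by group⟩
    · intro b hb
      obtain ⟨-, hbK, hbH⟩ := Finset.mem_filter.mp hb
      refine Finset.mem_filter.mpr ⟨Finset.mem_univ _, ?_, ?_⟩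
      · obtain ⟨c, rfl⟩ := isConj_iff.mp hbK
        exact isConj_iff.mpr ⟨(z * g₀) * c, by group⟩
      · have : (z * g₀)⁻¹ * ((z * g₀) * b * (z * g₀)⁻¹) * (z * g₀) = b := by group
        rw [this]; exact hbH
    · intro b _; group
    · intro b _; group
  -- elements of `Y` do not fix the coset of `g₀`
  have hYnot : ∀ c ∈ Y, g₀⁻¹ * c * g₀ ∉ H := by
    intro c hc hcon
    obtain ⟨-, hcK, hcH⟩ := Finset.mem_filter.mp hc
    apply hzg₀
    have : g₀⁻¹ * z * g₀ = (g₀⁻¹ * c * g₀) * ((z * g₀)⁻¹ * c * g₀)⁻¹ := by group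
    rw [this]
    exact H.mul_mem hcon (H.inv_mem hcH)
  have hJ₂not : ∀ b ∈ J₂, g₀⁻¹ * b * g₀ ∉ H := by
    intro b hb hcon
    obtain ⟨-, hbK, hbH⟩ := Finset.mem_filter.mp hb
    obtain ⟨l, rfl⟩ := isConj_iff.mp hbK
    rw [h.fix_conj] at hbH hcon
    apply hzg₀
    have : g₀⁻¹ * z * g₀ = (l⁻¹ * g₀)⁻¹ * (l⁻¹ * (z * g₀)) := by group
    rw [this]
    exact H.mul_mem (H.inv_mem hcon) hbH
  -- (iv)
  have h4 : Y.card = J₂.card := by
    apply Finset.card_bij (fun c _ => c * a * c⁻¹)
    · intro c hc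
      obtain ⟨-, hcK, hcH⟩ := Finset.mem_filter.mp hc
      refine Finset.mem_filter.mpr ⟨Finset.mem_univ _, ?_, ?_⟩
      · exact isConj_iff.mpr ⟨c * g₀, by rw [ha_def]; group⟩
      · have : (z * g₀)⁻¹ * (c * a * c⁻¹) * (z * g₀) =
            ((z * g₀)⁻¹ * c * g₀) * z * ((z * g₀)⁻¹ * c * g₀)⁻¹ := by rw [ha_def]; group
        rw [this]
        exact H.mul_mem (H.mul_mem hcH h.z_mem) (H.inv_mem hcH)
    · intro c₁ hc₁ c₂ hc₂ he
      have hc₁K := (Finset.mem_filter.mp hc₁).2.1
      have hc₂K := (Finset.mem_filter.mp hc₂).2.1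
      have hi₁ : c₁⁻¹ = c₁ := inv_eq_self_of_sq (h.sq_of_isConj hc₁K)
      have hi₂ : c₂⁻¹ = c₂ := inv_eq_self_of_sq (h.sq_of_isConj hc₂K)
      have ho₁ := h.odd_orderOf_mul haK hc₁K g₀ hag₀ (hYnot c₁ hc₁)
      have ho₂ := h.odd_orderOf_mul haK hc₂K g₀ hag₀ (hYnot c₂ hc₂)
      have hsq : (a * c₁) ^ 2 = (a * c₂) ^ 2 := by
        have e₁ : (a * c₁) ^ 2 = a * (c₁ * a * c₁⁻¹) := by rw [hi₁, pow_two]; group
        have e₂ : (a * c₂) ^ 2 = a * (c₂ * a * c₂⁻¹) := by rw [hi₂, pow_two]; group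
        rw [e₁, e₂, he]
      exact mul_left_cancel (eq_of_sq_eq_of_odd ho₁ ho₂ hsq)
    · intro b hb
      obtain ⟨-, hbK, hbH⟩ := Finset.mem_filter.mp hb
      have hbb : b * b = 1 := h.sq_of_isConj hbK
      have ho := h.odd_orderOf_mul haK hbK g₀ hag₀ (hJ₂not b hb)
      obtain ⟨m', hm'⟩ := ho
      set d := a * b with hd
      set m := m' + 1 with hm
      have hd2m : d ^ (2 * m) = d := by
        have : 2 * m = orderOf d + 1 := by omega
        rw [this, pow_succ, pow_orderOf_eq_one, one_mul]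
      set e := d ^ m with he
      have hee : e * e = d := by rw [he, ← pow_add, ← two_mul, hd2m]
      have haea : a * e * a = e⁻¹ := inv_conj_mul_pow haa hbb m
      set c := a * e with hc
      have hcc : c * c = 1 := by
        calc c * c = (a * e * a) * e := by rw [hc]; group
          _ = 1 := by rw [haea, inv_mul_cancel]
      have hci : c⁻¹ = c := inv_eq_self_of_sq hcc
      have hcac : c * a * c⁻¹ = b := by
        rw [hci]
        calc c * a * c = a * e * (a * a) * e := by rw [hc]; group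
          _ = a * (e * e) := by rw [haa]; group
          _ = b := by rw [hee, hd, ← mul_assoc, haa, one_mul]
      have hcK : IsConj z c := by
        set f := (d ^ (m * m))⁻¹ with hf
        have hff : f * f = e⁻¹ := by
          rw [hf, ← mul_inv_rev, ← pow_add, ← two_mul, ← mul_assoc, pow_mul, hd2m]
        have hafa : a * f * a = f⁻¹ := by
          have := inv_conj_mul_pow haa hbb (m * m)
          rw [hf, inv_inv]
          have hai : a⁻¹ = a := inv_eq_self_of_sq haa
          calc a * (d ^ (m * m))⁻¹ * a = a⁻¹ * (d ^ (m * m))⁻¹ * a⁻¹ := by rw [hai]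
            _ = (a * d ^ (m * m) * a)⁻¹ := by group
            _ = d ^ (m * m) := by rw [this, inv_inv]
        have hconj := conj_of_inverts haa hafa
        rw [hff] at hconj
        have hce : c = e⁻¹ * a := by
          rw [← haea]
          calc c = a * e * (a * a) := by rw [haa, mul_one]
            _ = a * e * a * a := by group
        rw [hce, ← hconj]
        exact isConj_iff.mpr ⟨f * g₀, by rw [ha_def]; group⟩
      refine ⟨c, ?_, hcac⟩
      refine Finset.mem_filter.mpr ⟨Finset.mem_univ _, hcK, ?_⟩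
      have hb' : b = (c * g₀) * z * (c * g₀)⁻¹ := by rw [← hcac, ha_def]; group
      rw [hb', h.fix_conj] at hbH
      have : (z * g₀)⁻¹ * c * g₀ = ((c * g₀)⁻¹ * (z * g₀))⁻¹ := by group
      rw [this]
      exact H.inv_mem hbH
  -- (v)
  have h5 : Y.card % 2 = 1 := by
    have := card_mod_two_eq_card_fixed Y (fun b => z * b * z)
      (fun c hc => by
        obtain ⟨-, hcK, hcH⟩ := Finset.mem_filter.mp hc
        refine Finset.mem_filter.mpr ⟨Finset.mem_univ _, h.isConj_conj hcK, ?_⟩
        have hci : c⁻¹ = c := inv_eq_self_of_sq (h.sq_of_isConj hcK)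
        have : (z * g₀)⁻¹ * (z * c * z) * g₀ = ((z * g₀)⁻¹ * c * g₀)⁻¹ := by
          calc (z * g₀)⁻¹ * (z * c * z) * g₀ = g₀⁻¹ * c * (z * g₀) := by group
            _ = g₀⁻¹ * c⁻¹ * (z * g₀) := by rw [hci]
            _ = ((z * g₀)⁻¹ * c * g₀)⁻¹ := by group
        rw [this]
        exact H.inv_mem hcH)
      (fun b _ => h.conj_conj b)
    rw [this]
    have hfix : Y.filter (fun b => z * b * z = b) = {z} := by
      ext c
      simp only [Finset.mem_filter, Finset.mem_singleton]
      constructor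
      · rintro ⟨hc, hcz⟩
        obtain ⟨-, hcK, hcH⟩ := Finset.mem_filter.mp hc
        by_contra hne
        rw [h.conj_eq_iff] at hcz
        have := (h.prod c hcK hne hcz g₀).mp (by
          have : g₀⁻¹ * (z * c) * g₀ = (z * g₀)⁻¹ * c * g₀ := by
            rw [mul_inv_rev, hzi]; group
          rw [this]; exact hcH)
        exact hg₀ this
      · rintro rfl
        refine ⟨Finset.mem_filter.mpr ⟨Finset.mem_univ _, IsConj.refl _, ?_⟩, ?_⟩
        · have : (c * g₀)⁻¹ * c * g₀ = 1 := by group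
          rw [this]; exact H.one_mem
        · rw [mul_assoc, h.sq, mul_one]
    rw [hfix, Finset.card_singleton]
  omega

end UFix

open scoped Pointwise in
/-- An involution with an odd number of conjugates lies in the centre of a Sylow 2-subgroup. -/
theorem exists_sylow_center_of_odd_card_isConj [Finite G] (z : G) (hz2 : z * z = 1)
    (hodd : ¬ 2 ∣ Nat.card {b : G // IsConj z b}) :
    ∃ P : Sylow 2 G, z ∈ (Subgroup.center (P : Subgroup G)).map (P : Subgroup G).subtype := by
  obtain ⟨P₀⟩ : Nonempty (Sylow 2 G) := inferInstance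
  let act : MulAction (P₀ : Subgroup G) {b : G // IsConj z b} :=
    { smul := fun g b => ⟨(g : G) * b * (g : G)⁻¹, by
        obtain ⟨c, hc⟩ := isConj_iff.mp b.2
        exact isConj_iff.mpr ⟨(g : G) * c, by rw [← hc]; group⟩⟩
      one_smul := fun b => by
        apply Subtype.ext
        show ((1 : (P₀ : Subgroup G)) : G) * b * ((1 : (P₀ : Subgroup G)) : G)⁻¹ = b
        simp
      mul_smul := fun g g' b => by
        apply Subtype.ext
        show ((g * g' : (P₀ : Subgroup G)) : G) * b * ((g * g' : (P₀ : Subgroup G)) : G)⁻¹ =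
          (g : G) * ((g' : G) * b * (g' : G)⁻¹) * (g : G)⁻¹
        simp only [Subgroup.coe_mul]
        group }
  obtain ⟨b, hb⟩ := P₀.2.nonempty_fixed_point_of_prime_not_dvd_card {b : G // IsConj z b} hodd
  obtain ⟨k, hk⟩ := isConj_iff.mp b.2
  have hfix : ∀ x ∈ (P₀ : Subgroup G), x * (k * z * k⁻¹) * x⁻¹ = k * z * k⁻¹ := by
    intro x hx
    have := hb ⟨x, hx⟩
    have h2 : x * (b : G) * x⁻¹ = b := congrArg Subtype.val this
    rw [← hk] at h2
    exact h2
  set P : Sylow 2 G := k⁻¹ • P₀ with hP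
  have hmemP : ∀ y : G, y ∈ (P : Subgroup G) ↔ k * y * k⁻¹ ∈ (P₀ : Subgroup G) := by
    intro y
    rw [hP, Sylow.coe_subgroup_smul, Subgroup.mem_pointwise_smul_iff_inv_smul_mem]
    simp [MulAut.smul_def]
  have hcomm : ∀ y ∈ (P : Subgroup G), y * z = z * y := by
    intro y hy
    have := hfix _ ((hmemP y).mp hy)
    have e : y * z * y⁻¹ = k⁻¹ * ((k * y * k⁻¹) * (k * z * k⁻¹) * (k * y * k⁻¹)⁻¹) * k := by group
    have e2 : y * z * y⁻¹ = z := by rw [e, this]; group
    calc y * z = (y * z * y⁻¹) * y := by group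
      _ = z * y := by rw [e2]
  have hzP : z ∈ (P : Subgroup G) := by
    have hz2' : IsPGroup 2 (Subgroup.zpowers z) := by
      rintro ⟨g, hg⟩
      obtain ⟨n, rfl⟩ := Subgroup.mem_zpowers_iff.mp hg
      refine ⟨1, Subtype.ext ?_⟩
      have : (z ^ n) ^ 2 = 1 := by
        rw [← zpow_natCast, ← zpow_mul, mul_comm, zpow_mul, zpow_natCast, pow_two, hz2, one_zpow]
      simpa using this
    have hle : Subgroup.zpowers z ≤ Subgroup.normalizer ((P : Subgroup G) : Set G) := by
      rw [Subgroup.zpowers_le, Subgroup.mem_normalizer_iff]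
      intro y
      have hzi : z⁻¹ = z := inv_eq_self_of_sq hz2
      constructor
      · intro hy
        have : z * y * z⁻¹ = y := by
          rw [← hcomm y hy]; group
        rw [this]; exact hy
      · intro hy
        have h1 := hcomm _ hy
        have : y = z * y * z⁻¹ := by
          have h2 : z * y * z⁻¹ * z = z * (z * y * z⁻¹) := h1
          have h3 : z * y = z * (z * y * z⁻¹) := by
            calc z * y = z * y * z⁻¹ * z := by group
              _ = z * (z * y * z⁻¹) := h2
          exact mul_left_cancel h3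
        rw [this]; exact hy
    have hsup := hz2'.to_sup_of_normal_right' P.2 hle
    have := P.is_maximal' hsup le_sup_right
    rw [← this]
    exact Subgroup.mem_sup_left (Subgroup.mem_zpowers z)
  refine ⟨P, ⟨⟨z, hzP⟩, ?_, rfl⟩⟩
  rw [SetLike.mem_coe, Subgroup.mem_center_iff]
  intro y
  exact Subtype.ext (hcomm y y.2)

end Cfsg.Agent.Helper32
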